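import Cfsg.Agent.Walter.Setting

/-!
# Walter, rank three: basic facts about a minimal counterexample

All involutions are conjugate: the odd automizer of a Sylow 2-subgroup moves each of its seven
involutions, so it has a single orbit.
-/

set_option autoImplicit false
set_option linter.style.haveILetI false
set_option linter.unusedSectionVars false

open Subgroup

namespace CfsgLib.Walter

universe u

variable {G : Type u} [Group G] [Finite G]

namespace Minimal

variable (hG : Minimal G)
include hG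

theorem sylow_le_centralizer (S : Sylow 2 G) :
    (S : Subgroup G) ≤ centralizer ((S : Subgroup G) : Set G) := fun s hs =>
  mem_centralizer_iff.2 fun _ ht => (hG.sylow_comm S ht hs).eq

theorem sylow_le_centralizer_singleton (S : Sylow 2 G) {z : G} (hz : z ∈ (S : Subgroup G)) :
    (S : Subgroup G) ≤ centralizer ({z} : Set G) := fun _ hs =>
  mem_centralizer_singleton_iff.2 (hG.sylow_comm S hs hz).eq

theorem orderOf_sylow (S : Sylow 2 G) {s : G} (hs : s ∈ (S : Subgroup G)) (hs1 : s ≠ 1) :
    orderOf s = 2 :=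
  Small.orderOf_eq_two_iff_sq.2 ⟨hs1, hG.sq S s hs⟩

/-- The automizer of a Sylow subgroup moves every involution. -/
theorem exists_moves (S : Sylow 2 G) {s : G} (hs : s ∈ (S : Subgroup G)) (hs1 : s ≠ 1) :
    ∃ n ∈ normalizer ((S : Subgroup G) : Set G), n * s * n⁻¹ ≠ s := by
  haveI := hG.simple
  haveI : IsMulCommutative (S : Subgroup G) :=
    ⟨⟨fun a b => Subtype.ext (hG.sylow_comm S a.2 b.2).eq⟩⟩
  exact Inv53.exists_moves hG.not_comm S hs hs1

/-- An element with fixed conjugate: fusion in `S` is controlled by its normalizer. -/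
theorem exists_normalizer_conj (S : Sylow 2 G) {a b : G} (ha : a ∈ (S : Subgroup G))
    (hb : b ∈ (S : Subgroup G)) {g : G} (h : g * a * g⁻¹ = b) :
    ∃ n ∈ normalizer ((S : Subgroup G) : Set G), n * a * n⁻¹ = b := by
  haveI : Fact (Nat.Prime 2) := ⟨Nat.prime_two⟩
  haveI : IsMulCommutative (S : Subgroup G) :=
    ⟨⟨fun a b => Subtype.ext (hG.sylow_comm S a.2 b.2).eq⟩⟩
  obtain ⟨n, hn, he⟩ := S.conj_eq_normalizer_conj_of_mem a g⁻¹ ha
    (by rw [inv_inv, h]; exact hb)
  refine ⟨n⁻¹, inv_mem hn, ?_⟩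
  rw [inv_inv, ← he, inv_inv, h]

/-- Two involutions of a Sylow subgroup are conjugate in its normalizer. -/
theorem exists_conj_sylow (S : Sylow 2 G) {a b : G} (ha : a ∈ (S : Subgroup G)) (ha1 : a ≠ 1)
    (hb : b ∈ (S : Subgroup G)) (hb1 : b ≠ 1) :
    ∃ n ∈ normalizer ((S : Subgroup G) : Set G), n * a * n⁻¹ = b := by
  classical
  haveI : Fact (Nat.Prime 2) := ⟨Nat.prime_two⟩
  let N : Subgroup G := normalizer ((S : Subgroup G) : Set G)
  let I : Set G := {s | s ∈ (S : Subgroup G) ∧ s ≠ 1}
  have hI : I.ncard = 7 := by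
    have h : I = ((S : Subgroup G) : Set G) \ {1} := by ext s; rfl
    rw [h, Set.ncard_sdiff_singleton_of_mem (one_mem (S : Subgroup G)),
      ← Nat.card_coe_set_eq]
    show Nat.card (S : Subgroup G) - 1 = 7
    rw [hG.card S]
  letI act : MulAction N I :=
    { smul := fun n s => ⟨(n : G) * s * (n : G)⁻¹, (mem_normalizer_iff.1 n.2 s).1 s.2.1,
        fun h => s.2.2 (conj_eq_one_iff.1 h)⟩
      one_smul := fun s => Subtype.ext (show (1 : G) * s * (1 : G)⁻¹ = s by group)
      mul_smul := fun m n s => Subtype.ext (show ((m : G) * n) * s * ((m : G) * n)⁻¹ =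
        (m : G) * ((n : G) * s * (n : G)⁻¹) * (m : G)⁻¹ by group) }
  have hval : ∀ (n : N) (s : I), ((n • s : I) : G) = (n : G) * s * (n : G)⁻¹ := fun _ _ => rfl
  have hSN : ((S : Subgroup G).subgroupOf N).index % 2 = 1 := Nat.two_dvd_ne_zero.1 fun h =>
    S.not_dvd_index (h.trans (relIndex_dvd_index_of_le le_normalizer))
  have hodd : ∀ s : I, Nat.card (MulAction.orbit N s) % 2 = 1 ∧
      3 ≤ Nat.card (MulAction.orbit N s) := by
    intro s
    have hle : (S : Subgroup G).subgroupOf N ≤ MulAction.stabilizer N s := fun x hx =>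
      MulAction.mem_stabilizer_iff.2 (Subtype.ext (by
        rw [hval, (hG.sylow_comm S (mem_subgroupOf.1 hx) s.2.1).eq, mul_inv_cancel_right]))
    have hd : Nat.card (MulAction.orbit N s) ∣ ((S : Subgroup G).subgroupOf N).index := by
      rw [Nat.card_coe_set_eq, ← MulAction.index_stabilizer]
      exact index_dvd_of_le hle
    have h1 : Nat.card (MulAction.orbit N s) % 2 = 1 :=
      Nat.odd_iff.1 ((Nat.odd_iff.2 hSN).of_dvd_nat hd)
    refine ⟨h1, ?_⟩
    obtain ⟨n, hn, hne⟩ := hG.exists_moves S s.2.1 s.2.2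
    have h2 : Nat.card (MulAction.orbit N s) ≠ 1 := by
      intro e
      haveI : Subsingleton (MulAction.orbit N s) := (Nat.card_eq_one_iff_unique.1 e).1
      exact hne (congrArg (fun x : MulAction.orbit N s => ((x : I) : G))
        (Subsingleton.elim ⟨(⟨n, hn⟩ : N) • s, MulAction.mem_orbit _ _⟩
          ⟨s, MulAction.mem_orbit_self s⟩))
    omega
  set x : I := ⟨a, ha, ha1⟩
  set y : I := ⟨b, hb, hb1⟩
  suffices hy : y ∈ MulAction.orbit N x by
    obtain ⟨n, hn⟩ := hy
    exact ⟨n, n.2, congrArg Subtype.val hn⟩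
  by_contra hy
  have hd : Disjoint (MulAction.orbit N x) (MulAction.orbit N y) := by
    refine Set.disjoint_left.2 fun w hwx hwy => hy ?_
    rw [← MulAction.orbit_eq_iff.2 hwx, MulAction.orbit_eq_iff.2 hwy]
    exact MulAction.mem_orbit_self y
  have h7 : Nat.card I = 7 := by rw [Nat.card_coe_set_eq, hI]
  have hxy := hodd x
  have hyy := hodd y
  simp only [Nat.card_coe_set_eq] at hxy hyy
  by_cases hall : MulAction.orbit N x ∪ MulAction.orbit N y = Set.univ
  · have := congrArg Set.ncard hall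
    rw [Set.ncard_union_eq hd, Set.ncard_univ, h7] at this
    omega
  · obtain ⟨w, hw⟩ := (Set.ne_univ_iff_exists_notMem _).1 hall
    rw [Set.mem_union, not_or] at hw
    have hww := hodd w
    simp only [Nat.card_coe_set_eq] at hww
    have hd2 : Disjoint (MulAction.orbit N x ∪ MulAction.orbit N y) (MulAction.orbit N w) := by
      refine Set.disjoint_left.2 fun v hv hvw => ?_
      rcases hv with hv | hv
      · exact hw.1 (by rw [← MulAction.orbit_eq_iff.2 hv, MulAction.orbit_eq_iff.2 hvw]
                       exact MulAction.mem_orbit_self w)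
      · exact hw.2 (by rw [← MulAction.orbit_eq_iff.2 hv, MulAction.orbit_eq_iff.2 hvw]
                       exact MulAction.mem_orbit_self w)
    have := Set.ncard_le_ncard (Set.subset_univ
      (MulAction.orbit N x ∪ MulAction.orbit N y ∪ MulAction.orbit N w))
    rw [Set.ncard_union_eq hd2, Set.ncard_union_eq hd, Set.ncard_univ, h7] at this
    omega

/-- All involutions are conjugate. -/
theorem isConj {a b : G} (ha : orderOf a = 2) (hb : orderOf b = 2) : IsConj a b := by
  haveI : Fact (Nat.Prime 2) := ⟨Nat.prime_two⟩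
  obtain ⟨S, haS, -⟩ := hG.exists_sylow ha
  obtain ⟨T, hbT, -⟩ := hG.exists_sylow hb
  obtain ⟨c, hc⟩ := MulAction.exists_smul_eq G T S
  have hbS : c * b * c⁻¹ ∈ (S : Subgroup G) := hc ▸ ⟨b, hbT, rfl⟩
  obtain ⟨n, -, hn⟩ := hG.exists_conj_sylow S haS (Small.ne_one_of_orderOf_two ha) hbS
    (fun h => Small.ne_one_of_orderOf_two hb (conj_eq_one_iff.1 h))
  refine isConj_iff.2 ⟨c⁻¹ * n, ?_⟩
  rw [show c⁻¹ * n * a * (c⁻¹ * n)⁻¹ = c⁻¹ * (n * a * n⁻¹) * c by group, hn]
  group

end Minimal

end CfsgLib.Walter
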