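import Cfsg.Agent.Walter.Top
import Cfsg.Agent.AbelSolvCent.PSLElem

/-!
# Walter, rank three: `PSL₂(8)` and groups of Janko–Ree type

An involution centralizer of such a group has no nontrivial normal subgroup of odd order.
-/

set_option autoImplicit false
set_option linter.style.haveILetI false
set_option linter.unusedSectionVars false

open Subgroup

namespace CfsgLib.Walter

universe u

/-- An involution centralizer of `PSL₂(8)` or a Janko–Ree group has no odd normal subgroup. -/
theorem eq_bot_of_odd_normal {J : Type u} [Group J] [Finite J] (hJ : IsPSLEight J ∨ IsJR J) {t : J}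
    (ht : orderOf t = 2) {Y : Subgroup J} (hYC : Y ≤ centralizer ({t} : Set J))
    (hn : centralizer ({t} : Set J) ≤ normalizer (Y : Set J)) (hodd : Odd (Nat.card Y)) : Y = ⊥ := by
  refine eq_bot_iff.2 fun y hy => mem_bot.2 ?_
  have hyo : Odd (orderOf y) := hodd.of_dvd_nat (Y.orderOf_dvd_natCard hy)
  rcases hJ with ⟨F, iF, fF, h8, ⟨e⟩⟩ | ⟨-, hJR⟩
  · haveI : CharP F 2 := by
      obtain ⟨p, hp⟩ := CharP.exists F
      haveI := hp
      obtain ⟨n, hpp, hn'⟩ := FiniteField.card F p
      have h2 : p ∣ 2 ^ 3 := by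
        rw [show (2 : ℕ) ^ 3 = Fintype.card F by rw [h8]; norm_num, hn']
        exact dvd_pow_self p n.2.ne'
      exact (Nat.prime_dvd_prime_iff_eq hpp Nat.prime_two).1 (hpp.dvd_of_dvd_pow h2) ▸ hp
    have h := AbelSolvCent.psl2_centralizer_invol_sq (u := e t) (d := e y)
      (by rw [← map_mul, Small.mul_self_of_orderOf_two ht, map_one])
      (fun h => Small.ne_one_of_orderOf_two ht (e.injective (h.trans (map_one e).symm)))
      (by rw [← map_mul, ← map_mul, mem_centralizer_singleton_iff.1 (hYC hy)])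
    rw [← map_mul, ← map_one e] at h
    obtain ⟨k, hk⟩ := hyo
    have h1 := pow_orderOf_eq_one y
    rwa [hk, pow_succ, pow_mul, pow_two, e.injective h, one_pow, one_mul] at h1
  · obtain ⟨F, iF, fF, h8, h5, ⟨e⟩⟩ := hJR t ht
    let f : centralizer ({t} : Set J) →* Matrix.ProjectiveSpecialLinearGroup (Fin 2) F :=
      (MonoidHom.snd _ _).comp e.toMonoidHom
    have hsurj : Function.Surjective f := Prod.snd_surjective.comp e.surjective
    haveI := (normal_subgroupOf_iff_le_normalizer hYC).2 hn
    haveI : ((Y.subgroupOf (centralizer ({t} : Set J))).map f).Normal := Normal.map inferInstance f hsurj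
    haveI := Linear.isSimpleGroup_PSL_of (F := F) 2 le_rfl (fun _ => by omega)
    have ho : Odd (Nat.card ((Y.subgroupOf (centralizer ({t} : Set J))).map f)) := by
      refine Odd.of_dvd_nat ?_ (card_map_dvd _ _)
      rwa [Nat.card_congr (subgroupOfEquivOfLe hYC).toEquiv]
    rcases IsSimpleGroup.eq_bot_or_eq_top_of_normal _
      (inferInstance : ((Y.subgroupOf (centralizer ({t} : Set J))).map f).Normal) with h | h
    · have hf : f ⟨y, hYC hy⟩ = 1 := mem_bot.1 (h ▸ ⟨⟨y, hYC hy⟩, hy, rfl⟩)
      set w := e ⟨y, hYC hy⟩ with hw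
      have hw2 : w * w = 1 := by
        refine Prod.ext ?_ ?_
        · rw [Prod.fst_mul, Prod.fst_one]
          exact (by decide : ∀ a : Multiplicative (ZMod 2), a * a = 1) w.1
        · show f ⟨y, hYC hy⟩ * f ⟨y, hYC hy⟩ = 1
          rw [hf, one_mul]
      rw [hw, ← map_mul, ← map_one e] at hw2
      have hy2 : y * y = 1 := congrArg Subtype.val (e.injective hw2)
      obtain ⟨k, hk⟩ := hyo
      have h1 := pow_orderOf_eq_one y
      rwa [hk, pow_succ, pow_mul, pow_two, hy2, one_pow, one_mul] at h1
    · rw [h, card_top] at ho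
      have hpsl : IsPSLOdd (Matrix.ProjectiveSpecialLinearGroup (Fin 2) F) :=
        ⟨F, iF, fF, h8, h5, ⟨MulEquiv.refl _⟩⟩
      exact absurd ((show (2 : ℕ) ∣ 4 by norm_num).trans hpsl.four_dvd) ho.not_two_dvd_nat

end CfsgLib.Walter
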