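import Cfsg.Agent.Walter.CMaxEscape

/-!
# Walter, rank three: the cores of the involution centralizers are trivial

The escaping maximal subgroup `H` of `CMaxEscape` has a layer `K`.  If `H/O(H)` is of type `PSL₂(8)`
or Janko–Ree then `S` centralizes `O_p(C(z)) ∩ C(u)`.  Otherwise `S = ⟨c⟩ × (S ∩ K)`; `c ∈ ⟨z, u⟩`
is impossible, so `⟨z, u⟩` is the line of `c`, a rotation `d ∈ K` at `c` centralizes
`W = Ω₁ Z(O_p(C(z)))`, and a maximal subgroup containing `N(⟨w⟩)`, `w ∈ W`, contains `d` and the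
residual of `C(z)`: contradiction.
-/

set_option autoImplicit false
set_option linter.style.haveILetI false
set_option linter.unusedSectionVars false

open Subgroup
open CfsgLib.Signalizer CfsgLib.BenderMethod

namespace CfsgLib.Walter

universe u

variable {G : Type u} [Group G] [Finite G]

theorem commute_of_disjoint_normalized {K W : Subgroup G} (hd : Disjoint K W)
    (hK : W ≤ normalizer (K : Set G)) (hW : K ≤ normalizer (W : Set G)) {k w : G} (hk : k ∈ K)
    (hw : w ∈ W) : Commute k w := by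
  refine commute_elem_of_disjoint hd ?_ ?_
  · rw [show k * w * k⁻¹ * w⁻¹ = k * (w * k⁻¹ * w⁻¹) by group]
    exact mul_mem hk ((mem_normalizer_iff.1 (hK hw) _).1 (inv_mem hk))
  · exact mul_mem ((mem_normalizer_iff.1 (hW hk) w).1 hw) (inv_mem hw)

/-- A simple subgroup with an involution meets an odd subgroup it normalizes trivially. -/
theorem disjoint_of_odd_normalized {K W : Subgroup G} (hK : IsPSLOdd K) (hW : Odd (Nat.card W))
    (hn : K ≤ normalizer (W : Set G)) : Disjoint K W := by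
  rw [disjoint_iff_inf_le]
  haveI := hK.isSimpleGroup
  haveI : (W.subgroupOf K).Normal := ⟨fun x hx g => (mem_normalizer_iff.1 (hn g.2) x).1 hx⟩
  rcases IsSimpleGroup.eq_bot_or_eq_top_of_normal (W.subgroupOf K) inferInstance with h | h
  · intro x hx
    have : (⟨x, hx.1⟩ : K) ∈ W.subgroupOf K := hx.2
    rw [h, mem_bot] at this
    exact mem_bot.2 (congrArg Subtype.val this)
  · exfalso
    have h4 : 4 ∣ Nat.card W := hK.four_dvd.trans (card_dvd_of_le (subgroupOf_eq_top.1 h))
    exact hW.not_two_dvd_nat (dvd_trans (by norm_num) h4)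

namespace Esc

variable {S : Sylow 2 G} {z u n : G} {p : ℕ} {H : Subgroup G} (hc : Esc S z u n p H)
include hc

theorem odd_core (a : G) : Odd (Nat.card (Cfsg.pCoreOf p (centralizer ({a} : Set G)))) := by
  haveI := Fact.mk hc.prime
  obtain ⟨k, hk⟩ := IsPGroup.iff_card.1 (GW.OS.isPGroup_pCoreOf p (centralizer ({a} : Set G)))
  rw [hk]
  exact (hc.prime.odd_of_ne_two hc.odd).pow

/-- Some element of `O_p(C(z)) ∩ C(u)` is moved by `S`. -/
theorem exists_inverted : ∃ x ∈ Cfsg.pCoreOf p (centralizer ({z} : Set G)), Commute u x ∧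
    ∃ s ∈ (S : Subgroup G), GW.OS.Inverts s x ∧ ¬ Commute s x := by
  haveI := Fact.mk hc.prime
  by_contra hno
  refine hc.min.false_of_sylow_centralizes hc.nsol hc.odd (hc.moved z hc.hz) hc.rot hc.line hc.u_ne
    fun x hx hux s hs => ?_
  set P := Cfsg.pCoreOf p (centralizer ({z} : Set G))
  set w := x⁻¹ * (s * x * s⁻¹)
  have hsC := hc.min.sylow_le_centralizer_singleton S hc.z_mem_sylow hs
  have hw : w ∈ P := mul_mem (inv_mem hx)
    ((mem_normalizer_iff.1 (LocalStructure.le_normalizer_pCoreOf _ hsC) x).1 hx)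
  have hus := hc.min.sylow_comm S hc.u_mem_sylow hs
  have huw : Commute u w := hux.inv_right.mul_right ((hus.mul_right hux).mul_right hus.inv_right)
  have hinv : GW.OS.Inverts s w := by
    show s * (x⁻¹ * (s * x * s⁻¹)) * s⁻¹ = (x⁻¹ * (s * x * s⁻¹))⁻¹
    rw [show s * (x⁻¹ * (s * x * s⁻¹)) * s⁻¹ = s * x⁻¹ * s⁻¹ * ((s * s) * x * (s * s)⁻¹) by group,
      hc.min.sq S s hs]
    group
  push Not at hno
  have hw1 : w = 1 := hinv.eq_one (hno w hw huw s hs hinv)
    ((hc.odd_core z).of_dvd_nat ((Cfsg.pCoreOf p (centralizer ({z} : Set G))).orderOf_dvd_natCard hw))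
  show x * s = s * x
  have hx' : x = s * x * s⁻¹ := inv_mul_eq_one.1 hw1
  nth_rw 1 [hx']
  group

/-- The case of type `PSL₂(8)` or Janko–Ree. -/
theorem false_of_beta {K : Subgroup G} (hK : BetaTop S H K) : False := by
  haveI := Fact.mk hc.prime
  set P := Cfsg.pCoreOf p (centralizer ({z} : Set G))
  refine hc.min.false_of_sylow_centralizes hc.nsol hc.odd (hc.moved z hc.hz) hc.rot hc.line hc.u_ne
    fun x hx hux s hs => ?_
  have hxH : x ∈ H := hc.fixed_le ⟨hx, mem_centralizer_singleton_iff.2 hux.eq.symm⟩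
  refine hK.kill z hc.z_mem_sylow hc.rot.ne (P ⊓ H)
    (fun y hy => ⟨hy.2, LocalStructure.pCoreOf_le _ hy.1⟩) (fun g hg => ?_)
    ((hc.odd_core z).of_dvd_nat (card_dvd_of_le inf_le_left)) x ⟨hx, hxH⟩ s hs
  refine mem_normalizer_fintype fun y hy => ⟨?_, H.mul_mem (H.mul_mem hg.1 hy.2) (H.inv_mem hg.1)⟩
  exact (mem_normalizer_iff.1 (LocalStructure.le_normalizer_pCoreOf _ hg.2) y).1 hy.1

variable {K : Subgroup G} {c : G} (hK : AlphaTop S H K c)
include hK

/-- The centre of the component is not `z`. -/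
theorem centre_ne_z : c ≠ z := by
  intro e
  haveI := Fact.mk hc.prime
  set P := Cfsg.pCoreOf p (centralizer ({z} : Set G))
  obtain ⟨d, -, hd, hdl, -⟩ := hK.rot
  have hKC : K ≤ centralizer ({z} : Set G) := e ▸ hK.comm
  have hodd : Odd (Nat.card (P ⊓ H : Subgroup G)) :=
    (hc.odd_core z).of_dvd_nat (card_dvd_of_le inf_le_left)
  have hnK : K ≤ normalizer ((P ⊓ H : Subgroup G) : Set G) := fun k hk =>
    mem_normalizer_fintype fun y hy =>
      ⟨(mem_normalizer_iff.1 (LocalStructure.le_normalizer_pCoreOf _ (hKC hk)) y).1 hy.1,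
        H.mul_mem (H.mul_mem (hK.le hk) hy.2) (H.inv_mem (hK.le hk))⟩
  refine hc.min.false_of_sylow_centralizes hc.nsol hc.odd (hc.moved z hc.hz) hc.rot hc.line hc.u_ne
    fun x hx hux s hs => ?_
  have hxH : x ∈ H := hc.fixed_le ⟨hx, mem_centralizer_singleton_iff.2 hux.eq.symm⟩
  obtain ⟨y, hy, hsy⟩ := hc.min.exists_onLine_mul hd hs
  have hky : Commute y x := commute_of_disjoint_normalized
    (disjoint_of_odd_normalized hK.psl hodd hnK) (inf_le_right.trans hK.normal) hnK
    ((hdl y (hc.min.onLine_mem hd hy)).2 hy) ⟨hx, hxH⟩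
  rcases hsy with h | h <;> subst h
  · exact hky.symm
  · exact Commute.mul_right (e ▸ mem_centralizer_singleton_iff.1
      (LocalStructure.pCoreOf_le _ hx)) hky.symm

/-- The centre of the component is not in `⟨z, u⟩`. -/
theorem centre_notMem (hcu : c = u ∨ c = z * u) : False := by
  haveI := Fact.mk hc.prime
  obtain ⟨d, -, hd, hdl, -⟩ := hK.rot
  have hoc := hc.min.orderOf_sylow S hK.mem hd.ne
  have hz := hc.z_mem_sylow
  -- an involution `v` of the component with `⟨c, v⟩ = ⟨z, u⟩`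
  obtain ⟨v, hv, hv1, hvz⟩ : ∃ v, OnLine S d v ∧ v ≠ 1 ∧ (z = v ∨ z = c * v) := by
    obtain ⟨y, hy, hzy⟩ := hc.min.exists_onLine_mul hd hz
    refine ⟨y, hy, fun e => ?_, hzy⟩
    subst e
    rcases hzy with h | h
    · exact hc.rot.ne h
    · rw [mul_one] at h
      exact hc.centre_ne_z hK h.symm
  refine hc.min.false_of_sylow_centralizes hc.nsol hc.odd (hc.moved c hoc) hd hv hv1
    fun x hx hvx s hs => ?_
  have hxc : Commute x c := mem_centralizer_singleton_iff.1 (LocalStructure.pCoreOf_le _ hx)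
  have hxz : Commute x z := by
    rcases hvz with h | h <;> rw [h]
    exacts [hvx.symm, hxc.mul_right hvx.symm]
  have hxu : Commute x u := by
    rcases hcu with h | h
    · exact h ▸ hxc
    · have : u = z⁻¹ * c := by rw [h]; group
      rw [this]
      exact hxz.inv_right.mul_right hxc
  have hxH : x ∈ H := hc.mem_H hxz hxu
  set W := Cfsg.pCoreOf p (centralizer ({c} : Set G)) ⊓ H
  have hnK : K ≤ normalizer (W : Set G) := fun k hk => mem_normalizer_fintype fun y hy =>
    ⟨(mem_normalizer_iff.1 (LocalStructure.le_normalizer_pCoreOf _ (hK.comm hk)) y).1 hy.1,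
      H.mul_mem (H.mul_mem (hK.le hk) hy.2) (H.inv_mem (hK.le hk))⟩
  obtain ⟨y, hy, hsy⟩ := hc.min.exists_onLine_mul hd hs
  have hky : Commute y x := commute_of_disjoint_normalized
    (disjoint_of_odd_normalized hK.psl ((hc.odd_core c).of_dvd_nat (card_dvd_of_le inf_le_left)) hnK)
    (inf_le_right.trans hK.normal) hnK ((hdl y (hc.min.onLine_mem hd hy)).2 hy) ⟨hx, hxH⟩
  rcases hsy with h | h <;> subst h
  exacts [hky.symm, hxc.mul_right hky.symm]

omit hK in
theorem mem_four_of_commute {T : Subgroup G} (hTS : T ≤ (S : Subgroup G)) {s : G}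
    (hs : s ∈ (S : Subgroup G)) (hsT : s ∉ T) {a b : G} (ha : a ∈ T) (hb : b ∈ T) (ha1 : a ≠ 1)
    (hb1 : b ≠ 1) (hab : a ≠ b) {t : G} (ht : t ∈ T) : t = 1 ∨ t = a ∨ t = b ∨ t = a * b := by
  classical
  by_contra hne
  push Not at hne
  have hab1 : a * b ≠ 1 := fun e => hab (by
    rw [← mul_one a, ← hc.min.sq S b (hTS hb), ← mul_assoc, e, one_mul])
  have h5 : ({1, a, b, a * b, t} : Set G).ncard = 5 := by
    rw [Set.ncard_insert_of_notMem, Set.ncard_insert_of_notMem, Set.ncard_insert_of_notMem,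
      Set.ncard_insert_of_notMem, Set.ncard_singleton]
    · simpa using Ne.symm hne.2.2.2
    · simp only [Set.mem_insert_iff, Set.mem_singleton_iff, not_or]
      exact ⟨fun e => ha1 (by simpa using e.symm), Ne.symm hne.2.2.1⟩
    · simp only [Set.mem_insert_iff, Set.mem_singleton_iff, not_or]
      exact ⟨hab, fun e => hb1 (by simpa using e.symm), Ne.symm hne.2.1⟩
    · simp only [Set.mem_insert_iff, Set.mem_singleton_iff, not_or]
      exact ⟨Ne.symm ha1, Ne.symm hb1, Ne.symm hab1, Ne.symm hne.1⟩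
  let U : Set G := {1, a, b, a * b, t}
  have hUT : U ⊆ (T : Set G) := by
    rintro v (rfl | rfl | rfl | rfl | rfl)
    exacts [one_mem _, ha, hb, mul_mem ha hb, ht]
  have hdj : Disjoint U ((s * ·) '' U) := by
    refine Set.disjoint_left.2 fun v hv hv' => ?_
    obtain ⟨w, hw, rfl⟩ := hv'
    exact hsT ((mul_mem_cancel_right (hUT hw)).1 (hUT hv))
  have hsub : U ∪ (s * ·) '' U ⊆ ((S : Subgroup G) : Set G) := by
    rintro v (hv | ⟨w, hw, rfl⟩)
    exacts [hTS (hUT hv), mul_mem hs (hTS (hUT hw))]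
  have h8 := Set.ncard_le_ncard hsub (Set.toFinite _)
  rw [Set.ncard_union_eq hdj, Set.ncard_image_of_injective _ (mul_right_injective s), h5,
    ← Nat.card_coe_set_eq] at h8
  change 5 + 5 ≤ Nat.card (S : Subgroup G) at h8
  rw [hc.min.card S] at h8
  omega

omit hK in
/-- An element of `S` inverts or centralizes an element inverted by one of them and fixed by
`⟨z, u⟩`-like four-groups. -/
theorem inverts_of_not_commute {x s : G} (hs : s ∈ (S : Subgroup G)) (hsi : GW.OS.Inverts s x)
    (hsx : ¬ Commute s x) {a b : G} (ha : a ∈ (S : Subgroup G)) (hb : b ∈ (S : Subgroup G))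
    (ha1 : a ≠ 1) (hb1 : b ≠ 1) (hab : a ≠ b) (hax : Commute a x) (hbx : Commute b x) {t : G}
    (ht : t ∈ (S : Subgroup G)) :
    (Commute t x → t = 1 ∨ t = a ∨ t = b ∨ t = a * b) ∧ (¬ Commute t x → GW.OS.Inverts t x) := by
  let T : Subgroup G := (S : Subgroup G) ⊓ centralizer ({x} : Set G)
  have hmem : ∀ v, v ∈ (S : Subgroup G) → Commute v x → v ∈ T := fun v hv hvx =>
    ⟨hv, mem_centralizer_singleton_iff.2 hvx.eq⟩
  have hsT : s ∉ T := fun h => hsx (mem_centralizer_singleton_iff.1 h.2)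
  refine ⟨fun htx => hc.mem_four_of_commute inf_le_left hs hsT (hmem a ha hax) (hmem b hb hbx) ha1
    hb1 hab (hmem t ht htx), fun htx => ?_⟩
  have hst : Commute (s * t) x := by
    by_contra hst
    -- three cosets
    classical
    have h1 : ∀ v ∈ ({1, a, b, a * b} : Set G), v ∈ T := by
      rintro v (e | e | e | e) <;> rw [e]
      exacts [one_mem _, hmem a ha hax, hmem b hb hbx, mul_mem (hmem a ha hax) (hmem b hb hbx)]
    have hab1 : a * b ≠ 1 := fun e => hab (by
      rw [← mul_one a, ← hc.min.sq S b hb, ← mul_assoc, e, one_mul])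
    let U : Set G := {1, a, b, a * b}
    have h4 : U.ncard = 4 := by
      rw [Set.ncard_insert_of_notMem, Set.ncard_insert_of_notMem, Set.ncard_insert_of_notMem,
        Set.ncard_singleton]
      · simpa using fun e : b = a * b => ha1 (by simpa using e.symm)
      · simp only [Set.mem_insert_iff, Set.mem_singleton_iff, not_or]
        exact ⟨hab, fun e => hb1 (by simpa using e.symm)⟩
      · simp only [Set.mem_insert_iff, Set.mem_singleton_iff, not_or]
        exact ⟨Ne.symm ha1, Ne.symm hb1, Ne.symm hab1⟩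
    have hsS : ∀ v ∈ U, v ∈ (S : Subgroup G) := fun v hv => (h1 v hv).1
    have hd1 : Disjoint U ((s * ·) '' U) := by
      refine Set.disjoint_left.2 fun v hv hv' => ?_
      obtain ⟨w, hw, rfl⟩ := hv'
      exact hsT ((mul_mem_cancel_right (h1 w hw)).1 (h1 _ hv))
    have hd2 : Disjoint (U ∪ (s * ·) '' U) ((t * ·) '' U) := by
      refine Set.disjoint_left.2 fun v hv hv' => ?_
      obtain ⟨w, hw, rfl⟩ := hv'
      rcases hv with hv | ⟨w', hw', he⟩
      · exact htx (mem_centralizer_singleton_iff.1 ((mul_mem_cancel_right (h1 w hw)).1 (h1 _ hv)).2)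
      · have he' : s * w' = t * w := he
        refine hst ?_
        have hww : w' * w⁻¹ ∈ T := mul_mem (h1 w' hw') (inv_mem (h1 w hw))
        have : s * t = s * s * (w' * w⁻¹) := by
          rw [show t = s * w' * w⁻¹ by rw [he']; group]
          group
        rw [this, hc.min.sq S s hs, one_mul]
        exact mem_centralizer_singleton_iff.1 hww.2
    have hsub : U ∪ (s * ·) '' U ∪ (t * ·) '' U ⊆ ((S : Subgroup G) : Set G) := by
      rintro v ((hv | ⟨w, hw, rfl⟩) | ⟨w, hw, rfl⟩)
      exacts [hsS v hv, mul_mem hs (hsS w hw), mul_mem ht (hsS w hw)]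
    have h8 := Set.ncard_le_ncard hsub (Set.toFinite _)
    rw [Set.ncard_union_eq hd2, Set.ncard_union_eq hd1,
      Set.ncard_image_of_injective _ (mul_right_injective s),
      Set.ncard_image_of_injective _ (mul_right_injective t), h4, ← Nat.card_coe_set_eq] at h8
    change 4 + 4 + 4 ≤ Nat.card (S : Subgroup G) at h8
    rw [hc.min.card S] at h8
    omega
  have h := hsi.of_commute hst
  rwa [← mul_assoc, hc.min.sq S s hs, one_mul] at h

/-- `⟨z, u⟩` is the line of the centre of the component. -/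
theorem line_of_centre {d : G} (hd : Rot S c d)
    (hdl : ∀ s ∈ (S : Subgroup G), s ∈ K ↔ OnLine S d s) : OnLine S d z ∧ OnLine S d u := by
  obtain ⟨x, hx, hux, s, hs, hsi, hsx⟩ := hc.exists_inverted
  have hxH : x ∈ H := hc.fixed_le ⟨hx, mem_centralizer_singleton_iff.2 hux.eq.symm⟩
  have hzx : Commute z x := (mem_centralizer_singleton_iff.1 (LocalStructure.pCoreOf_le _ hx)).symm
  have h := fun {t : G} (ht : t ∈ (S : Subgroup G)) =>
    hc.inverts_of_not_commute hs hsi hsx hc.z_mem_sylow hc.u_mem_sylow hc.rot.ne hc.u_ne hc.z_ne_u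
      hzx hux (t := t) ht
  have hcx : ¬ Commute c x := fun e => by
    rcases (h hK.mem).1 e with e' | e' | e' | e'
    · exact hd.ne e'
    · exact hc.centre_ne_z hK e'
    · exact hc.centre_notMem hK (Or.inl e')
    · exact hc.centre_notMem hK (Or.inr e')
  have hox : Odd (orderOf x) := (hc.odd_core z).of_dvd_nat
    ((Cfsg.pCoreOf p (centralizer ({z} : Set G))).orderOf_dvd_natCard hx)
  have hxO := hK.of_inverts x hxH hox ((h hK.mem).2 hcx)
  have hline : ∀ v, OnLine S d v → v = 1 ∨ v = z ∨ v = u ∨ v = z * u := fun v hv =>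
    (h (hc.min.onLine_mem hd hv)).1
      ((mem_centralizer_iff.1 (hK.core ((hdl v (hc.min.onLine_mem hd hv)).2 hv)) x hxO).symm)
  obtain ⟨v, hv, hv1⟩ := hc.min.exists_onLine_ne_one hd
  set v' := d * v * d⁻¹
  have hv'l : OnLine S d v' := hc.min.onLine_conj hd hv
  have hv'1 : v' ≠ 1 := fun e => hv1 (conj_eq_one_iff.1 e)
  have hne : v' ≠ v := fun e => hv1 (hc.min.onLine_fixed hd hv (commute_iff_conj.2 e))
  have hzu : ∀ y, OnLine S d y → y = z → ∀ y', OnLine S d y' → y' = u ∨ y' = z * u →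
      OnLine S d z ∧ OnLine S d u := by
    intro y hy ey y' hy' ey'
    subst ey
    refine ⟨hy, ?_⟩
    rcases ey' with e | e
    · exact e ▸ hy'
    · have := hc.min.onLine_mul hd hy hy'
      rwa [e, ← mul_assoc, hc.min.sq S y hc.z_mem_sylow, one_mul] at this
  rcases hline v hv with e | e | e | e <;> rcases hline v' hv'l with e' | e' | e' | e' <;>
    try exact absurd e hv1
  all_goals try exact absurd e' hv'1
  all_goals try exact absurd (e'.trans e.symm) hne
  · exact hzu v hv e v' hv'l (Or.inl e')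
  · exact hzu v hv e v' hv'l (Or.inr e')
  · exact hzu v' hv'l e' v hv (Or.inl e)
  · refine ⟨?_, e ▸ hv⟩
    have := hc.min.onLine_mul hd hv'l hv
    rwa [e, e', mul_assoc, hc.min.sq S u hc.u_mem_sylow, mul_one] at this
  · exact hzu v' hv'l e' v hv (Or.inr e)
  · refine ⟨?_, e' ▸ hv'l⟩
    have := hc.min.onLine_mul hd hv hv'l
    rwa [e, e', mul_assoc, hc.min.sq S u hc.u_mem_sylow, mul_one] at this

/-- An element of `W` fixed by `z` and some other element `a` of `S`, moved by `S`, has `a` over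
`u` or `c`. -/
theorem kernel_cases {d : G} (hdl : ∀ s ∈ (S : Subgroup G), s ∈ K ↔ OnLine S d s)
    (hul : OnLine S d u) {x s a : G} (hxH : x ∈ H) (hox : Odd (orderOf x)) (hzx : Commute z x)
    (hs : s ∈ (S : Subgroup G)) (hsi : GW.OS.Inverts s x) (hsx : ¬ Commute s x)
    (ha : a ∈ (S : Subgroup G)) (ha1 : a ≠ 1) (haz : a ≠ z) (hax : Commute a x) :
    a = u ∨ a = z * u ∨ a = c ∨ a = z * c := by
  have h := fun {t : G} (ht : t ∈ (S : Subgroup G)) =>
    hc.inverts_of_not_commute hs hsi hsx hc.z_mem_sylow ha hc.rot.ne ha1 (Ne.symm haz)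
      hzx hax (t := t) ht
  have hzz := hc.min.sq S z hc.z_mem_sylow
  have key : ∀ t : G, t ∈ (S : Subgroup G) → t ≠ 1 → t ≠ z → Commute t x → a = t ∨ a = z * t := by
    intro t ht ht1 htz htx
    rcases (h ht).1 htx with e | e | e | e
    · exact absurd e ht1
    · exact absurd e htz
    · exact Or.inl e.symm
    · exact Or.inr (by rw [e, ← mul_assoc, hzz, one_mul])
  by_cases hcx : Commute c x
  · exact Or.inr (Or.inr (key c hK.mem (fun e => hK.notMem (e ▸ one_mem K)) (hc.centre_ne_z hK) hcx))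
  · have hxO := hK.of_inverts x hxH hox ((h hK.mem).2 hcx)
    rcases key u hc.u_mem_sylow hc.u_ne hc.z_ne_u.symm
      ((mem_centralizer_iff.1 (hK.core ((hdl u hc.u_mem_sylow).2 hul)) x hxO).symm) with e | e
    exacts [Or.inl e, Or.inr (Or.inl e)]

omit hK in
/-- A set of the four elements over two points of the line is not invariant under the rotation. -/
theorem false_of_invariant {a : G} {e : G} (he : OnLine S n e)
    (ha : a ∈ (S : Subgroup G)) (ha1 : a ≠ 1) (haz : a ≠ z)
    (h : ∀ g : G, g = 1 ∨ g = n ∨ g = n * n →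
      g * a * g⁻¹ = u ∨ g * a * g⁻¹ = z * u ∨ g * a * g⁻¹ = e ∨ g * a * g⁻¹ = z * e) : False := by
  have hn := hc.rot
  obtain ⟨v, hv, hav⟩ := hc.min.exists_onLine_mul hn ha
  have hv1 : v ≠ 1 := by
    rintro rfl
    rcases hav with h' | h'
    · exact ha1 h'
    · exact haz (by simpa using h')
  have hzz := hc.min.sq S z hc.z_mem_sylow
  -- every conjugate of `v` is `u` or `e`
  have key : ∀ g : G, (g = 1 ∨ g = n ∨ g = n * n) → OnLine S n (g * v * g⁻¹) →
      g * v * g⁻¹ = u ∨ g * v * g⁻¹ = e := by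
    intro g hg hgl
    have hgz : g * z * g⁻¹ = z := by
      rcases hg with rfl | rfl | rfl
      · simp
      · exact commute_iff_conj.1 hn.comm
      · exact commute_iff_conj.1 (hn.comm.mul_left hn.comm)
    have hzl : ∀ y y' : G, OnLine S n y → OnLine S n y' → y ≠ z * y' := fun y y' hy hy' e' =>
      hc.min.centre_not_onLine hn (by
        have := hc.min.onLine_mul hn hy hy'
        rwa [e', mul_assoc, hc.min.sq S y' (hc.min.onLine_mem hn hy'), mul_one] at this)
    rcases hav with h' | h' <;> subst h'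
    · rcases h g hg with h | h | h | h
      exacts [Or.inl h, absurd h (hzl _ _ hgl hc.line), Or.inr h, absurd h (hzl _ _ hgl he)]
    · have e0 : g * (z * v) * g⁻¹ = z * (g * v * g⁻¹) := by
        rw [show g * (z * v) * g⁻¹ = g * z * g⁻¹ * (g * v * g⁻¹) by group, hgz]
      have hg' := h g hg
      rw [e0] at hg'
      rcases hg' with h | h | h | h
      exacts [absurd (by rw [← h, ← mul_assoc, hzz, one_mul] : g * v * g⁻¹ = z * u)
        (hzl _ _ hgl hc.line), Or.inl (mul_left_cancel h),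
        absurd (by rw [← h, ← mul_assoc, hzz, one_mul] : g * v * g⁻¹ = z * e) (hzl _ _ hgl he),
        Or.inr (mul_left_cancel h)]
  have h0 : (1 : G) * v * (1 : G)⁻¹ = v := by group
  have h2 : n * n * v * (n * n)⁻¹ = v * (n * v * n⁻¹) := by
    rw [show n * n * v * (n * n)⁻¹ = n * (n * v * n⁻¹) * n⁻¹ by group]
    exact hc.min.conj_conj_eq hn hv hv1
  have k0 := key 1 (Or.inl rfl) (h0.symm ▸ hv)
  have k1 := key n (Or.inr (Or.inl rfl)) (hc.min.onLine_conj hn hv)
  have k2 := key (n * n) (Or.inr (Or.inr rfl))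
    (h2.symm ▸ hc.min.onLine_mul hn hv (hc.min.onLine_conj hn hv))
  rw [h0] at k0
  rw [h2] at k2
  have d01 : n * v * n⁻¹ ≠ v := fun e' => hv1 (hc.min.onLine_fixed hn hv (commute_iff_conj.2 e'))
  have d02 : v * (n * v * n⁻¹) ≠ v := fun e' =>
    hv1 (conj_eq_one_iff.1 (by simpa using e' : n * v * n⁻¹ = 1))
  have d12 : v * (n * v * n⁻¹) ≠ n * v * n⁻¹ := fun e' => hv1 (by simpa using e')
  rcases k0 with a0 | a0 <;> rcases k1 with a1 | a1 <;> rcases k2 with a2 | a2
  exacts [d01 (a1.trans a0.symm), d01 (a1.trans a0.symm), d02 (a2.trans a0.symm),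
    d12 (a2.trans a1.symm), d12 (a2.trans a1.symm), d02 (a2.trans a0.symm),
    d01 (a1.trans a0.symm), d01 (a1.trans a0.symm)]

/-- `S` centralizes `Ω₁ Z(O_p(C(z)))`. -/
theorem commute_sylow {d : G} (hdl : ∀ s ∈ (S : Subgroup G), s ∈ K ↔ OnLine S d s)
    (hul : OnLine S d u) {W : Subgroup G} (hWH : W ≤ H) (hodd : ∀ x ∈ W, Odd (orderOf x))
    (hWn : centralizer ({z} : Set G) ≤ normalizer (W : Set G))
    (hzW : ∀ x ∈ W, Commute z x) (hab : ∀ x ∈ W, ∀ y ∈ W, Commute x y) {x s : G} (hx : x ∈ W)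
    (hs : s ∈ (S : Subgroup G)) : Commute x s := by
  have hn := hc.rot
  have hSC := hc.min.sylow_le_centralizer_singleton S hc.z_mem_sylow
  have hconj : ∀ t ∈ (S : Subgroup G), ∀ y ∈ W, t * y * t⁻¹ ∈ W := fun t ht y hy =>
    (mem_normalizer_iff.1 (hWn (hSC ht)) y).1 hy
  obtain ⟨e, he, hce⟩ := hc.min.exists_onLine_mul hn hK.mem
  -- no element of `W` moved by `S` is fixed by `z` and another element
  have hfalse : ∀ y ∈ W, ∀ t ∈ (S : Subgroup G), GW.OS.Inverts t y → y ≠ 1 → ∀ a ∈ (S : Subgroup G),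
      a ≠ 1 → a ≠ z → Commute a y → False := by
    intro y hy t ht hti hy1 a ha ha1 haz hay
    refine hc.false_of_invariant he ha ha1 haz fun g hg => ?_
    have hgC : g ∈ centralizer ({z} : Set G) := by
      have hnC : n ∈ centralizer ({z} : Set G) := mem_centralizer_singleton_iff.2 hn.comm.eq
      rcases hg with rfl | rfl | rfl
      exacts [one_mem _, hnC, mul_mem hnC hnC]
    have hgS : g ∈ normalizer ((S : Subgroup G) : Set G) := by
      rcases hg with rfl | rfl | rfl
      exacts [one_mem _, hn.norm, mul_mem hn.norm hn.norm]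
    have hy' := (mem_normalizer_iff.1 (hWn hgC) y).1 hy
    have hnc : ¬ Commute (g * t * g⁻¹) (g * y * g⁻¹) := fun h =>
      hy1 (conj_eq_one_iff.1 ((hti.conj g).eq_one h (hodd _ hy')))
    have hgz : g * z * g⁻¹ = z := by
      rw [mem_centralizer_singleton_iff.1 hgC, mul_inv_cancel_right]
    rcases hc.kernel_cases hK hdl hul (hWH hy') (hodd _ hy') (hzW _ hy')
      ((mem_normalizer_iff.1 hgS t).1 ht) (hti.conj g) hnc ((mem_normalizer_iff.1 hgS a).1 ha)
      (fun h => ha1 (conj_eq_one_iff.1 h))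
      (fun h => haz (mul_left_cancel (mul_right_cancel (h.trans hgz.symm))))
      (by simpa using hay.map (MulAut.conj g).toMonoidHom) with h | h | h | h
    · exact Or.inl h
    · exact Or.inr (Or.inl h)
    · rcases hce with r | r <;> rw [r] at h
      exacts [Or.inr (Or.inr (Or.inl h)), Or.inr (Or.inr (Or.inr h))]
    · rcases hce with r | r <;> rw [r] at h
      · exact Or.inr (Or.inr (Or.inr h))
      · rw [← mul_assoc, hc.min.sq S z hc.z_mem_sylow, one_mul] at h
        exact Or.inr (Or.inr (Or.inl h))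
  set w := x⁻¹ * (s * x * s⁻¹) with hw
  have hwW : w ∈ W := mul_mem (inv_mem hx) (hconj s hs x hx)
  have hinv : GW.OS.Inverts s w := by
    show s * w * s⁻¹ = w⁻¹
    rw [hw, show s * (x⁻¹ * (s * x * s⁻¹)) * s⁻¹ = s * x⁻¹ * s⁻¹ * ((s * s) * x * (s * s)⁻¹) by group,
      hc.min.sq S s hs]
    group
  suffices hw1 : w = 1 by
    show x * s = s * x
    have hx' : x = s * x * s⁻¹ := inv_mul_eq_one.1 hw1
    nth_rw 1 [hx']
    group
  by_contra hw1
  clear_value w
  have hsz : s ≠ z := fun e => hw1 (hinv.eq_one (e ▸ hzW w hwW) (hodd w hwW))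
  have hs1 : s ≠ 1 := fun e => hw1 (hinv.eq_one (e ▸ Commute.one_left w) (hodd w hwW))
  obtain ⟨t, ht, ht1, htz, hts, htzs⟩ : ∃ t ∈ (S : Subgroup G),
      t ≠ 1 ∧ t ≠ z ∧ t ≠ s ∧ t ≠ z * s := by
    by_contra hno
    push Not at hno
    have hsub : ((S : Subgroup G) : Set G) ⊆ {1, z, s, z * s} := fun t ht => by
      by_cases h1 : t = 1
      · exact Or.inl h1
      by_cases h2 : t = z
      · exact Or.inr (Or.inl h2)
      by_cases h3 : t = s
      · exact Or.inr (Or.inr (Or.inl h3))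
      exact Or.inr (Or.inr (Or.inr (hno t ht h1 h2 h3)))
    have h4 : ({1, z, s, z * s} : Set G).ncard ≤ 4 := by
      refine (Set.ncard_insert_le _ _).trans ?_
      have := Set.ncard_insert_le z ({s, z * s} : Set G)
      have := Set.ncard_insert_le s ({z * s} : Set G)
      rw [Set.ncard_singleton] at this
      omega
    have := (Set.ncard_le_ncard hsub (Set.toFinite _)).trans h4
    rw [← Nat.card_coe_set_eq] at this
    change Nat.card (S : Subgroup G) ≤ 4 at this
    rw [hc.min.card S] at this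
    omega
  set w' := t * w * t⁻¹ with hw'
  have hw'W : w' ∈ W := hconj t ht w hwW
  have hww' := hab w hwW w' hw'W
  have hst := hc.min.sylow_comm S hs ht
  clear_value w'
  have hw'i : GW.OS.Inverts s w' := by
    have := hinv.conj t
    rwa [show t * s * t⁻¹ = s by rw [← hst.eq, mul_inv_cancel_right], ← hw'] at this
  have htt := hc.min.sq S t ht
  have htw' : t * w' * t⁻¹ = w := by
    rw [hw', show t * (t * w * t⁻¹) * t⁻¹ = (t * t) * w * (t * t)⁻¹ by group, htt]
    group
  have hsI : s * w * s⁻¹ = w⁻¹ := hinv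
  have hsI' : s * w' * s⁻¹ = w'⁻¹ := hw'i
  have h1 : w * w' = 1 := by
    by_contra hne
    refine hfalse _ (mul_mem hwW hw'W) s hs ?_ hne t ht ht1 htz (commute_iff_conj.2 ?_)
    · show s * (w * w') * s⁻¹ = (w * w')⁻¹
      rw [show s * (w * w') * s⁻¹ = s * w * s⁻¹ * (s * w' * s⁻¹) by group, hsI, hsI', mul_inv_rev,
        hww'.inv_inv.eq]
    · rw [show t * (w * w') * t⁻¹ = t * w * t⁻¹ * (t * w' * t⁻¹) by group, htw', ← hw']
      exact hww'.eq.symm
  have h2 : w * w'⁻¹ = 1 := by
    by_contra hne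
    refine hfalse _ (mul_mem hwW (inv_mem hw'W)) s hs ?_ hne (s * t) (mul_mem hs ht)
      (fun e => hts ?_) (fun e => htzs ?_) (commute_iff_conj.2 ?_)
    · show s * (w * w'⁻¹) * s⁻¹ = (w * w'⁻¹)⁻¹
      rw [show s * (w * w'⁻¹) * s⁻¹ = s * w * s⁻¹ * (s * w' * s⁻¹)⁻¹ by group, hsI, hsI', inv_inv,
        mul_inv_rev, inv_inv]
      exact hww'.inv_left.eq
    · rw [← one_mul t, ← hc.min.sq S s hs, mul_assoc, e, mul_one]
    · rw [← one_mul t, ← hc.min.sq S s hs, mul_assoc, e,
        (hc.min.sylow_comm S hs hc.z_mem_sylow).eq]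
    · rw [show s * t * (w * w'⁻¹) * (s * t)⁻¹ = s * (t * w * t⁻¹) * s⁻¹ * (s * (t * w' * t⁻¹) * s⁻¹)⁻¹
          by group, htw', ← hw', hsI, hsI', inv_inv]
      exact hww'.inv_right.eq.symm
  refine hw1 (eq_one_of_odd_of_sq (hodd w hwW) ?_)
  have hw'2 : w' = w := (mul_inv_eq_one.1 h2).symm
  rwa [hw'2] at h1

/-- The component case is impossible. -/
theorem false_of_alpha : False := by
  haveI := hc.min.simple
  haveI := Fact.mk hc.prime
  haveI : Fact (Nat.Prime 2) := ⟨Nat.prime_two⟩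
  obtain ⟨d, hdK, hd, hdl, hdc⟩ := hK.rot
  obtain ⟨hzl, hul⟩ := hc.line_of_centre hK hd hdl
  set C := centralizer ({z} : Set G) with hCd
  set P := Cfsg.pCoreOf p C with hPd
  set W := LocalStructure.omegaZ p P with hWd
  have hWP : W ≤ P := LocalStructure.omegaZ_le P
  have hWn : C ≤ normalizer (W : Set G) :=
    (LocalStructure.le_normalizer_pCoreOf C).trans (LocalStructure.normalizer_le_normalizer_omegaZ P)
  have hWH : W ≤ H := fun w hw => hc.fixed (centralizer_le_normalizer _ (mem_centralizer_iff.2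
    fun q hq => mem_centralizer_iff.1 ((LocalStructure.mem_omegaZ.1 hw).2.1) q hq.1))
  have hodd : ∀ w ∈ W, Odd (orderOf w) := fun w hw =>
    (hc.odd_core z).of_dvd_nat (P.orderOf_dvd_natCard (hWP hw))
  have hzW : ∀ w ∈ W, Commute z w := fun w hw =>
    (mem_centralizer_singleton_iff.1 (LocalStructure.pCoreOf_le C (hWP hw))).symm
  have hab : ∀ x ∈ W, ∀ y ∈ W, Commute x y := fun x hx y hy =>
    mem_centralizer_iff.1 ((LocalStructure.mem_omegaZ.1 hy).2.1) x (hWP hx)
  have hSW : ∀ x ∈ W, ∀ s ∈ (S : Subgroup G), Commute x s := fun x hx s hs =>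
    hc.commute_sylow hK hdl hul hWH hodd hWn hzW hab hx hs
  -- an element of `W`
  obtain ⟨w, hw, hw1⟩ : ∃ w ∈ W, w ≠ 1 := by
    haveI : Nontrivial P := (nontrivial_iff_ne_bot P).2 hc.prime_ne
    have hP : IsPGroup p P := GW.OS.isPGroup_pCoreOf p C
    haveI : Nontrivial (Subgroup.center P) := hP.center_nontrivial
    obtain ⟨k, hk⟩ := IsPGroup.iff_card.1 (hP.to_subgroup (Subgroup.center P))
    have hdvd : p ∣ Nat.card (Subgroup.center P) := by
      have := Finite.one_lt_card (α := Subgroup.center P)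
      rcases k with _ | k
      · rw [hk, pow_zero] at this
        exact absurd this (lt_irrefl 1)
      · rw [hk]
        exact dvd_pow_self p (Nat.succ_ne_zero k)
    obtain ⟨y, hy⟩ := exists_prime_orderOf_dvd_card' (G := Subgroup.center P) p hdvd
    rw [← orderOf_coe, ← orderOf_coe] at hy
    refine ⟨((y : P) : G), LocalStructure.mem_omegaZ.2 ⟨(y : P).2, mem_centralizer_iff.2
      fun q hq => congrArg Subtype.val (Subgroup.mem_center_iff.1 y.2 ⟨q, hq⟩),
      by rw [← hy, pow_orderOf_eq_one]⟩, fun h => hc.prime.ne_one ?_⟩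
    rw [← hy, h, orderOf_one]
  have htop : normalizer (zpowers w : Set G) ≠ ⊤ := by
    intro h
    haveI : (zpowers w).Normal := normalizer_eq_top_iff.1 h
    rcases IsSimpleGroup.eq_bot_or_eq_top_of_normal (zpowers w) inferInstance with h' | h'
    · exact hw1 (zpowers_eq_bot.1 h')
    · exact (hc.max z hc.hz).1 (top_le_iff.1 (h' ▸ zpowers_le.2 (LocalStructure.pCoreOf_le C (hWP hw))))
  obtain ⟨X, hX, hle⟩ := (eq_top_or_exists_le_coatom _).resolve_left htop
  have hcX : ∀ g : G, Commute g w → g ∈ X := fun g hg => hle (centralizer_le_normalizer _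
    (mem_centralizer_iff.2 fun q hq => by
      obtain ⟨i, rfl⟩ := hq
      exact ((hg.symm).zpow_left i).eq))
  have hSX : (S : Subgroup G) ≤ X := fun s hs => hcX s (hSW w hw s hs).symm
  have hdX : d ∈ X := hcX d (hdc w (hWH hw) (hodd w hw) (hSW w hw))
  have hRX : residual z ≤ X := fun r hr => hcX r ((mem_centralizer_iff.1
    (hc.min.residual_le_centralizer hc.nsol hc.rot hc.line hc.u_ne hWn
      (fun v hv => (hSW v hv u hc.u_mem_sylow).symm) hr) w hw).symm)
  have hPX : P ≤ X := fun y hy => hcX y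
    (mem_centralizer_iff.1 ((LocalStructure.mem_omegaZ.1 hw).2.1) y hy)
  have hlead : Cfsg.leadsTo C X := ⟨zpowers w, fun h => hw1 (zpowers_eq_bot.1 h),
    zpowers_le.2 (pCoreOf_le_fittingOf C p (hWP hw)), inf_le_right.trans hle⟩
  have hzX := hSX hc.z_mem_sylow
  have hdz : ¬ Commute d z := fun h => hc.rot.ne (hc.min.onLine_fixed hd hzl h)
  have hXC : X ≠ C := fun e => hdz (mem_centralizer_singleton_iff.1
    (show d ∈ centralizer ({z} : Set G) from hCd ▸ e ▸ hdX))
  by_cases hlayer : Cfsg.layer X = ⊥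
  · refine hXC (hc.eq_centralizer hX hzX hlead ?_ hlayer)
    rw [fittingOf_eq_iSup]
    refine iSup_le fun r => ?_
    haveI := Fact.mk r.2
    by_cases hbot : Cfsg.pCoreOf (r : ℕ) C = ⊥
    swap
    · exact hc.core_le_of_leads hlead r.2 hbot
    intro y hy
    have hr2 : (r : ℕ) ≠ 2 := fun e => hc.two_ne (e ▸ hbot)
    have hinv : ∀ y ∈ Cfsg.pCoreOf (r : ℕ) X, GW.OS.Inverts z y :=
      GW.OS.inverts_of_fixedPointFree (hc.min.sq S z hc.z_mem_sylow)
        (LocalStructure.le_normalizer_pCoreOf X hzX) fun v hv hzv => mem_bot.1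
          (pCoreOf_inf_eq_bot hlead hbot ▸ ⟨hv, mem_centralizer_singleton_iff.2 hzv.eq.symm⟩)
    have hconj : ∀ g ∈ X, GW.OS.Inverts (g * z * g⁻¹) y := fun g hg => by
      have h := (hinv (g⁻¹ * y * g) (by simpa using conj_mem_pCoreOf (inv_mem hg) hy)).conj g
      rwa [show g * (g⁻¹ * y * g) * g⁻¹ = y by group] at h
    have h2 : GW.OS.Inverts (z * (d * z * d⁻¹)) y := by
      have := hconj (d * d) (mul_mem hdX hdX)
      rwa [show d * d * z * (d * d)⁻¹ = d * (d * z * d⁻¹) * d⁻¹ by group,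
        hc.min.conj_conj_eq hd hzl hc.rot.ne] at this
    have h1 : Commute (z * (d * z * d⁻¹)) y := (hinv y hy).mul_commute (hconj d hdX)
    obtain ⟨k, hk⟩ := GW.OS.exists_pow_pCoreOf hy
    rw [h2.eq_one h1 (((r.2.odd_of_ne_two hr2).pow).of_dvd_nat (orderOf_dvd_of_pow_eq_one hk))]
    exact one_mem _
  · rcases hc.min.overgroup_cases S hX.1 hSX hlayer with ⟨c', hK'⟩ | hK'
    · obtain ⟨d', -, hd', hdl', -⟩ := hK'.rot
      have hn := hc.rot
      have hl : ∀ v, OnLine S n v → OnLine S d' v := fun v hv => by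
        have hvS := hc.min.onLine_mem hn hv
        exact (hdl' v hvS).1 (hK'.of_perfect _ hRX (residual_perfect z) v hvS
          ((hc.min.mem_residual_iff hc.nsol hn hvS).2 hv))
      have hcz : c' = z := (hc.min.eq_of_line_eq hn hd' hl).symm
      subst hcz
      exact hdz (commute_iff_conj.2 (hK'.fixed d hdX ((mem_normalizer_iff.1 hd.norm _).1 hK'.mem)))
    · refine hc.min.false_of_sylow_centralizes hc.nsol hc.odd (hc.moved z hc.hz) hc.rot hc.line
        hc.u_ne fun x hx _ s hs => ?_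
      exact hK'.kill z hc.z_mem_sylow hc.rot.ne P (le_inf hPX (LocalStructure.pCoreOf_le C))
        (inf_le_right.trans (LocalStructure.le_normalizer_pCoreOf C)) (hc.odd_core z) x hx s hs

end Esc

namespace Minimal

variable (hG : Minimal G)
variable (hnsol : ∀ a : G, orderOf a = 2 → ¬ Group.IsSolvable (centralizer ({a} : Set G)))
include hG hnsol

/-- All cores of involution centralizers are trivial. -/
theorem core_eq_bot (hSE : ∀ H : Subgroup G, Cfsg.IsStronglyEmbedded H → False)
    (hmax : ∀ a : G, orderOf a = 2 → ¬ Split a → IsCoatom (centralizer ({a} : Set G))) {z : G}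
    (hz : orderOf z = 2) : GW.core z = ⊥ := by
  by_cases hsp : Split z
  · exact hG.core_eq_bot_of_split hnsol hSE hz hsp
  exfalso
  have hns : ∀ a : G, orderOf a = 2 → ¬ Split a := fun a ha h => hsp (hG.split_of_split ha hz h)
  obtain ⟨S, u, n, p, H, hc⟩ :=
    hG.exists_esc hnsol hns (fun a ha => hmax a ha (hns a ha)) hz
  rcases hG.overgroup_cases S hc.H_ne_top hc.sylow_le hc.layer_ne_bot with ⟨c, hK⟩ | hK
  · exact hc.false_of_alpha hK
  · exact hc.false_of_beta hK

end Minimal

end CfsgLib.Walter
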