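import Cfsg.Agent.Walter.CMaxTools
import Cfsg.Agent.S0028

/-!
# Walter, rank three: an escaping fixed subgroup

If `C(z)` is maximal and `u` is on the line of `z` and moves `P = O_p(C(z))`, then some maximal
subgroup `H ≠ C(z)` contains `C(z) ∩ C(u)` and the normalizer of `P ∩ C(u)`, and `C(z) ⇝ H`.
-/

set_option autoImplicit false
set_option linter.style.haveILetI false
set_option linter.unusedSectionVars false

open Subgroup
open CfsgLib.Signalizer CfsgLib.BenderMethod

namespace CfsgLib.Walter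

universe u

variable {G : Type u} [Group G] [Finite G]

/-- The configuration: an escaping maximal subgroup. -/
structure Esc (S : Sylow 2 G) (z u n : G) (p : ℕ) (H : Subgroup G) : Prop where
  min : Minimal G
  nsol : ∀ a : G, orderOf a = 2 → ¬ Group.IsSolvable (centralizer ({a} : Set G))
  rot : Rot S z n
  line : OnLine S n u
  u_ne : u ≠ 1
  prime : p.Prime
  odd : p ≠ 2
  moved : ∀ a : G, orderOf a = 2 →
    ¬ residual a ≤ centralizer (Cfsg.pCoreOf p (centralizer ({a} : Set G)) : Set G)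
  nsplit : ∀ a : G, orderOf a = 2 → ¬ Split a
  max : ∀ a : G, orderOf a = 2 → IsCoatom (centralizer ({a} : Set G))
  coatom : IsCoatom H
  ne : H ≠ centralizer ({z} : Set G)
  cen : centralizer ({z} : Set G) ⊓ centralizer ({u} : Set G) ≤ H
  fixed : normalizer ((Cfsg.pCoreOf p (centralizer ({z} : Set G)) ⊓
    centralizer ({u} : Set G) : Subgroup G) : Set G) ≤ H
  leads : Cfsg.leadsTo (centralizer ({z} : Set G)) H

namespace Minimal

variable (hG : Minimal G)
variable (hnsol : ∀ a : G, orderOf a = 2 → ¬ Group.IsSolvable (centralizer ({a} : Set G)))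
include hG hnsol

/-- Some subgroup escapes. -/
theorem exists_esc (hns : ∀ a : G, orderOf a = 2 → ¬ Split a)
    (hmax : ∀ a : G, orderOf a = 2 → IsCoatom (centralizer ({a} : Set G))) {z : G}
    (hz : orderOf z = 2) : ∃ S u n p H, Esc S z u n p H := by
  haveI := hG.simple
  haveI : Fact (Nat.Prime 2) := ⟨Nat.prime_two⟩
  obtain ⟨p, hp, hp2, hmv⟩ := hG.exists_moved_prime hnsol hz (hns z hz)
  haveI := Fact.mk hp
  obtain ⟨S, hzS, -⟩ := hG.exists_sylow hz
  obtain ⟨n, hn⟩ := hG.exists_rot' hnsol S hzS (Small.ne_one_of_orderOf_two hz)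
  obtain ⟨u, hu, hu1⟩ := hG.exists_onLine_ne_one hn
  have huS := hG.onLine_mem hn hu
  have hou := hG.orderOf_sylow S huS hu1
  have hzu : z ≠ u := fun e => hG.centre_not_onLine hn (e ▸ hu)
  have hczu := hG.sylow_comm S hzS huS
  have hmoved : ∀ a : G, orderOf a = 2 →
      ¬ residual a ≤ centralizer (Cfsg.pCoreOf p (centralizer ({a} : Set G)) : Set G) := fun a ha => by
    obtain ⟨g, hg⟩ := isConj_iff.1 (hG.isConj hz ha)
    exact hg ▸ hG.moved_conj g hmv
  set C := centralizer ({z} : Set G)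
  set P := Cfsg.pCoreOf p C with hPd
  set Q0 := P ⊓ centralizer ({u} : Set G) with hQ0
  set R := C ⊓ centralizer ({u} : Set G) with hR
  have hQ0ne : Q0 ≠ ⊥ := fun h =>
    hG.false_of_sylow_centralizes hnsol hp2 hmv hn hu hu1 fun x hx hc s _ => by
      have : x = 1 := mem_bot.1 (h ▸ ⟨hx, mem_centralizer_singleton_iff.2 hc.eq.symm⟩)
      rw [this]
      exact Commute.one_left s
  have hPC : P ≤ C := LocalStructure.pCoreOf_le C
  have hPp : IsPGroup p P := GW.OS.isPGroup_pCoreOf p C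
  have hQR : Q0 ≤ R := inf_le_inf_right _ hPC
  -- `Q0 ≤ O_p(R)`
  have hRn : R ≤ normalizer (Q0 : Set G) := fun r hr => mem_normalizer_fintype fun x hx =>
    ⟨(mem_normalizer_iff.1 (LocalStructure.le_normalizer_pCoreOf C hr.1) x).1 hx.1,
      (centralizer ({u} : Set G)).mul_mem ((centralizer ({u} : Set G)).mul_mem hr.2 hx.2)
        ((centralizer ({u} : Set G)).inv_mem hr.2)⟩
  have hQP : Q0 ≤ Cfsg.pCoreOf p R := by
    haveI := (normal_subgroupOf_iff_le_normalizer hQR).2 hRn
    have h2 : IsPGroup p (Q0.subgroupOf R) := (hPp.to_le inf_le_left).of_equiv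
      (subgroupOfEquivOfLe hQR).symm
    rw [← map_subgroupOf_eq_of_le hQR]
    exact map_mono (Components.le_pCore h2)
  have hesc : ¬ centralizer (Q0 : Set G) ≤ C := by
    intro hle
    obtain ⟨g, hg1, hg2⟩ := hG.exists_cycle hnsol hz hou hzu hczu
    have hconjR : R.map (MulAut.conj g).toMonoidHom = R := by
      rw [hR, Subgroup.map_inf _ _ _ (MulAut.conj g).injective, map_conj_centralizer_singleton,
        map_conj_centralizer_singleton, hg1, hg2]
      ext x
      simp only [mem_inf, mem_centralizer_singleton_iff]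
      constructor
      · rintro ⟨h1, h2⟩
        refine ⟨mem_centralizer_singleton_iff.2 ?_, h1⟩
        calc x * z = x * (z * u) * u := by
              rw [mul_assoc x (z * u) u, mul_assoc z u u, Small.mul_self_of_orderOf_two hou, mul_one]
          _ = z * u * x * u := by rw [h2]
          _ = z * x := by
              rw [mul_assoc (z * u), h1, ← mul_assoc, mul_assoc z u u,
                Small.mul_self_of_orderOf_two hou, mul_one]
      · rintro ⟨h1, h2⟩
        have h1' : x * z = z * x := mem_centralizer_singleton_iff.1 h1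
        exact ⟨h2, by rw [← mul_assoc, h1', mul_assoc, h2, ← mul_assoc]⟩
    have hCP : centralizer (Cfsg.pCoreOf p R : Set G) ≤ C :=
      (centralizer_le (SetLike.coe_subset_coe.2 hQP)).trans hle
    have hCu : centralizer (Cfsg.pCoreOf p R : Set G) ≤ centralizer ({u} : Set G) := by
      intro x hx
      have hgx : g⁻¹ * x * g ∈ centralizer (Cfsg.pCoreOf p R : Set G) := mem_centralizer_iff.2
        fun w hw => by
          have hw' : g * w * g⁻¹ ∈ Cfsg.pCoreOf p R := by
            rw [← hconjR, ← GW.OS.map_pCoreOf_conj]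
            exact ⟨w, hw, rfl⟩
          have h := mem_centralizer_iff.1 hx _ hw'
          calc w * (g⁻¹ * x * g) = g⁻¹ * (g * w * g⁻¹ * x) * g := by group
            _ = g⁻¹ * (x * (g * w * g⁻¹)) * g := by rw [h]
            _ = g⁻¹ * x * g * w := by group
      have h := mem_centralizer_singleton_iff.1 (hCP hgx)
      refine mem_centralizer_singleton_iff.2 ?_
      calc x * u = g * (g⁻¹ * x * g * z) * g⁻¹ := by rw [← hg1]; group
        _ = g * (z * (g⁻¹ * x * g)) * g⁻¹ := by rw [h]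
        _ = u * x := by rw [← hg1]; group
    -- Thompson's lemma
    have hRC : Cfsg.pCoreOf p R ≤ R := LocalStructure.pCoreOf_le R
    have h28 := Cfsg.Agent.S0028.result p (Cfsg.pCoreOf p R) (zpowers u) P
      (GW.OS.isPGroup_pCoreOf p R) (by
        rw [Nat.card_zpowers, hou]
        exact (Nat.coprime_primes Nat.prime_two hp).2 hp2.symm) hPp
      (fun x hx => mem_centralizer_iff.2 fun y hy => by
        obtain ⟨i, rfl⟩ := hy
        exact (Commute.zpow_left (show Commute u x from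
          (mem_centralizer_singleton_iff.1 (hRC hx).2).symm) i).eq)
      ((hRC.trans inf_le_left).trans (LocalStructure.le_normalizer_pCoreOf C))
      (zpowers_le.2 (LocalStructure.le_normalizer_pCoreOf C
        (hG.sylow_le_centralizer_singleton S hzS huS)))
      (fun x hx => mem_centralizer_iff.2 fun y hy => by
        obtain ⟨i, rfl⟩ := hy
        exact (Commute.zpow_left (show Commute u x from
          (mem_centralizer_singleton_iff.1 (hCu hx.2)).symm) i).eq)
    exact hmv (hG.residual_le_centralizer hnsol hn hu hu1 (LocalStructure.le_normalizer_pCoreOf C)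
      fun w hw => (mem_centralizer_iff.1 (h28 (mem_zpowers u)) w hw).symm)
  have htop : normalizer (Q0 : Set G) ≠ ⊤ := by
    intro h
    haveI : Q0.Normal := normalizer_eq_top_iff.1 h
    rcases IsSimpleGroup.eq_bot_or_eq_top_of_normal Q0 inferInstance with h' | h'
    · exact hQ0ne h'
    · exact (hmax z hz).1 (top_le_iff.1 (h' ▸ inf_le_left.trans hPC))
  obtain ⟨H, hH, hle⟩ := (eq_top_or_exists_le_coatom _).resolve_left htop
  refine ⟨S, u, n, p, H, ⟨hG, hnsol, hn, hu, hu1, hp, hp2, hmoved, hns, hmax, hH, ?_,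
    hRn.trans hle, hle, ?_⟩⟩
  · exact fun e => hesc ((centralizer_le_normalizer _).trans (hle.trans_eq e))
  · exact ⟨Q0, hQ0ne, inf_le_left.trans (pCoreOf_le_fittingOf C p), inf_le_right.trans hle⟩

end Minimal

namespace Esc

variable {S : Sylow 2 G} {z u n : G} {p : ℕ} {H : Subgroup G} (hc : Esc S z u n p H)
include hc

theorem z_mem_sylow : z ∈ (S : Subgroup G) := hc.rot.mem

theorem u_mem_sylow : u ∈ (S : Subgroup G) := hc.min.onLine_mem hc.rot hc.line

theorem hz : orderOf z = 2 := hc.min.orderOf_sylow S hc.rot.mem hc.rot.ne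

theorem z_ne_u : z ≠ u := fun e => hc.min.centre_not_onLine hc.rot (e ▸ hc.line)

theorem sylow_le : (S : Subgroup G) ≤ H := fun _ hs =>
  hc.cen ⟨hc.min.sylow_le_centralizer_singleton S hc.z_mem_sylow hs,
    hc.min.sylow_le_centralizer_singleton S hc.u_mem_sylow hs⟩

theorem H_ne_top : H ≠ ⊤ := hc.coatom.1

theorem mem_H {x : G} (hz : Commute x z) (hu : Commute x u) : x ∈ H :=
  hc.cen ⟨mem_centralizer_singleton_iff.2 hz.eq, mem_centralizer_singleton_iff.2 hu.eq⟩

theorem fixed_le : Cfsg.pCoreOf p (centralizer ({z} : Set G)) ⊓ centralizer ({u} : Set G) ≤ H :=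
  le_normalizer.trans hc.fixed

theorem two_ne : Cfsg.pCoreOf 2 (centralizer ({z} : Set G)) ≠ ⊥ := fun h =>
  hc.rot.ne (mem_bot.1 (h ▸ hc.min.mem_pCoreOf_two hc.hz))

theorem prime_ne : Cfsg.pCoreOf p (centralizer ({z} : Set G)) ≠ ⊥ := fun h =>
  hc.moved z hc.hz fun r _ => mem_centralizer_iff.2 fun x hx => by
    obtain rfl : x = 1 := mem_bot.1 (h ▸ hx)
    simp

theorem core_le {q : ℕ} (hq : q.Prime) (h : Cfsg.pCoreOf q (centralizer ({z} : Set G)) ≠ ⊥) :
    Cfsg.pCoreOf q H ≤ centralizer ({z} : Set G) := by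
  haveI := hc.min.simple
  haveI := Fact.mk hq
  haveI : Fact (Nat.Prime 2) := ⟨Nat.prime_two⟩
  haveI := Fact.mk hc.prime
  by_cases h2 : q = 2
  · exact pCoreOf_le_of_two (hc.max z hc.hz) hc.leads (h2.trans_ne hc.odd.symm) h hc.prime_ne
  · exact pCoreOf_le_of_two (hc.max z hc.hz) hc.leads h2 h hc.two_ne

/-- An element of `O_s(H)`, `s` not dividing `|F(C(z))|`, commuting with an involution `a` of
`⟨z, u⟩` other than `z` is trivial. -/
theorem eq_one_of_commute {s : ℕ} (hs : s.Prime)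
    (hbot : Cfsg.pCoreOf s (centralizer ({z} : Set G)) = ⊥) {a : G} (haS : a ∈ (S : Subgroup G))
    (ha1 : a ≠ 1) (hfix : ∀ x : G, Commute x a → Commute x z → x ∈ H) {y : G}
    (hy : y ∈ Cfsg.pCoreOf s H) (hay : Commute a y) : y = 1 := by
  haveI := hc.min.simple
  haveI := Fact.mk hs
  haveI : Fact (Nat.Prime 2) := ⟨Nat.prime_two⟩
  have hs2 : s ≠ 2 := fun e => hc.two_ne (e ▸ hbot)
  have hzH : z ∈ H := hc.sylow_le hc.z_mem_sylow
  have hyC : Cfsg.pCoreOf s H ⊓ centralizer ({z} : Set G) = ⊥ := pCoreOf_inf_eq_bot hc.leads hbot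
  have hinv : GW.OS.Inverts z y := GW.OS.inverts_of_fixedPointFree
    (Small.mul_self_of_orderOf_two hc.hz) (LocalStructure.le_normalizer_pCoreOf H hzH)
    (fun w hw hzw => mem_bot.1 (hyC ▸ ⟨hw, mem_centralizer_singleton_iff.2 hzw.eq.symm⟩)) y hy
  have hoy : Odd (orderOf y) := by
    obtain ⟨k, hk⟩ := GW.OS.exists_pow_pCoreOf hy
    exact ((hs.odd_of_ne_two hs2).pow).of_dvd_nat (orderOf_dvd_of_pow_eq_one hk)
  have hoa := hc.min.orderOf_sylow S haS ha1
  set Ca := centralizer ({a} : Set G)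
  have hyCa : y ∈ Ca := mem_centralizer_singleton_iff.2 hay.eq.symm
  have hzCa : z ∈ Ca :=
    mem_centralizer_singleton_iff.2 (hc.min.sylow_comm S hc.z_mem_sylow haS).eq
  have hbota : Cfsg.pCoreOf s Ca = ⊥ := by
    obtain ⟨g, hg⟩ := isConj_iff.1 (hc.min.isConj hc.hz hoa)
    subst hg
    show Cfsg.pCoreOf s (centralizer ({g * z * g⁻¹} : Set G)) = ⊥
    rw [← map_conj_centralizer_singleton, ← GW.OS.map_pCoreOf_conj, hbot, Subgroup.map_bot]
  have hall : ∀ r : Nat.Primes, ∀ x ∈ Cfsg.pCoreOf (r : ℕ) Ca, Commute x y := by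
    intro r x hx
    haveI := Fact.mk r.2
    by_cases hrs : (r : ℕ) = s
    · obtain rfl : x = 1 := mem_bot.1 (hbota ▸ hrs ▸ hx)
      exact Commute.one_left y
    have hxCa : x ∈ Ca := LocalStructure.pCoreOf_le Ca hx
    have key : ∀ x ∈ Cfsg.pCoreOf (r : ℕ) Ca, Commute z x → Commute y x := fun x hx hzx =>
      (GW.OS.commute_of_cores r.2 hs hrs hx hy
        (hfix x (mem_centralizer_singleton_iff.1 (LocalStructure.pCoreOf_le Ca hx)) hzx.symm)
        hyCa).symm
    by_cases hr2 : (r : ℕ) = 2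
    · refine (key x hx ?_).symm
      exact hc.min.sylow_comm S hc.z_mem_sylow (hc.min.pCoreOf_two_le S haS (hr2 ▸ hx))
    · exact (GW.OS.commute_of_inverts_fixed (GW.OS.isPGroup_pCoreOf (r : ℕ) Ca) hr2
        (Small.mul_self_of_orderOf_two hc.hz) (LocalStructure.le_normalizer_pCoreOf Ca hzCa)
        (LocalStructure.le_normalizer_pCoreOf Ca hyCa) hinv hoy
        (GW.OS.coprime_orderOf_pCoreOf hs r.2 (Ne.symm hrs) hy) key x hx).symm
  have hyF := mem_fittingOf_of_commute
    (hc.min.layer_centralizer_eq_bot hc.nsol hoa (hc.nsplit a hoa)) hyCa hall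
  obtain ⟨k, hk⟩ := GW.OS.exists_pow_pCoreOf hy
  exact mem_bot.1 (hbota ▸ mem_pCoreOf_of_mem_fittingOf Ca hyF hk)

/-- `F(H) ≤ C(z)`. -/
theorem fittingOf_le : fittingOf H ≤ centralizer ({z} : Set G) := by
  haveI := hc.min.simple
  rw [fittingOf_eq_iSup]
  refine iSup_le fun s => ?_
  haveI := Fact.mk s.2
  by_cases hbot : Cfsg.pCoreOf (s : ℕ) (centralizer ({z} : Set G)) = ⊥
  swap
  · exact hc.core_le s.2 hbot
  intro y hy
  have hsS := hc.sylow_le
  have huz := hc.min.sylow_comm S hc.u_mem_sylow hc.z_mem_sylow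
  have hzu : z * u ∈ (S : Subgroup G) := mul_mem hc.z_mem_sylow hc.u_mem_sylow
  have hzu1 : z * u ≠ 1 := fun e => hc.z_ne_u (by
    rw [← mul_one z, ← hc.min.sq S u hc.u_mem_sylow, ← mul_assoc, e, one_mul])
  have hz1 : ∀ x ∈ Cfsg.pCoreOf (s : ℕ) H, Commute z x → x = 1 := fun x hx hzx =>
    mem_bot.1 (pCoreOf_inf_eq_bot hc.leads hbot ▸ ⟨hx, mem_centralizer_singleton_iff.2 hzx.eq.symm⟩)
  have hu1 : ∀ x ∈ Cfsg.pCoreOf (s : ℕ) H, Commute u x → x = 1 := fun x hx hux =>
    hc.eq_one_of_commute s.2 hbot hc.u_mem_sylow hc.u_ne (fun v h1 h2 => hc.mem_H h2 h1) hx hux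
  have hzu' : ∀ x ∈ Cfsg.pCoreOf (s : ℕ) H, Commute (z * u) x → x = 1 := fun x hx hux =>
    hc.eq_one_of_commute s.2 hbot hzu hzu1 (fun v h1 h2 => hc.mem_H h2 (by
      have h : u = z⁻¹ * (z * u) := by group
      rw [h]
      exact h2.inv_right.mul_right h1)) hx hux
  have hinv : ∀ a : G, a ∈ (S : Subgroup G) →
      (∀ x ∈ Cfsg.pCoreOf (s : ℕ) H, Commute a x → x = 1) → GW.OS.Inverts a y := fun a ha hfix =>
    GW.OS.inverts_of_fixedPointFree (hc.min.sq S a ha)
      (LocalStructure.le_normalizer_pCoreOf H (hsS ha)) hfix y hy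
  have h1 : Commute (z * u) y :=
    (hinv z hc.z_mem_sylow hz1).mul_commute (hinv u hc.u_mem_sylow hu1)
  rw [hzu' y hy h1]
  exact one_mem _

/-- `O_q(X) ≤ C(z)` for the primes of `F(C(z))` when `C(z) ⇝ X`. -/
theorem core_le_of_leads {X : Subgroup G} (hl : Cfsg.leadsTo (centralizer ({z} : Set G)) X) {q : ℕ}
    (hq : q.Prime) (h : Cfsg.pCoreOf q (centralizer ({z} : Set G)) ≠ ⊥) :
    Cfsg.pCoreOf q X ≤ centralizer ({z} : Set G) := by
  haveI := hc.min.simple
  haveI := Fact.mk hq
  haveI : Fact (Nat.Prime 2) := ⟨Nat.prime_two⟩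
  haveI := Fact.mk hc.prime
  by_cases h2 : q = 2
  · exact pCoreOf_le_of_two (hc.max z hc.hz) hl (h2.trans_ne hc.odd.symm) h hc.prime_ne
  · exact pCoreOf_le_of_two (hc.max z hc.hz) hl h2 h hc.two_ne

/-- A maximal `X` with `C(z) ⇝ X`, `F(X) ≤ C(z)` and no components is `C(z)`. -/
theorem eq_centralizer {X : Subgroup G} (hX : IsCoatom X) (hzX : z ∈ X)
    (hl : Cfsg.leadsTo (centralizer ({z} : Set G)) X)
    (hF : fittingOf X ≤ centralizer ({z} : Set G)) (hlayer : Cfsg.layer X = ⊥) :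
    X = centralizer ({z} : Set G) := by
  haveI := hc.min.simple
  haveI : Fact (Nat.Prime 2) := ⟨Nat.prime_two⟩
  set C := centralizer ({z} : Set G)
  have hfH : (Cfsg.generalizedFittingSubgroup X).map X.subtype = fittingOf X := by
    rw [fstar_eq, layerOf', hlayer, Subgroup.map_bot, bot_sup_eq]
  have hne : fittingOf X ≠ ⊥ := fun hbot => hc.rot.ne (by
    have hz : z ∈ fittingOf X := mem_fittingOf_of_commute hlayer hzX fun r y hy => by
      haveI := Fact.mk r.2
      have := pCoreOf_le_fittingOf X (r : ℕ) hy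
      rw [hbot, mem_bot] at this
      exact this ▸ Commute.one_left z
    rwa [hbot, mem_bot] at hz)
  have h2 : Cfsg.leadsTo X C := ⟨fittingOf X, hne, le_rfl, inf_le_left.trans (hfH.trans_le hF)⟩
  rcases symmetric (hc.max z hc.hz) hX hl h2 with h | ⟨q, hq, hqC, -⟩
  · exact h.symm
  · exfalso
    haveI := Fact.mk hq
    haveI := Fact.mk hc.prime
    have key : ∀ (r : ℕ) [Fact r.Prime], r ≠ q → Cfsg.pCoreOf r C = ⊥ := fun r _ hrq => by
      refine (IsPGroup.disjoint_of_ne r q hrq _ _ (GW.OS.isPGroup_pCoreOf r C)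
        ((hqC.map C.subtype).to_le ?_)).eq_bot_of_self
      exact (pCoreOf_le_fittingOf C r).trans (map_mono le_sup_right)
    by_cases h : q = 2
    · exact hc.prime_ne (key p (h ▸ hc.odd))
    · exact hc.two_ne (key 2 (Ne.symm h))

/-- `H` has components. -/
theorem layer_ne_bot : Cfsg.layer H ≠ ⊥ := fun hlayer =>
  hc.ne (hc.eq_centralizer hc.coatom (hc.sylow_le hc.z_mem_sylow) hc.leads hc.fittingOf_le hlayer)

end Esc

end CfsgLib.Walter
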