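import Cfsg.Agent.Walter.TopModel
import Cfsg.Agent.S0223

/-!
# Walter, rank three: the split case has trivial cores

If the residual of `C(z)` centralizes `O(C(z))` then a Sylow 2-subgroup `S` containing `z` does, so
`O(C(z)) ≤ O(C(u))` for `u` on the line of `z`; as every two involutions of `S` lie on a line, all
these cores are equal, and their normalizer would be strongly embedded.
-/

set_option autoImplicit false
set_option linter.style.haveILetI false
set_option linter.unusedSectionVars false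

open Subgroup

namespace CfsgLib.Walter

universe u

variable {G : Type u} [Group G] [Finite G]

namespace Minimal

variable (hG : Minimal G)
include hG

/-- An element of order 2 of a centralizer has an image of order 2 modulo the odd core. -/
theorem orderOf_mk {z : G} {s : centralizer ({z} : Set G)} (hs : orderOf (s : G) = 2) :
    orderOf (QuotientGroup.mk s :
      centralizer ({z} : Set G) ⧸ Cfsg.oddCore (centralizer ({z} : Set G))) = 2 := by
  refine Small.orderOf_eq_two_iff_sq.2 ⟨fun h => ?_, ?_⟩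
  · have := (Inv54.odd_card_oddCore (G := centralizer ({z} : Set G))).of_dvd_nat
      ((Cfsg.oddCore (centralizer ({z} : Set G))).orderOf_dvd_natCard ((QuotientGroup.eq_one_iff s).1 h))
    rw [← orderOf_coe, hs] at this
    exact absurd this (by decide)
  · rw [← QuotientGroup.mk_mul, ← QuotientGroup.mk_one]
    exact congrArg _ (Subtype.ext (Small.mul_self_of_orderOf_two hs))

variable (hnsol : ∀ a : G, orderOf a = 2 → ¬ Group.IsSolvable (centralizer ({a} : Set G)))
include hnsol

variable {S : Sylow 2 G}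

/-- In the split case `S` centralizes the core. -/
theorem commute_core_sylow {z : G} (hzS : z ∈ (S : Subgroup G)) (hz1 : z ≠ 1) (hsp : Split z)
    {k s : G} (hk : k ∈ GW.core z) (hs : s ∈ (S : Subgroup G)) : Commute k s := by
  obtain ⟨n, hn⟩ := hG.exists_rot' hnsol S hzS hz1
  obtain ⟨y, hy, e⟩ := hG.exists_onLine_mul hn hs
  have hyr := (hG.mem_residual_iff hnsol hn (hG.onLine_mem hn hy)).2 hy
  have hky : Commute k y := mem_centralizer_iff.1 (split_iff.1 hsp hyr) k hk
  rcases e with rfl | rfl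
  · exact hky
  · exact Commute.mul_right (GW.commute_of_mem_core hk) hky

/-- In the split case the core lies in the cores of the involutions of the line. -/
theorem core_le_core {z u nz : G} (hz : Rot S z nz) (hu : OnLine S nz u) (hu1 : u ≠ 1)
    (hsp : Split z) : GW.core z ≤ GW.core u := by
  have huS := hG.onLine_mem hz hu
  obtain ⟨nu, hnu⟩ := hG.exists_rot' hnsol S huS hu1
  have hou := hG.orderOf_sylow S huS hu1
  have hzl := hG.not_mutual hnsol hz hnu hu
  obtain ⟨y, hy, hzy⟩ := hG.exists_onLine_mul hnu hz.mem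
  have hzy' : z = u * y := hzy.resolve_left fun e => hzl (e ▸ hy)
  have hy1 : y ≠ 1 := by
    rintro rfl
    rw [mul_one] at hzy'
    exact hG.centre_not_onLine hz (hzy' ▸ hu)
  have hySC := hG.sylow_le_centralizer_singleton S huS
  set C := centralizer ({u} : Set G) with hCdef
  obtain ⟨L, hT⟩ := hG.centralizer_top hnsol hou
  haveI := hT.normal
  haveI : (zpowers (zbar u)).Normal := hT.centralizer_eq ▸ inferInstance
  have hyS := hG.onLine_mem hnu hy
  set y' := nu * y * nu⁻¹ with hy'
  have hy'l : OnLine S nu y' := hG.onLine_conj hnu hy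
  have hy'S := hG.onLine_mem hnu hy'l
  have hy'1 : y' ≠ 1 := fun e => hy1 (conj_eq_one_iff.1 e)
  set a := (QuotientGroup.mk ⟨y, hySC hyS⟩ :
    centralizer ({u} : Set G) ⧸ Cfsg.oddCore (centralizer ({u} : Set G)))
  set b := (QuotientGroup.mk ⟨y', hySC hy'S⟩ :
    centralizer ({u} : Set G) ⧸ Cfsg.oddCore (centralizer ({u} : Set G)))
  have hoy := hG.orderOf_sylow S hyS hy1
  have hoy' := hG.orderOf_sylow S hy'S hy'1
  have hne : a ≠ b := by
    intro e
    have hne' : y ≠ y' := fun e' => hy1 (hG.onLine_fixed hnu hy (commute_iff_conj.2 e'.symm))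
    have h1 : y⁻¹ * y' ≠ 1 := fun h => hne' (inv_mul_eq_one.1 h)
    have ho := hG.orderOf_sylow S (mul_mem (inv_mem hyS) hy'S) h1
    have := (Inv54.odd_card_oddCore (G := centralizer ({u} : Set G))).of_dvd_nat
      ((Cfsg.oddCore (centralizer ({u} : Set G))).orderOf_dvd_natCard (QuotientGroup.eq.1 e))
    rw [← orderOf_coe] at this
    change Odd (orderOf (y⁻¹ * y')) at this
    rw [ho] at this
    exact absurd this (by decide)
  set Y := ((GW.core z).subgroupOf (centralizer ({u} : Set G))).map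
    (QuotientGroup.mk' (Cfsg.oddCore (centralizer ({u} : Set G))))
  have hcore : ∀ k ∈ GW.core z, k ∈ centralizer ({u} : Set G) := fun k hk =>
    mem_centralizer_singleton_iff.2 (hG.commute_core_sylow hnsol hz.mem hz.ne hsp hk huS).eq
  have hzC : z ∈ centralizer ({u} : Set G) := hySC hz.mem
  have hbot : Y = ⊥ := by
    refine eq_bot_of_four (hG.twoType.subgroup _).quotient_oddCore hT.psl (hG.orderOf_zbar hou)
      hT.zbar_notMem hT.centralizer_eq (a := a) (b := b)
      ((hG.mk_mem_top_iff hnu hT (s := ⟨y, hySC hyS⟩) hyS).2 hy)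
      ((hG.mk_mem_top_iff hnu hT (s := ⟨y', hySC hy'S⟩) hy'S).2 hy'l)
      (hG.orderOf_mk hoy) (hG.orderOf_mk hoy') hne ?_ ?_ ?_ ?_
    · exact (show Commute (⟨y, hySC hyS⟩ : centralizer ({u} : Set G)) ⟨y', hySC hy'S⟩ from
        Subtype.ext (hG.sylow_comm S hyS hy'S).eq).map (QuotientGroup.mk' _)
    · refine Odd.of_dvd_nat ?_ (card_map_dvd _ _)
      rw [Nat.card_congr (subgroupOfEquivOfLe hcore).toEquiv]
      exact GW.odd_core z
    · rintro _ ⟨k, hk, rfl⟩
      exact ⟨(show Commute k (⟨y, hySC hyS⟩ : centralizer ({u} : Set G)) from Subtype.ext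
          (hG.commute_core_sylow hnsol hz.mem hz.ne hsp hk hyS).eq).map (QuotientGroup.mk' _),
        (show Commute k (⟨y', hySC hy'S⟩ : centralizer ({u} : Set G)) from Subtype.ext
          (hG.commute_core_sylow hnsol hz.mem hz.ne hsp hk hy'S).eq).map (QuotientGroup.mk' _)⟩
    · intro t _ hat w hw
      set π := QuotientGroup.mk' (Cfsg.oddCore (centralizer ({u} : Set G)))
      set zC : centralizer ({u} : Set G) := ⟨z, hzC⟩
      have hpz : π zC = zbar u * a := by
        rw [show zC = ⟨u, mem_centralizer_self u⟩ * ⟨y, hySC hyS⟩ from Subtype.ext hzy', map_mul]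
        rfl
      have hzt : Commute (π zC) t := by
        rw [hpz]
        exact Commute.mul_left (show zbar u * t = t * zbar u from (hG.zbar_central u t).symm) hat
      have hlift := GW.map_inf_centralizer (π := π)
        (by rw [QuotientGroup.ker_mk']; exact Inv54.odd_card_oddCore) ⊤ (b := zC) (mem_top _)
        (by rw [← orderOf_coe]; exact hG.orderOf_sylow S hz.mem hz.ne)
      obtain ⟨c, hc, rfl⟩ : t ∈ ((⊤ : Subgroup (centralizer ({u} : Set G))) ⊓
          centralizer ({zC} : Set (centralizer ({u} : Set G)))).map π := by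
        rw [hlift]
        exact ⟨by rw [map_top_of_surjective _ (QuotientGroup.mk'_surjective _)]; exact mem_top _,
          mem_centralizer_singleton_iff.2 hzt.eq.symm⟩
      obtain ⟨k, hk, rfl⟩ := hw
      refine ⟨c * k * c⁻¹, ?_, by simp [π, map_mul, map_inv]⟩
      exact GW.core_conj (mem_centralizer_singleton_iff.2
        (congrArg Subtype.val (mem_centralizer_singleton_iff.1 hc.2))) hk
  intro k hk
  have : (⟨k, hcore k hk⟩ : centralizer ({u} : Set G)) ∈
      Cfsg.oddCore (centralizer ({u} : Set G)) := by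
    rw [← QuotientGroup.eq_one_iff, ← mem_bot, ← hbot]
    exact ⟨_, hk, rfl⟩
  exact ⟨_, this, rfl⟩

/-- In the split case all cores of involutions of `S` are equal. -/
theorem core_eq_of_split (hsp : ∀ a : G, orderOf a = 2 → Split a) {z w : G}
    (hz : z ∈ (S : Subgroup G)) (hz1 : z ≠ 1) (hw : w ∈ (S : Subgroup G)) (hw1 : w ≠ 1) :
    GW.core z = GW.core w := by
  by_cases hzw : z = w
  · rw [hzw]
  obtain ⟨c, n, hc, hzl, hwl⟩ := hG.exists_line hnsol S hz hz1 hw hw1 hzw
  have hoc := hG.orderOf_sylow S hc.mem hc.ne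
  have key : ∀ x, OnLine S n x → x ≠ 1 → GW.core c = GW.core x := fun x hx hx1 => by
    refine eq_of_le_of_card_ge (hG.core_le_core hnsol hc hx hx1 (hsp c hoc)) (le_of_eq ?_)
    obtain ⟨g, hg⟩ := isConj_iff.1 (hG.isConj hoc (hG.orderOf_sylow S (hG.onLine_mem hc hx) hx1))
    rw [← hg, ← core_conj, card_map_of_injective (MulAut.conj g).injective]
  rw [← key z hzl hz1, key w hwl hw1]

/-- The split case has trivial cores. -/
theorem core_eq_bot_of_split (hSE : ∀ H : Subgroup G, Cfsg.IsStronglyEmbedded H → False) {z : G}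
    (hz : orderOf z = 2) (hsp : Split z) : GW.core z = ⊥ := by
  haveI : Fact (Nat.Prime 2) := ⟨Nat.prime_two⟩
  by_contra hne
  obtain ⟨S, hzS, -⟩ := hG.exists_sylow hz
  have hz1 := Small.ne_one_of_orderOf_two hz
  have hall : ∀ a : G, orderOf a = 2 → Split a := fun a ha => hG.split_of_split hz ha hsp
  set D := GW.core z
  have hD : ∀ w ∈ (S : Subgroup G), w ≠ 1 → GW.core w = D := fun w hw hw1 =>
    hG.core_eq_of_split hnsol hall hw hw1 hzS hz1
  set H := normalizer (D : Set G)
  have hC : ∀ w ∈ (S : Subgroup G), w ≠ 1 → centralizer ({w} : Set G) ≤ H := fun w hw hw1 =>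
    (GW.centralizer_le_normalizer_core w).trans (by rw [hD w hw hw1])
  have hSH : (S : Subgroup G) ≤ H :=
    (hG.sylow_le_centralizer_singleton S hzS).trans (hC z hzS hz1)
  have hHtop : H ≠ ⊤ := by
    intro htop
    haveI := hG.simple
    haveI : D.Normal := normalizer_eq_top_iff.1 htop
    rcases IsSimpleGroup.eq_bot_or_eq_top_of_normal D inferInstance with h | h
    · exact hne h
    · exact hG.centralizer_ne_top hz (top_le_iff.1 (h ▸ GW.core_le z))
  have heven : Even (Nat.card H) := by
    rw [even_iff_two_dvd]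
    exact hz ▸ H.orderOf_dvd_natCard (hSH hzS)
  have hinto : ∀ t ∈ H, orderOf t = 2 → ∃ h ∈ H, h * t * h⁻¹ ∈ (S : Subgroup G) := by
    intro t ht ho
    obtain ⟨Q, hQ⟩ := (IsPGroup.of_card (n := 1) (by rw [Nat.card_zpowers, orderOf_mk_eq ho ht,
      pow_one]) : IsPGroup 2 (zpowers (⟨t, ht⟩ : H))).exists_le_sylow
    obtain ⟨h, hh⟩ := MulAction.exists_smul_eq H Q (S.subtype hSH)
    refine ⟨h, h.2, ?_⟩
    have : h * ⟨t, ht⟩ * h⁻¹ ∈ (S.subtype hSH : Subgroup H) :=
      hh ▸ ⟨⟨t, ht⟩, hQ (mem_zpowers _), rfl⟩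
    exact this
  refine hSE H ((Cfsg.Agent.S0223.result H hHtop heven).2 ⟨fun t ht ho => ?_, ?_⟩)
  · obtain ⟨h, hh, hhS⟩ := hinto t ht ho
    have h1 := hC _ hhS fun e => Small.ne_one_of_orderOf_two ho (conj_eq_one_iff.1 e)
    intro x hx
    have h2 : h * x * h⁻¹ ∈ H := h1 (by
      rw [← map_conj_centralizer_singleton]
      exact ⟨x, hx, rfl⟩)
    simpa [mul_assoc] using mul_mem (mul_mem (inv_mem hh) h2) hh
  · intro t ht s hs hto hso _
    obtain ⟨h, hh, hhS⟩ := hinto t ht hto
    obtain ⟨k, hk, hkS⟩ := hinto s hs hso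
    have h1 : h * t * h⁻¹ ≠ 1 := fun e => Small.ne_one_of_orderOf_two hto (conj_eq_one_iff.1 e)
    have k1 : k * s * k⁻¹ ≠ 1 := fun e => Small.ne_one_of_orderOf_two hso (conj_eq_one_iff.1 e)
    obtain ⟨n, hn, hne'⟩ := hG.exists_conj_sylow S hhS h1 hkS k1
    have hnH : n ∈ H := mem_normalizer_iff_map_conj_eq.2 (by
      show (GW.core z).map (MulAut.conj n).toMonoidHom = GW.core z
      rw [core_conj]
      exact hD _ ((mem_normalizer_iff.1 hn z).1 hzS) fun e => hz1 (conj_eq_one_iff.1 e))
    refine ⟨k⁻¹ * n * h, mul_mem (mul_mem (inv_mem hk) hnH) hh, ?_⟩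
    calc k⁻¹ * n * h * t * (k⁻¹ * n * h)⁻¹ = k⁻¹ * (n * (h * t * h⁻¹) * n⁻¹) * k := by group
      _ = s := by rw [hne']; group
where
  orderOf_mk_eq {H : Subgroup G} {t : G} (ho : orderOf t = 2) (ht : t ∈ H) :
      orderOf (⟨t, ht⟩ : H) = 2 := by rw [Subgroup.orderOf_mk, ho]

end Minimal

end CfsgLib.Walter
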