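import Cfsg.Agent.Walter.Overgroup
import Cfsg.Agent.Walter.Tournament

/-!
# Walter, rank three: the Fitting subgroup of a non-split involution centralizer

For `¬ Split z`: `C(z)` has no components, `z ∈ O₂(C(z))`, and for some odd prime `p` no involution
of the line of `z` centralizes `O_p(C(z))`.  So the fixed points in `O_p(C(z))` of an involution of
the line are not centralized by a Sylow 2-subgroup.
-/

set_option autoImplicit false
set_option linter.style.haveILetI false
set_option linter.unusedSectionVars false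

open Subgroup
open CfsgLib.Signalizer CfsgLib.BenderMethod

namespace CfsgLib.Walter

universe u

variable {G : Type u} [Group G]

/-- A perfect subgroup with image in a solvable subgroup of a quotient lies in the kernel. -/
theorem le_of_perfect_of_isSolvable {X : Type*} [Group X] {P M N : Subgroup X} [N.Normal]
    (hP : ⁅P, P⁆ = P) (hM : Group.IsSolvable M) (h : P ≤ N ⊔ M) : P ≤ N := by
  set π := QuotientGroup.mk' N
  have hle : P.map π ≤ M.map π := by
    refine (map_mono h).trans ?_
    rw [Subgroup.map_sup, show N.map π = ⊥ by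
      rw [Subgroup.map_eq_bot_iff, QuotientGroup.ker_mk'], bot_sup_eq]
  have hs : Group.IsSolvable (P.map π) :=
    Components.isSolvable_mono (Components.isSolvable_map π hM) hle
  have hperf : ⁅P.map π, P.map π⁆ = P.map π := by rw [← map_commutator, hP]
  have hbot : P.map π = ⊥ := by
    obtain ⟨n, hn⟩ := (Group.isSolvable_def (G := P.map π)).1 hs
    have key : ∀ k, P.map π ≤ (derivedSeries (P.map π) k).map (P.map π).subtype := by
      intro k
      induction k with
      | zero => rw [derivedSeries_zero, ← MonoidHom.range_eq_map, range_subtype]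
      | succ k ih =>
        rw [derivedSeries_succ, map_commutator]
        exact hperf.ge.trans (commutator_mono ih ih)
    exact le_bot_iff.1 ((key n).trans (by rw [hn, Subgroup.map_bot]))
  rwa [Subgroup.map_eq_bot_iff, QuotientGroup.ker_mk'] at hbot

variable [Finite G]

namespace Minimal

variable (hG : Minimal G)
variable (hnsol : ∀ a : G, orderOf a = 2 → ¬ Group.IsSolvable (centralizer ({a} : Set G)))
include hG hnsol

theorem residual_ne_bot {z : G} (hz : orderOf z = 2) : residual z ≠ ⊥ := by
  intro h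
  obtain ⟨L, hT⟩ := hG.centralizer_top hnsol hz
  have hL := hG.residual_map hnsol hz hT
  rw [h, bot_subgroupOf, Subgroup.map_bot] at hL
  haveI := hT.psl.isSimpleGroup
  exact (nontrivial_iff_ne_bot L).1 inferInstance hL.symm

theorem not_isSolvable_residual {z : G} (hz : orderOf z = 2) :
    ¬ Group.IsSolvable (residual z) := fun h =>
  hG.residual_ne_bot hnsol hz (le_bot_iff.1 (le_of_perfect_of_isSolvable (N := ⊥)
    (residual_perfect z) h le_sup_right))

/-- A subgroup normalized by `C(z)` centralized by an involution of the line is centralized by the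
residual. -/
theorem residual_le_centralizer {S : Sylow 2 G} {z n u : G} (hn : Rot S z n) (hu : OnLine S n u)
    (hu1 : u ≠ 1) {W : Subgroup G}
    (hW : centralizer ({z} : Set G) ≤ normalizer (W : Set G)) (huW : ∀ w ∈ W, Commute u w) :
    residual z ≤ centralizer (W : Set G) := by
  set C := centralizer ({z} : Set G)
  have hz := hG.orderOf_sylow S hn.mem hn.ne
  obtain ⟨L, hT⟩ := hG.centralizer_top hnsol hz
  have hmap := hG.residual_map hnsol hz hT
  haveI := hT.normal
  set R := (residual z).subgroupOf C with hR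
  haveI hRn : R.Normal :=
    (normal_subgroupOf_iff_le_normalizer (residual_le z)).2 (centralizer_le_normalizer_residual z)
  set W' := (centralizer (W : Set G)).subgroupOf C with hW'
  haveI hWn : W'.Normal := ⟨fun x hx g => mem_centralizer_iff.2 fun w hw => by
    have hw' : (g : G)⁻¹ * w * g ∈ W := by
      simpa using (mem_normalizer_iff.1 (hW (inv_mem g.2)) w).1 hw
    have hcom : ((g : G)⁻¹ * w * g) * x = x * ((g : G)⁻¹ * w * g) :=
      mem_centralizer_iff.1 hx _ hw'
    show w * ((g : G) * x * (g : G)⁻¹) = g * x * (g : G)⁻¹ * w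
    calc w * ((g : G) * x * (g : G)⁻¹) = g * ((g : G)⁻¹ * w * g * x) * (g : G)⁻¹ := by group
      _ = g * (x * ((g : G)⁻¹ * w * g)) * (g : G)⁻¹ := by rw [hcom]
      _ = g * x * (g : G)⁻¹ * w := by group⟩
  set π := QuotientGroup.mk' (Cfsg.oddCore C)
  have huS := hG.onLine_mem hn hu
  have huR : u ∈ residual z := (hG.mem_residual_iff hnsol hn huS).2 hu
  haveI hKn : ((R ⊓ W').map π).Normal := Normal.map inferInstance _ (QuotientGroup.mk'_surjective _)
  have hKL : (R ⊓ W').map π ≤ L := hmap ▸ map_mono inf_le_left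
  haveI := hT.psl.isSimpleGroup
  have huC : (⟨u, residual_le z huR⟩ : C) ∈ R ⊓ W' :=
    ⟨huR, mem_centralizer_iff.2 fun w hw => (huW w hw).eq.symm⟩
  rcases IsSimpleGroup.eq_bot_or_eq_top_of_normal _
    (inferInstance : (((R ⊓ W').map π).subgroupOf L).Normal) with h | h
  · exfalso
    have := congrArg (map L.subtype) h
    rw [map_subgroupOf_eq_of_le hKL, Subgroup.map_bot] at this
    have h1 : π ⟨u, residual_le z huR⟩ = 1 := mem_bot.1 (this ▸ ⟨_, huC, rfl⟩)
    have h2 := hG.orderOf_mk (z := z) (s := ⟨u, residual_le z huR⟩) (hG.orderOf_sylow S huS hu1)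
    exact Small.ne_one_of_orderOf_two h2 h1
  · have heq : R.map π = (R ⊓ W').map π :=
      hmap.trans (le_antisymm hKL (subgroupOf_eq_top.1 h)).symm
    have hle : R ≤ (R ⊓ W') ⊔ Cfsg.oddCore C := by
      intro x hx
      obtain ⟨k, hk, hkx⟩ : π x ∈ (R ⊓ W').map π := heq ▸ ⟨x, hx, rfl⟩
      rw [show x = k * (k⁻¹ * x) by group]
      exact mul_mem_sup hk (QuotientGroup.eq.1 hkx)
    have hperf : ⁅R, R⁆ = R := by
      apply map_injective C.subtype_injective
      rw [map_commutator, map_subgroupOf_eq_of_le (residual_le z), residual_perfect]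
    have h3 : R ≤ R ⊓ W' := le_of_perfect_of_isSolvable hperf
      (Cfsg.Agent.S0205.result Inv54.odd_card_oddCore) hle
    intro r hr
    exact (h3 (show (⟨r, residual_le z hr⟩ : C) ∈ R from hr)).2

/-- A non-split centralizer has no components. -/
theorem layer_centralizer_eq_bot {z : G} (hz : orderOf z = 2) (hns : ¬ Split z) :
    Cfsg.layer (centralizer ({z} : Set G)) = ⊥ := by
  by_contra hE
  set C := centralizer ({z} : Set G)
  obtain ⟨L, hT⟩ := hG.centralizer_top hnsol hz
  haveI := hT.normal
  set π := QuotientGroup.mk' (Cfsg.oddCore C)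
  haveI : (Cfsg.layer C).Normal := Components.layer_normal
  haveI hI : ((Cfsg.layer C).map π).Normal := Normal.map inferInstance _ (QuotientGroup.mk'_surjective _)
  haveI hOs : Group.IsSolvable (Cfsg.oddCore C) := Cfsg.Agent.S0205.result Inv54.odd_card_oddCore
  haveI := hG.isSolvable_quotient_top hT
  have hperf : ⁅Cfsg.layer C, Cfsg.layer C⁆ = Cfsg.layer C := Components.layer_commutator_self
  have hle : (Cfsg.layer C).map π ≤ L := by
    intro x hx
    rw [← QuotientGroup.eq_one_iff, ← mem_bot]
    obtain ⟨m, hm⟩ := (Group.isSolvable_def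
      (G := (C ⧸ Cfsg.oddCore C) ⧸ L)).1 inferInstance
    rw [← hm]
    have hall : ∀ k, (Cfsg.layer C).map ((QuotientGroup.mk' L).comp π) ≤
        derivedSeries ((C ⧸ Cfsg.oddCore C) ⧸ L) k := by
      intro k
      induction k with
      | zero => exact le_top
      | succ k ih =>
        rw [derivedSeries_succ, ← hperf, map_commutator]
        exact commutator_mono ih ih
    obtain ⟨y, hy, rfl⟩ := hx
    exact hall m ⟨y, hy, rfl⟩
  haveI := hT.psl.isSimpleGroup
  rcases IsSimpleGroup.eq_bot_or_eq_top_of_normal _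
    (inferInstance : (((Cfsg.layer C).map π).subgroupOf L).Normal) with h | h
  · have := congrArg (map L.subtype) h
    rw [map_subgroupOf_eq_of_le hle, Subgroup.map_bot, Subgroup.map_eq_bot_iff,
      QuotientGroup.ker_mk'] at this
    obtain ⟨K, hK⟩ := not_forall_not.1 fun hno => hE (Components.layer_eq_bot_iff.2 hno)
    exact Components.IsComponent.not_isSolvable hK
      (Components.isSolvable_mono hOs ((Components.IsComponent.le_layer hK).trans this))
  · refine hns (split_iff.2 ?_)
    have hmap := hG.residual_map hnsol hz hT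
    set R := (residual z).subgroupOf C
    have hRle : R ≤ Cfsg.layer C ⊔ Cfsg.oddCore C := by
      intro x hx
      obtain ⟨k, hk, hkx⟩ : π x ∈ (Cfsg.layer C).map π :=
        subgroupOf_eq_top.1 h (hmap ▸ ⟨x, hx, rfl⟩)
      rw [show x = k * (k⁻¹ * x) by group]
      exact mul_mem_sup hk (QuotientGroup.eq.1 hkx)
    have hRp : ⁅R, R⁆ = R := by
      apply map_injective C.subtype_injective
      rw [map_commutator, map_subgroupOf_eq_of_le (residual_le z), residual_perfect]
    have h3 := le_of_perfect_of_isSolvable hRp hOs hRle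
    intro r hr
    exact layerOf_le_centralizer C ⟨⟨r, residual_le z hr⟩, h3 hr, rfl⟩

omit hnsol in
theorem mem_pCoreOf_two {z : G} (hz : orderOf z = 2) :
    z ∈ Cfsg.pCoreOf 2 (centralizer ({z} : Set G)) := by
  set zC : centralizer ({z} : Set G) := ⟨z, mem_centralizer_self z⟩
  haveI : (zpowers zC).Normal := ⟨fun x hx g => by
    obtain ⟨i, rfl⟩ := hx
    show g * zC ^ i * g⁻¹ ∈ zpowers zC
    rw [(Commute.zpow_right (show Commute g zC from
      Subtype.ext (mem_centralizer_singleton_iff.1 g.2)) i).eq, mul_inv_cancel_right]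
    exact zpow_mem (mem_zpowers _) i⟩
  have hp : IsPGroup 2 (zpowers zC) := IsPGroup.of_card (n := 1) (by
    rw [Nat.card_zpowers, pow_one, ← orderOf_coe]; exact hz)
  exact ⟨zC, Components.le_pCore hp (mem_zpowers zC), rfl⟩

omit hnsol in
theorem pCoreOf_two_le {z : G} (S : Sylow 2 G) (hzS : z ∈ (S : Subgroup G)) :
    Cfsg.pCoreOf 2 (centralizer ({z} : Set G)) ≤ (S : Subgroup G) := by
  haveI : Fact (Nat.Prime 2) := ⟨Nat.prime_two⟩
  exact LocalStructure.pCoreOf_le_sylow S (hG.sylow_le_centralizer_singleton S hzS)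

/-- Some odd primary part of `F(C(z))` is not centralized by the residual. -/
theorem exists_moved_prime {z : G} (hz : orderOf z = 2) (hns : ¬ Split z) :
    ∃ p : ℕ, p.Prime ∧ p ≠ 2 ∧
      ¬ residual z ≤ centralizer (Cfsg.pCoreOf p (centralizer ({z} : Set G)) : Set G) := by
  haveI : Fact (Nat.Prime 2) := ⟨Nat.prime_two⟩
  by_contra hno
  push Not at hno
  set C := centralizer ({z} : Set G)
  obtain ⟨S, hzS, -⟩ := hG.exists_sylow hz
  obtain ⟨n, hn⟩ := hG.exists_rot' hnsol S hzS (Small.ne_one_of_orderOf_two hz)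
  obtain ⟨u, hu, hu1⟩ := hG.exists_onLine_ne_one hn
  have hall : ∀ r : Nat.Primes, residual z ≤ centralizer (Cfsg.pCoreOf (r : ℕ) C : Set G) := by
    intro r
    by_cases hr : (r : ℕ) = 2
    · rw [hr]
      exact hG.residual_le_centralizer hnsol hn hu hu1 (LocalStructure.le_normalizer_pCoreOf C)
        fun w hw => (hG.sylow_comm S (hG.onLine_mem hn hu) (hG.pCoreOf_two_le S hzS hw))
    · exact hno r r.2 hr
  have hle : residual z ≤ fittingOf C := fun x hx =>
    mem_fittingOf_of_commute (hG.layer_centralizer_eq_bot hnsol hz hns) (residual_le z hx)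
      fun r y hy => mem_centralizer_iff.1 (hall r hx) y hy
  refine hG.not_isSolvable_residual hnsol hz (Components.isSolvable_mono ?_ hle)
  refine Components.isSolvable_map C.subtype ?_
  haveI : Group.IsNilpotent (Cfsg.fittingSubgroup C) := Solvable.fittingSubgroup_isNilpotent
  infer_instance

omit hnsol in
/-- The non-centralized part is conjugation invariant. -/
theorem moved_conj {z : G} {p : ℕ} (g : G)
    (h : ¬ residual z ≤ centralizer (Cfsg.pCoreOf p (centralizer ({z} : Set G)) : Set G)) :
    ¬ residual (g * z * g⁻¹) ≤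
      centralizer (Cfsg.pCoreOf p (centralizer ({g * z * g⁻¹} : Set G)) : Set G) := by
  intro hle
  refine h fun r hr => mem_centralizer_iff.2 fun x hx => ?_
  have h1 : g * r * g⁻¹ ∈ residual (g * z * g⁻¹) := residual_conj g z ▸ ⟨r, hr, rfl⟩
  have h2 : g * x * g⁻¹ ∈ Cfsg.pCoreOf p (centralizer ({g * z * g⁻¹} : Set G)) := by
    rw [← map_conj_centralizer_singleton, ← GW.OS.map_pCoreOf_conj]
    exact ⟨x, hx, rfl⟩
  have h3 := mem_centralizer_iff.1 (hle h1) _ h2
  calc x * r = g⁻¹ * (g * x * g⁻¹ * (g * r * g⁻¹)) * g := by group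
    _ = g⁻¹ * (g * r * g⁻¹ * (g * x * g⁻¹)) * g := by rw [h3]
    _ = r * x := by group

/-- The fixed points of an involution of the line are not centralized by `S`. -/
theorem false_of_sylow_centralizes {S : Sylow 2 G} {z n v : G} {p : ℕ} [Fact p.Prime] (hp : p ≠ 2)
    (hmv : ¬ residual z ≤ centralizer (Cfsg.pCoreOf p (centralizer ({z} : Set G)) : Set G))
    (hn : Rot S z n) (hv : OnLine S n v) (hv1 : v ≠ 1)
    (h : ∀ x ∈ Cfsg.pCoreOf p (centralizer ({z} : Set G)), Commute v x →
      ∀ s ∈ (S : Subgroup G), Commute x s) : False := by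
  set C := centralizer ({z} : Set G)
  set P := Cfsg.pCoreOf p C
  refine hmv (hG.residual_le_centralizer hnsol hn hv hv1 (LocalStructure.le_normalizer_pCoreOf C) ?_)
  set v1 := n * v * n⁻¹
  have hv1l : OnLine S n v1 := hG.onLine_conj hn hv
  have hvS := hG.onLine_mem hn hv
  have hv1S := hG.onLine_mem hn hv1l
  have hv11 : v1 ≠ 1 := fun e => hv1 (conj_eq_one_iff.1 e)
  have hne : v1 ≠ v := fun e => hv1 (hG.onLine_fixed hn hv (commute_iff_conj.2 e))
  have hnC : n ∈ C := mem_centralizer_singleton_iff.2 hn.comm.eq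
  have hSC := hG.sylow_le_centralizer_singleton S hn.mem
  have hN := LocalStructure.le_normalizer_pCoreOf (p := p) C
  -- transport by a power of the rotation
  have key : ∀ g ∈ C, g ∈ normalizer ((S : Subgroup G) : Set G) →
      ∀ x ∈ P, Commute (g * v * g⁻¹) x → Commute v x := by
    intro g hg hgS x hx hcx
    have hy : g⁻¹ * x * g ∈ P := by simpa using (mem_normalizer_iff.1 (hN (inv_mem hg)) x).1 hx
    have hcy : Commute v (g⁻¹ * x * g) := by
      show v * (g⁻¹ * x * g) = g⁻¹ * x * g * v
      calc v * (g⁻¹ * x * g) = g⁻¹ * (g * v * g⁻¹ * x) * g := by group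
        _ = g⁻¹ * (x * (g * v * g⁻¹)) * g := by rw [hcx.eq]
        _ = g⁻¹ * x * g * v := by group
    have hvs : g⁻¹ * v * g ∈ (S : Subgroup G) := by
      simpa using (mem_normalizer_iff.1 (inv_mem hgS) v).1 hvS
    have h1 := h _ hy hcy _ hvs
    show v * x = x * v
    calc v * x = g * (g⁻¹ * v * g * (g⁻¹ * x * g)) * g⁻¹ := by group
      _ = g * (g⁻¹ * x * g * (g⁻¹ * v * g)) * g⁻¹ := by rw [h1.eq]
      _ = x * v := by group
  have hodd : Odd (Nat.card P) := by
    obtain ⟨k, hk⟩ := IsPGroup.iff_card.1 (GW.OS.isPGroup_pCoreOf p C)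
    rw [hk]
    exact ((Fact.out : p.Prime).odd_of_ne_two hp).pow
  have hle : P ≤ centralizer ({v} : Set G) := by
    refine GW.OS.le_of_four (hG.orderOf_sylow S hvS hv1) (hG.orderOf_sylow S hv1S hv11)
      (hG.sylow_comm S hvS hv1S) hne hodd (hN (hSC hvS)) (hN (hSC hv1S))
      (fun a _ hc => mem_centralizer_singleton_iff.2 hc.eq.symm) (fun a ha hc => ?_)
      (fun a ha hc => ?_)
    · exact mem_centralizer_singleton_iff.2 (key n hnC hn.norm a ha hc).eq.symm
    · refine mem_centralizer_singleton_iff.2 (key (n * n) (mul_mem hnC hnC)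
        (mul_mem hn.norm hn.norm) a ha ?_).eq.symm
      rwa [show n * n * v * (n * n)⁻¹ = n * (n * v * n⁻¹) * n⁻¹ by group,
        hG.conj_conj_eq hn hv hv1]
  intro w hw
  exact (mem_centralizer_singleton_iff.1 (hle hw)).symm

end Minimal

end CfsgLib.Walter
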