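import Cfsg.Agent.Walter.Setting
import Cfsg.Agent.GW.Classification
import Cfsg.Agent.Inv53.PSLTwoAbelian

/-!
# Walter, rank three: the structure of a group with elementary Sylow 2-subgroups of order at most 8

Under `SimpleHyp` a group of this type is `Known`.
-/

set_option autoImplicit false
set_option linter.style.haveILetI false
set_option linter.unusedSectionVars false

open Subgroup

namespace CfsgLib.Walter

universe u

variable {G : Type u} [Group G] [Finite G]

theorem TwoType.comm {X : Type*} [Group X] (h : TwoType X) (S : Subgroup X) (hS : IsPGroup 2 S)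
    {a b : X} (ha : a ∈ S) (hb : b ∈ S) : Commute a b := by
  obtain ⟨h2, -⟩ := h S hS
  show a * b = b * a
  calc a * b = a * (a * b * (a * b)) * b := by rw [h2 _ (mul_mem ha hb), mul_one]
    _ = a * a * (b * a) * (b * b) := by group
    _ = b * a := by rw [h2 a ha, h2 b hb, one_mul, mul_one]

theorem TwoType.of_equiv {X Y : Type*} [Group X] [Group Y] (h : TwoType X) (e : X ≃* Y) :
    TwoType Y := by
  intro T hT
  obtain ⟨h1, h2⟩ := h (T.map e.symm.toMonoidHom) (hT.map _)
  refine ⟨fun a ha => e.symm.injective ?_, ?_⟩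
  · rw [map_mul, map_one]
    exact h1 _ ⟨a, ha, rfl⟩
  · rwa [card_map_of_injective e.symm.injective] at h2

theorem TwoType.quotient_oddCore {X : Type*} [Group X] [Finite X] (h : TwoType X) :
    TwoType (X ⧸ Cfsg.oddCore X) := by
  haveI : Fact (Nat.Prime 2) := ⟨Nat.prime_two⟩
  intro T hT
  set π := QuotientGroup.mk' (Cfsg.oddCore X)
  obtain ⟨P⟩ : Nonempty (Sylow 2 X) := inferInstance
  obtain ⟨h1, h2⟩ := h P P.isPGroup'
  obtain ⟨Q, hQ⟩ := hT.exists_le_sylow
  let P' : Sylow 2 (X ⧸ Cfsg.oddCore X) := P.mapSurjective (QuotientGroup.mk'_surjective _)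
  obtain ⟨g, hg⟩ := MulAction.exists_smul_eq (X ⧸ Cfsg.oddCore X) P' Q
  have hPimg : (P' : Subgroup (X ⧸ Cfsg.oddCore X)) = (P : Subgroup X).map π := rfl
  refine ⟨fun a ha => ?_, ?_⟩
  · have haQ : a ∈ (g • P' : Sylow 2 (X ⧸ Cfsg.oddCore X)) := hg.symm ▸ hQ ha
    obtain ⟨b, hb, rfl⟩ := haQ
    obtain ⟨c, hc, rfl⟩ := hb
    show g * π c * g⁻¹ * (g * π c * g⁻¹) = 1
    rw [show g * π c * g⁻¹ * (g * π c * g⁻¹) = g * (π c * π c) * g⁻¹ by group, ← map_mul, h1 c hc,
      map_one, mul_one, mul_inv_cancel]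
  · refine (card_le_of_le hQ).trans (le_trans (le_of_eq ?_)
      (le_trans (Nat.le_of_dvd Nat.card_pos (card_map_dvd (P : Subgroup X) π)) h2))
    exact Nat.card_congr (Sylow.equiv Q P').toEquiv

/-- A perfect group with commutative Sylow 2-subgroups has no central involution. -/
theorem eq_one_of_central (hperf : commutator G = ⊤) (hG : TwoType G) {z : G} (hz2 : z * z = 1)
    (hz : ∀ g : G, g * z = z * g) : z = 1 := by
  haveI : Fact (Nat.Prime 2) := ⟨Nat.prime_two⟩
  have hp : IsPGroup 2 (zpowers z) := by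
    intro x
    obtain ⟨x, i, rfl⟩ := x
    exact ⟨1, Subtype.ext (by
      show (z ^ i) ^ (2 ^ 1) = 1
      rw [pow_one, pow_two, ← zpow_add, ← two_mul, zpow_mul, zpow_two, hz2, one_zpow])⟩
  obtain ⟨S, hS⟩ := hp.exists_le_sylow
  let _ : CommGroup (S : Subgroup G) :=
    { (inferInstance : Group (S : Subgroup G)) with
      mul_comm := fun a b => Subtype.ext (hG.comm _ S.isPGroup' a.2 b.2).eq }
  have key : ∀ (k : ℕ) (g : G), g⁻¹ * z ^ k * g ∈ (S : Subgroup G) → g⁻¹ * z ^ k * g = z ^ k :=
    fun k g _ => by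
      rw [mul_assoc, ← (Commute.pow_right (show Commute g z from hz g) k).eq, inv_mul_cancel_left]
  have htr := MonoidHom.transfer_eq_pow (MonoidHom.id (S : Subgroup G)) z key
  have hker : MonoidHom.transfer (MonoidHom.id (S : Subgroup G)) z = 1 :=
    Abelianization.commutator_subset_ker _ (hperf ▸ mem_top z)
  rw [hker] at htr
  have h1 : z ^ (S : Subgroup G).index = 1 := by
    have := congrArg Subtype.val htr
    simpa using this.symm
  obtain ⟨j, hj⟩ : Odd (S : Subgroup G).index := by
    rw [Nat.odd_iff, ← Nat.two_dvd_ne_zero]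
    exact S.not_dvd_index
  rwa [hj, pow_succ, pow_mul, pow_two, hz2, one_pow, one_mul] at h1

theorem isKleinFour_of_card {P : Type*} [Group P] (h4 : Nat.card P = 4) (h : ∀ a : P, a * a = 1) :
    IsKleinFour P := by
  haveI : Finite P := Nat.finite_of_card_ne_zero (by omega)
  haveI : Nontrivial P := Finite.one_lt_card_iff_nontrivial.1 (by omega)
  refine ⟨h4, (Monoid.exponent_eq_prime_iff Nat.prime_two).2 fun a ha => ?_⟩
  exact Small.orderOf_eq_two_iff_sq.2 ⟨ha, h a⟩

theorem isPSLOdd_of_simple [IsSimpleGroup G] (hG : TwoType G) (S : Sylow 2 G)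
    (h4 : Nat.card (S : Subgroup G) = 4) : IsPSLOdd G := by
  haveI : Fact (Nat.Prime 2) := ⟨Nat.prime_two⟩
  haveI := isKleinFour_of_card h4 fun a => Subtype.ext ((hG _ S.isPGroup').1 a a.2)
  haveI : IsKleinFour (DihedralGroup 2) := inferInstance
  rcases GW.simple_dihedral S 2 le_rfl (IsKleinFour.nonempty_mulEquiv) with
    ⟨F, iF, fF, hodd, hlarge, ⟨e⟩⟩ | ⟨⟨e⟩⟩
  · refine ⟨F, iF, fF, ?_, ?_, ⟨e⟩⟩
    · by_contra h
      push Not at h
      have h8 : 8 ∣ Nat.card G := by
        rw [Nat.card_congr e.toEquiv]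
        have hP := Linear.card_PSL_two_odd hodd
        have h16 : 16 ∣ Fintype.card F ^ 2 - 1 := by
          have hm : Fintype.card F % 8 = 1 ∨ Fintype.card F % 8 = 7 := by
            rw [Nat.odd_iff] at hodd; omega
          obtain ⟨c, hc⟩ : ∃ c, Fintype.card F = 8 * c + 1 ∨ Fintype.card F = 8 * c + 7 :=
            ⟨Fintype.card F / 8, by omega⟩
          rcases hc with hc | hc <;> rw [hc]
          · exact ⟨c * (4 * c + 1), Nat.sub_eq_of_eq_add (by ring)⟩
          · exact ⟨4 * c * c + 7 * c + 3, Nat.sub_eq_of_eq_add (by ring)⟩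
        have : 16 ∣ 2 * Nat.card (Matrix.ProjectiveSpecialLinearGroup (Fin 2) F) := by
          rw [hP]; exact Dvd.dvd.mul_left h16 _
        omega
      have := S.pow_dvd_card_of_pow_dvd_card (n := 3) (by simpa using h8)
      rw [h4] at this
      norm_num at this
    · rw [Nat.odd_iff] at hodd
      omega
  · exfalso
    have h8 : 8 ∣ Nat.card G := by
      rw [Nat.card_congr e.toEquiv, nat_card_alternatingGroup, Nat.card_fin]
      decide
    have := S.pow_dvd_card_of_pow_dvd_card (n := 3) (by simpa using h8)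
    rw [h4] at this
    norm_num at this

/-- A perfect normal subgroup with solvable quotient. -/
theorem exists_perfect_normal (G : Type*) [Group G] [Finite G] :
    ∃ n : ℕ, ⁅derivedSeries G n, derivedSeries G n⁆ = derivedSeries G n := by
  classical
  obtain ⟨K, ⟨n, rfl⟩, hmin⟩ := (Set.toFinite (Set.range (derivedSeries G))).exists_minimal
    (Set.range_nonempty _)
  exact ⟨n, le_antisymm (commutator_le_self _) (hmin ⟨n + 1, rfl⟩ (commutator_le_self _))⟩

theorem derivedSeries_le_of_isSolvable {X : Type*} [Group X] {N : Subgroup X} [N.Normal]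
    (h : Group.IsSolvable (X ⧸ N)) {n : ℕ}
    (hn : ⁅derivedSeries X n, derivedSeries X n⁆ = derivedSeries X n) : derivedSeries X n ≤ N := by
  obtain ⟨m, hm⟩ := (Group.isSolvable_def (G := X ⧸ N)).1 h
  have hstab : ∀ k, derivedSeries X (n + k) = derivedSeries X n := by
    intro k
    induction k with
    | zero => rfl
    | succ k ih => rw [← add_assoc, derivedSeries_succ, ih, hn]
  intro x hx
  rw [← QuotientGroup.eq_one_iff, ← mem_bot, ← hm]
  refine derivedSeries_antitone _ (Nat.le_add_left m n) ?_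
  exact map_derivedSeries_le_derivedSeries (QuotientGroup.mk' N) (n + m)
    ⟨x, (hstab m).ge hx, rfl⟩

theorem centralizer_disjoint_of_simple {M : Subgroup G} [M.Normal] [IsSimpleGroup M]
    (hnc : ¬ IsMulCommutative M) : centralizer (M : Set G) ⊓ M = ⊥ := by
  refine eq_bot_iff.2 fun x hx => ?_
  have hcen : (⟨x, hx.2⟩ : M) ∈ Subgroup.center M := Subgroup.mem_center_iff.2 fun y =>
    Subtype.ext (mem_centralizer_iff.1 hx.1 _ y.2)
  rcases IsSimpleGroup.eq_bot_or_eq_top_of_normal _ (inferInstance :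
    (Subgroup.center M).Normal) with h' | h'
  · rw [h', mem_bot] at hcen
    exact congrArg Subtype.val hcen
  · exact absurd ⟨⟨fun p q => (Subgroup.mem_center_iff.1 (h' ▸ mem_top p) q).symm⟩⟩ hnc

/-- An outer involution cannot centralize a Sylow 2-subgroup of `PSL₂(q)`. -/
theorem odd_index_of_pslOdd (hG : TwoType G) {M : Subgroup G} [M.Normal] (hM : IsPSLOdd M)
    (hC : centralizer (M : Set G) = ⊥) : Odd M.index := by
  haveI : Fact (Nat.Prime 2) := ⟨Nat.prime_two⟩
  obtain ⟨F, iF, fF, h8, h5, ⟨e⟩⟩ := hM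
  have hF : Odd (Fintype.card F) := by rw [Nat.odd_iff]; omega
  have hab : ∀ T : Sylow 2 (Matrix.ProjectiveSpecialLinearGroup (Fin 2) F),
      IsMulCommutative (T : Subgroup (Matrix.ProjectiveSpecialLinearGroup (Fin 2) F)) := fun T =>
    ⟨⟨fun a b => Subtype.ext (((hG.subgroup M).of_equiv e).comm _ T.isPGroup' a.2 b.2).eq⟩⟩
  rw [← Nat.not_even_iff_odd, even_iff_two_dvd]
  intro h2
  obtain ⟨S⟩ : Nonempty (Sylow 2 G) := inferInstance
  obtain ⟨s, hs, hsM⟩ : ∃ s ∈ (S : Subgroup G), s ∉ M := by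
    by_contra h
    push Not at h
    exact S.not_dvd_index (h2.trans (index_dvd_of_le h))
  have hidx : ¬ 2 ∣ ((S : Subgroup G).subgroupOf M).index := by
    intro h
    have e1 := ((S : Subgroup G).subgroupOf M).card_mul_index
    have e2 := (M.subgroupOf (S : Subgroup G)).card_mul_index
    have e3 : Nat.card ((S : Subgroup G).subgroupOf M) = Nat.card (M.subgroupOf (S : Subgroup G)) := by
      rw [← inf_subgroupOf_right, ← inf_subgroupOf_right M, Nat.card_congr
        (subgroupOfEquivOfLe (inf_le_right : (S : Subgroup G) ⊓ M ≤ M)).toEquiv, Nat.card_congr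
        (subgroupOfEquivOfLe (inf_le_right : M ⊓ (S : Subgroup G) ≤ (S : Subgroup G))).toEquiv,
        inf_comm]
    have e4 : Nat.card (S : Subgroup G) * 2 ∣ Nat.card G := by
      rw [← e2, ← M.card_mul_index, ← e1, ← e3,
        mul_comm (Nat.card ((S : Subgroup G).subgroupOf M)) ((S : Subgroup G).subgroupOf M).index,
        mul_assoc, mul_comm ((S : Subgroup G).subgroupOf M).index, mul_assoc]
      refine mul_dvd_mul_left _ ?_
      rw [mul_comm]
      exact mul_dvd_mul h (M.relIndex_dvd_index_of_normal (S : Subgroup G))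
    rw [← (S : Subgroup G).card_mul_index] at e4
    exact S.not_dvd_index ((Nat.mul_dvd_mul_iff_left Nat.card_pos).1 e4)
  let T : Sylow 2 M :=
    (S.isPGroup'.comap_of_injective M.subtype M.subtype_injective).toSylow hidx
  have hTS : ∀ t ∈ (T : Subgroup M), (t : G) ∈ (S : Subgroup G) := fun t ht => ht
  set a : MulAut M := MulAut.conjNormal s with ha
  have hfix : ∀ t ∈ (T : Subgroup M), a t = t := fun t ht => Subtype.ext (by
    rw [ha, MulAut.conjNormal_apply, (hG.comm _ S.isPGroup' hs (hTS t ht)).eq,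
      mul_inv_cancel_right])
  let α : MulAut (Matrix.ProjectiveSpecialLinearGroup (Fin 2) F) := MulAut.congr e a
  have hα : α ^ 2 ^ 1 = 1 := by
    rw [← map_pow, ha, ← map_pow, pow_one, pow_two, (hG _ S.isPGroup').1 s hs, map_one, map_one]
  let T' : Sylow 2 (Matrix.ProjectiveSpecialLinearGroup (Fin 2) F) :=
    T.mapSurjective (f := e.toMonoidHom) e.surjective
  obtain ⟨x, hx, hax⟩ := Inv53.psl2_two_auto_inner hF hab T' α hα fun y hy => by
    obtain ⟨t, ht, rfl⟩ := hy
    show e (a (e.symm (e t))) = e t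
    rw [e.symm_apply_apply, hfix t ht]
  set m : M := e.symm x with hm
  have key : ∀ y : M, (s : G) * y * s⁻¹ = m * y * (m : G)⁻¹ := fun y => by
    have h := DFunLike.congr_fun hax (e y)
    rw [show α (e y) = e (a (e.symm (e y))) from rfl, e.symm_apply_apply, MulAut.conj_apply,
      show x * e y * x⁻¹ = e (m * y * m⁻¹) by simp [hm]] at h
    have h' := congrArg Subtype.val (e.injective h)
    rw [ha, MulAut.conjNormal_apply] at h'
    simpa using h'
  have hmem : (m : G)⁻¹ * s ∈ centralizer (M : Set G) := mem_centralizer_iff.2 fun y hy => by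
    have h := key ⟨y, hy⟩
    calc y * ((m : G)⁻¹ * s) = (m : G)⁻¹ * (m * y * (m : G)⁻¹) * s := by group
      _ = (m : G)⁻¹ * (s * y * s⁻¹) * s := by rw [h]
      _ = (m : G)⁻¹ * s * y := by group
  rw [hC, mem_bot, inv_mul_eq_one] at hmem
  exact hsM (hmem ▸ m.2)

/-- The structure with trivial odd core. -/
theorem knownCore_of_simpleHyp (hG : TwoType G) (hO : Cfsg.oddCore G = ⊥)
    (h : SimpleHyp.{u} (Nat.card G)) : KnownCore G := by
  classical
  haveI : Fact (Nat.Prime 2) := ⟨Nat.prime_two⟩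
  by_cases hsol : Group.IsSolvable G
  · exact Or.inl hsol
  obtain ⟨n, hn⟩ := exists_perfect_normal G
  set R := derivedSeries G n
  have hRne : R ≠ ⊥ := fun e => hsol ((Group.isSolvable_def (G := G)).2 ⟨n, e⟩)
  haveI : R.Normal := derivedSeries_normal G n
  obtain ⟨M, ⟨hMn, hMne, hMR⟩, hMmin⟩ :=
    (Set.toFinite {K : Subgroup G | K.Normal ∧ K ≠ ⊥ ∧ K ≤ R}).exists_minimal
      ⟨R, inferInstance, hRne, le_rfl⟩
  have hmin : ∀ L : Subgroup G, L.Normal → L ≤ M → L = ⊥ ∨ L = M := fun L hL hLM => by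
    by_contra hc
    push Not at hc
    exact hc.2 (le_antisymm hLM (hMmin ⟨hL, hc.1, hLM.trans hMR⟩ hLM))
  haveI := hMn
  have hodd : ∀ K : Subgroup G, K.Normal → ¬ 2 ∣ Nat.card K → K = ⊥ := fun K hK h2 => by
    rw [eq_bot_iff, ← hO]
    exact CfsgLib.PLocal.le_pPrimeCore (hN := hK) (CfsgLib.PLocal.not_dvd_iff_coprime.2 h2)
  have hMeven : 2 ∣ Nat.card M := by_contra fun h2 => hMne (hodd M hMn h2)
  obtain ⟨S⟩ : Nonempty (Sylow 2 G) := inferInstance
  have hab : ¬ IsMulCommutative M := by
    intro hab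
    haveI := hab
    obtain ⟨x, hx⟩ := exists_prime_orderOf_dvd_card' (G := M) 2 hMeven
    let E : Subgroup G := {
      carrier := {x | x ∈ M ∧ x * x = 1}
      one_mem' := ⟨one_mem M, one_mul 1⟩
      mul_mem' := by
        rintro a b ⟨ha, ha2⟩ ⟨hb, hb2⟩
        refine ⟨mul_mem ha hb, ?_⟩
        have hc : b * a = a * b := congrArg Subtype.val (mul_comm' (⟨b, hb⟩ : M) ⟨a, ha⟩)
        rw [mul_assoc, ← mul_assoc b, hc, mul_assoc a b, hb2, mul_one, ha2]
      inv_mem' := by
        rintro a ⟨ha, ha2⟩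
        exact ⟨inv_mem ha, by rw [← mul_inv_rev, ha2, inv_one]⟩ }
    have hEn : E.Normal := ⟨fun x hx g => ⟨hMn.conj_mem x hx.1 g, by
      rw [show g * x * g⁻¹ * (g * x * g⁻¹) = g * (x * x) * g⁻¹ by group, hx.2, mul_one,
        mul_inv_cancel]⟩⟩
    have hxE : (x : G) ∈ E := ⟨x.2, Small.mul_self_of_orderOf_two (by rw [orderOf_coe, hx])⟩
    have hEp : IsPGroup 2 E := fun a => ⟨1, Subtype.ext (by simpa [pow_two] using a.2.2)⟩
    have hES : E ≤ (S : Subgroup G) := by
      have hsup : IsPGroup 2 (E ⊔ (S : Subgroup G) : Subgroup G) :=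
        hEp.to_sup_of_normal_left' S.isPGroup' (by rw [normalizer_eq_top]; exact le_top)
      exact le_sup_left.trans (S.is_maximal' hsup le_sup_right).le
    have hSC : (S : Subgroup G) ≤ centralizer (E : Set G) := fun s hs =>
      mem_centralizer_iff.2 fun y hy => (hG.comm _ S.isPGroup' (hES hy) hs).eq
    have hsolQ : Group.IsSolvable (G ⧸ centralizer (E : Set G)) := by
      refine Cfsg.Agent.S0205.result ?_
      rw [← index_eq_card, ← Nat.not_even_iff_odd, even_iff_two_dvd]
      exact fun h2 => S.not_dvd_index (h2.trans (index_dvd_of_le hSC))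
    have hRC : R ≤ centralizer (E : Set G) := derivedSeries_le_of_isSolvable hsolQ hn
    have hR : commutator R = ⊤ := Subgroup.map_injective R.subtype_injective (by
      rw [map_subtype_commutator, ← MonoidHom.range_eq_map, range_subtype]; exact hn)
    have h1 := eq_one_of_central hR (hG.subgroup R) (z := ⟨x, hMR x.2⟩) (Subtype.ext hxE.2)
      fun g => Subtype.ext (mem_centralizer_iff.1 (hRC g.2) _ hxE).symm
    have : (x : G) = 1 := congrArg Subtype.val h1
    rw [← orderOf_coe, this, orderOf_one] at hx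
    omega
  obtain ⟨T, _, _, m, hm, hTs, hTnc, ⟨eM⟩⟩ := CharSimple.exists_equiv_pi hMn hMne hmin hab
  haveI := hTs
  obtain ⟨j, rfl⟩ : ∃ j, m = j + 1 := ⟨m - 1, by omega⟩
  have hTt : TwoType T := by
    let ι : T →* M := eM.symm.toMonoidHom.comp (MonoidHom.mulSingle (fun _ : Fin (j + 1) => T) 0)
    have hι : Function.Injective ι :=
      eM.symm.injective.comp (Pi.mulSingle_injective (M := fun _ : Fin (j + 1) => T) 0)
    exact ((hG.subgroup M).subgroup ι.range).of_equiv (MonoidHom.ofInjective hι).symm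
  obtain ⟨Q⟩ : Nonempty (Sylow 2 T) := inferInstance
  have h4 : 4 ∣ Nat.card (Q : Subgroup T) := by
    obtain ⟨i, hi⟩ := IsPGroup.iff_card.1 Q.isPGroup'
    rcases i with _ | _ | i
    · exfalso
      have hodd' : ¬ 2 ∣ Nat.card T := fun h2 => by
        have := Q.pow_dvd_card_of_pow_dvd_card (n := 1) (by simpa using h2)
        rw [hi] at this
        norm_num at this
      haveI : Group.IsSolvable T := Cfsg.Agent.S0205.result (Nat.odd_iff.2 (by omega))
      exact hTnc ⟨⟨IsSimpleGroup.comm_iff_isSolvable.2 inferInstance⟩⟩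
    · exfalso
      haveI : Fact (Nat.card (Q : Subgroup T)).Prime := ⟨by rw [hi]; norm_num⟩
      have hTO : Cfsg.oddCore T = ⊥ := by
        rcases IsSimpleGroup.eq_bot_or_eq_top_of_normal _ (inferInstance :
          (Cfsg.oddCore T).Normal) with h' | h'
        · exact h'
        · exfalso
          have h2 : 2 ∣ Nat.card T := dvd_trans (by rw [hi]; norm_num) Q.1.card_subgroup_dvd_card
          have := Inv54.odd_card_oddCore (G := T)
          rw [h', card_top] at this
          exact this.not_two_dvd_nat h2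
      have hp := GW.isPGroup_of_cyclic_sylow Q (isCyclic_of_prime_card (p := 2) (by rw [hi]; norm_num)) hTO
      haveI := hp.isNilpotent
      exact hTnc ⟨⟨IsSimpleGroup.comm_iff_isSolvable.2 inferInstance⟩⟩
    · rw [hi, pow_succ, pow_succ]
      exact ⟨2 ^ i, by ring⟩
  obtain rfl : j = 0 := by
    by_contra hj
    obtain ⟨P⟩ : Nonempty (Sylow 2 M) := inferInstance
    have h16 : 2 ^ 4 ∣ Nat.card M := by
      rw [Nat.card_congr eM.toEquiv, Nat.card_fun, Nat.card_fin]
      refine dvd_trans ?_ (pow_dvd_pow _ (show 2 ≤ j + 1 by omega))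
      exact dvd_trans (by norm_num) (pow_dvd_pow_of_dvd (h4.trans Q.1.card_subgroup_dvd_card) 2)
    have h1 := Nat.le_of_dvd Nat.card_pos (P.pow_dvd_card_of_pow_dvd_card h16)
    have h2 := ((hG.subgroup M) P P.isPGroup').2
    omega
  have eT : M ≃* T := eM.trans (MulEquiv.piUnique fun _ : Fin 1 => T)
  haveI : Nontrivial M := eT.toEquiv.nontrivial
  haveI : IsSimpleGroup M :=
    IsSimpleGroup.isSimpleGroup_of_surjective eT.symm.toMonoidHom eT.symm.surjective
  obtain ⟨P⟩ : Nonempty (Sylow 2 M) := inferInstance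
  obtain ⟨hP2, hP8⟩ := (hG.subgroup M) P P.isPGroup'
  have hP4 : 4 ∣ Nat.card (P : Subgroup M) := by
    refine P.pow_dvd_card_of_pow_dvd_card (n := 2) ?_
    rw [Nat.card_congr eT.toEquiv]
    exact h4.trans Q.1.card_subgroup_dvd_card
  set C := centralizer (M : Set G)
  have hdisj : C ⊓ M = ⊥ := centralizer_disjoint_of_simple hab
  have hprod : Nat.card C * Nat.card M ∣ Nat.card G := by
    rw [← card_sup_of_disjoint hdisj]
    exact (C ⊔ M).card_subgroup_dvd_card
  have h16 : ¬ 16 ∣ Nat.card G := fun h16 => by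
    have h1 := Nat.le_of_dvd Nat.card_pos (S.pow_dvd_card_of_pow_dvd_card (n := 4) (by simpa using h16))
    have h2 := (hG S S.isPGroup').2
    omega
  have hPM := (P : Subgroup M).card_subgroup_dvd_card
  have hcase : Nat.card (P : Subgroup M) = 4 ∨ Nat.card (P : Subgroup M) = 8 := by
    obtain ⟨c, hc⟩ := hP4
    obtain ⟨i, hi⟩ := IsPGroup.iff_card.1 P.isPGroup'
    rcases i with _ | _ | _ | _ | i
    · rw [hi, pow_zero] at hc; omega
    · rw [hi] at hc; norm_num at hc; omega
    · exact Or.inl (by rw [hi]; norm_num)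
    · exact Or.inr (by rw [hi]; norm_num)
    · have : 2 ^ 4 ≤ 2 ^ (i + 1 + 1 + 1 + 1) := Nat.pow_le_pow_right (by norm_num) (by omega)
      omega
  rcases hcase with hP | hP
  · have hML := isPSLOdd_of_simple (hG.subgroup M) P hP
    have hC2 : Nat.card C ≤ 2 := by
      obtain ⟨W⟩ : Nonempty (Sylow 2 C) := inferInstance
      obtain ⟨i, hi⟩ := IsPGroup.iff_card.1 W.isPGroup'
      have hi1 : i ≤ 1 := by
        by_contra hi'
        refine h16 (dvd_trans ?_ ((mul_dvd_mul (dvd_trans (pow_dvd_pow 2 (show 2 ≤ i by omega))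
          (hi ▸ W.1.card_subgroup_dvd_card)) (hP ▸ hPM)).trans hprod))
        norm_num
      have hcyc : IsCyclic (W : Subgroup C) := by
        interval_cases i
        · haveI : Subsingleton (W : Subgroup C) := (Nat.card_eq_one_iff_unique.1 (by simpa using hi)).1
          infer_instance
        · exact isCyclic_of_prime_card (p := 2) (by simpa using hi)
      have hCO : Cfsg.oddCore C = ⊥ := by
        have h := CfsgLib.PLocal.pPrimeCore_map_subtype_le (p := 2) C
        rw [show Cfsg.pPrimeCore 2 G = ⊥ from hO] at h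
        exact (Subgroup.map_eq_bot_iff_of_injective _ C.subtype_injective).1 (le_bot_iff.1 h)
      have hp := GW.isPGroup_of_cyclic_sylow W hcyc hCO
      obtain ⟨l, hl⟩ := IsPGroup.iff_card.1 hp
      have : (W : Subgroup C) = ⊤ := (W.is_maximal' (hp.to_subgroup ⊤) le_top).symm
      rw [this, card_top, hl] at hi
      rw [hl, Nat.pow_right_injective (le_refl 2) hi]
      calc 2 ^ i ≤ 2 ^ 1 := Nat.pow_le_pow_right (by norm_num) hi1
        _ = 2 := by norm_num
    refine Or.inr (Or.inl ⟨M, hMn, hML, hC2, ?_⟩)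
    by_cases hC1 : C = ⊥
    · rw [show centralizer (M : Set G) = ⊥ from hC1, sup_bot_eq]
      exact odd_index_of_pslOdd hG hML hC1
    have hC : Nat.card C = 2 := by
      have := Finite.one_lt_card_iff_nontrivial.2 ((nontrivial_iff_ne_bot C).2 hC1)
      omega
    rw [← Nat.not_even_iff_odd, even_iff_two_dvd]
    intro h2
    refine h16 ?_
    rw [← card_mul_index (M ⊔ C), sup_comm, card_sup_of_disjoint hdisj, hC]
    calc (16 : ℕ) = 2 * 4 * 2 := by norm_num
      _ ∣ _ := mul_dvd_mul (mul_dvd_mul dvd_rfl (hP ▸ hPM)) (sup_comm C M ▸ h2)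
  · refine Or.inr (Or.inr ⟨M, hMn, h M inferInstance (card_le_card_group M) P hP hP2, ?_, ?_⟩)
    · refine hodd _ inferInstance fun h2 => h16 ?_
      exact dvd_trans (by norm_num) ((mul_dvd_mul h2 (hP ▸ hPM)).trans hprod)
    · rw [← Nat.not_even_iff_odd, even_iff_two_dvd]
      intro h2
      refine h16 ?_
      rw [← card_mul_index M]
      exact dvd_trans (by norm_num) (mul_dvd_mul (hP ▸ hPM) h2)
where
  card_sup_of_disjoint {C M : Subgroup G} [M.Normal] (h : C ⊓ M = ⊥) :
      Nat.card (C ⊔ M : Subgroup G) = Nat.card C * Nat.card M := by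
    have h1 := (M.subgroupOf (C ⊔ M)).card_mul_index
    rw [Nat.card_congr (subgroupOfEquivOfLe (le_sup_right : M ≤ C ⊔ M)).toEquiv] at h1
    have h2 : (M.subgroupOf (C ⊔ M)).index = Nat.card C := by
      rw [← relIndex, relIndex_sup_right, relIndex, ← inf_subgroupOf_right, inf_comm, h,
        bot_subgroupOf, index_bot]
    rw [← h1, h2, mul_comm]

/-- The reduction to simple groups. -/
theorem known_of_simpleHyp (hG : TwoType G) (h : SimpleHyp.{u} (Nat.card G)) : Known G :=
  knownCore_of_simpleHyp hG.quotient_oddCore (by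
    exact CfsgLib.PLocal.pPrimeCore_quotient_pPrimeCore_eq_bot 2 G)
    (h.mono (Nat.card_le_card_of_surjective _ (QuotientGroup.mk'_surjective _)))

theorem simpleHyp_of_no_minimal (h : ∀ (G : Type u) [Group G] [Finite G], Minimal G → False) :
    ∀ m : ℕ, SimpleHyp.{u} m := by
  intro m
  induction m using Nat.strong_induction_on with
  | _ m ih =>
    intro G _ _ hs hm S h8 hsq
    haveI : Fact (Nat.Prime 2) := ⟨Nat.prime_two⟩
    by_contra hgoal
    push Not at hgoal
    have hall : ∀ T : Sylow 2 G, Nat.card (T : Subgroup G) = 8 ∧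
        ∀ t ∈ (T : Subgroup G), t * t = 1 := fun T => by
      refine ⟨by rw [Nat.card_congr (Sylow.equiv T S).toEquiv, h8], fun t ht => ?_⟩
      have h1 := hsq _ ((Sylow.equiv T S) ⟨t, ht⟩).2
      have h2 : (Sylow.equiv T S) (⟨t, ht⟩ * ⟨t, ht⟩) = 1 := by
        rw [map_mul]; exact Subtype.ext h1
      exact congrArg Subtype.val ((MulEquiv.map_eq_one_iff _).1 h2)
    have hT : TwoType G := fun T hT => by
      obtain ⟨P, hP⟩ := hT.exists_le_sylow
      exact ⟨fun a ha => (hall P).2 a (hP ha), (card_le_of_le hP).trans (hall P).1.le⟩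
    refine h G ⟨hs, fun T => (hall T).1, fun T => (hall T).2, fun H hH => ?_, hgoal.1, hgoal.2⟩
    have hlt : Nat.card H < Nat.card G := lt_of_le_of_ne H.card_le_card_group fun e =>
      hH (Subgroup.eq_top_of_card_eq H e)
    exact known_of_simpleHyp (hT.subgroup H) (ih _ (lt_of_lt_of_le hlt hm))

end CfsgLib.Walter
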