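import Cfsg.Agent.GW.Setting
import Cfsg.Agent.Inv53.AbelianEight

/-!
# Walter: simple groups with elementary abelian Sylow 2-subgroups of order 8

`TwoType X`: the 2-subgroups of `X` are elementary abelian of order at most 8.
`IsPSLOdd L`: `L` is `PSL₂(q)`, `q ≡ 3, 5 (mod 8)`, `q ≥ 5`.
`IsPSLEight L`: `L` is `PSL₂(8)`.
`IsJR J`: `J` is simple and every involution centralizer is `Z₂ × PSL₂(q)`, `q` as above.
`Known X`: the structure of `X/O(X)` for a group of this type.
`Minimal G`: a minimal counterexample.  `Split z`: perfect subgroups of `C(z)` centralize `O(C(z))`.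

`core z` of Gorenstein–Walter is reused for `O(C(z))`.
-/

set_option autoImplicit false
set_option linter.style.haveILetI false
set_option linter.unusedSectionVars false

open Subgroup

namespace CfsgLib.Walter

universe u

/-- The 2-subgroups are elementary abelian of order at most 8. -/
def TwoType (X : Type*) [Group X] : Prop :=
  ∀ T : Subgroup X, IsPGroup 2 T → (∀ a ∈ T, a * a = 1) ∧ Nat.card T ≤ 8

/-- `PSL₂(q)` with `q ≡ 3, 5 (mod 8)` and `q ≥ 5`. -/
def IsPSLOdd (L : Type*) [Group L] : Prop :=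
  ∃ (F : Type) (_ : Field F) (_ : Fintype F),
    (Fintype.card F % 8 = 3 ∨ Fintype.card F % 8 = 5) ∧ 5 ≤ Fintype.card F ∧
      Nonempty (L ≃* Matrix.ProjectiveSpecialLinearGroup (Fin 2) F)

/-- `PSL₂(8)`. -/
def IsPSLEight (L : Type*) [Group L] : Prop :=
  ∃ (F : Type) (_ : Field F) (_ : Fintype F), Fintype.card F = 8 ∧
    Nonempty (L ≃* Matrix.ProjectiveSpecialLinearGroup (Fin 2) F)

/-- A group of Janko–Ree type: simple, every involution centralizer is `Z₂ × PSL₂(q)`. -/
def IsJR (J : Type*) [Group J] : Prop :=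
  IsSimpleGroup J ∧ ∀ t : J, orderOf t = 2 →
    ∃ (F : Type) (_ : Field F) (_ : Fintype F),
      (Fintype.card F % 8 = 3 ∨ Fintype.card F % 8 = 5) ∧ 5 ≤ Fintype.card F ∧
        Nonempty (Subgroup.centralizer ({t} : Set J) ≃*
          Multiplicative (ZMod 2) × Matrix.ProjectiveSpecialLinearGroup (Fin 2) F)

/-- The possible structures of a group of this type with trivial odd core: solvable; a normal
`PSL₂(q)` (`q` odd) with centralizer of order at most 2; a normal `PSL₂(8)` or Janko–Ree group with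
trivial centralizer.  In the second case `L ⊔ C(L)` has odd index, in the third `L` has. -/
def KnownCore (Q : Type*) [Group Q] : Prop :=
  Group.IsSolvable Q ∨
    (∃ L : Subgroup Q, L.Normal ∧ IsPSLOdd L ∧
      Nat.card (Subgroup.centralizer (L : Set Q)) ≤ 2 ∧
      Odd (L ⊔ Subgroup.centralizer (L : Set Q)).index) ∨
    ∃ L : Subgroup Q, L.Normal ∧ (IsPSLEight L ∨ IsJR L) ∧
      Subgroup.centralizer (L : Set Q) = ⊥ ∧ Odd L.index

/-- The induction predicate. -/
def Known (X : Type*) [Group X] : Prop := KnownCore (X ⧸ Cfsg.oddCore X)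

/-- The theorem for simple groups of order at most `m`. -/
def SimpleHyp (m : ℕ) : Prop :=
  ∀ (G : Type u) [Group G] [Finite G], IsSimpleGroup G → Nat.card G ≤ m →
    ∀ S : Sylow 2 G, Nat.card (S : Subgroup G) = 8 → (∀ s ∈ (S : Subgroup G), s * s = 1) →
      IsPSLEight G ∨ IsJR G

theorem SimpleHyp.mono {m m' : ℕ} (h : SimpleHyp.{u} m) (hm : m' ≤ m) : SimpleHyp.{u} m' :=
  fun G _ _ hs hc => h G hs (hc.trans hm)

variable {G : Type u} [Group G]

/-- A minimal counterexample. -/
structure Minimal (G : Type u) [Group G] : Prop where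
  simple : IsSimpleGroup G
  card : ∀ S : Sylow 2 G, Nat.card (S : Subgroup G) = 8
  sq : ∀ (S : Sylow 2 G), ∀ s ∈ (S : Subgroup G), s * s = 1
  known : ∀ H : Subgroup G, H ≠ ⊤ → Known ↥H
  not_eight : ¬ IsPSLEight G
  not_jr : ¬ IsJR G

/-- Every perfect subgroup of `C(z)` centralizes `O(C(z))`. -/
def Split (z : G) : Prop :=
  ∀ P : Subgroup G, P ≤ centralizer ({z} : Set G) → ⁅P, P⁆ = P →
    P ≤ centralizer (GW.core z : Set G)

theorem TwoType.subgroup {X : Type*} [Group X] (h : TwoType X) (H : Subgroup X) : TwoType H := by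
  intro T hT
  obtain ⟨h1, h2⟩ := h (T.map H.subtype) (hT.map _)
  refine ⟨fun a ha => Subtype.ext (h1 a ⟨a, ha, rfl⟩), ?_⟩
  rwa [card_map_of_injective H.subtype_injective] at h2

namespace Minimal

variable [Finite G] (hG : Minimal G)
include hG

theorem twoType : TwoType G := by
  intro T hT
  obtain ⟨S, hS⟩ := hT.exists_le_sylow
  exact ⟨fun a ha => hG.sq S a (hS ha), (card_le_of_le hS).trans (hG.card S).le⟩

theorem sylow_comm (S : Sylow 2 G) {a b : G} (ha : a ∈ (S : Subgroup G))
    (hb : b ∈ (S : Subgroup G)) : Commute a b := by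
  have h := hG.sq S (a * b) (mul_mem ha hb)
  have ha' := hG.sq S a ha
  have hb' := hG.sq S b hb
  show a * b = b * a
  calc a * b = a * (a * b * (a * b)) * b := by rw [h, mul_one]
    _ = a * a * (b * a) * (b * b) := by group
    _ = b * a := by rw [ha', hb', one_mul, mul_one]

theorem four_dvd : 4 ∣ Nat.card G := by
  obtain ⟨S⟩ : Nonempty (Sylow 2 G) := inferInstance
  exact dvd_trans (by rw [hG.card S]; norm_num) (S : Subgroup G).card_subgroup_dvd_card

theorem not_comm : ¬ IsMulCommutative G := fun h => by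
  haveI := hG.simple
  have hp := Small.card_prime_of_simple_comm h
  rcases (Nat.dvd_prime hp).1 hG.four_dvd with h4 | h4
  · omega
  · exact absurd (h4 ▸ hp) (by norm_num)

/-- An involution lies in a Sylow subgroup centralizing it. -/
theorem exists_sylow {z : G} (hz : orderOf z = 2) :
    ∃ S : Sylow 2 G, z ∈ (S : Subgroup G) ∧ ∀ s ∈ (S : Subgroup G), s * z = z * s := by
  haveI : Fact (Nat.Prime 2) := ⟨Nat.prime_two⟩
  obtain ⟨S, hS⟩ := (IsPGroup.of_card (n := 1)
    (by rw [Nat.card_zpowers, hz, pow_one]) : IsPGroup 2 (zpowers z)).exists_le_sylow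
  exact ⟨S, hS (mem_zpowers z), fun s hs => (hG.sylow_comm S hs (hS (mem_zpowers z))).eq⟩

theorem centralizer_ne_top {z : G} (hz : orderOf z = 2) : centralizer ({z} : Set G) ≠ ⊤ := by
  haveI := hG.simple
  intro h
  have hzc : z ∈ Subgroup.center G := Subgroup.mem_center_iff.2 fun y =>
    mem_centralizer_singleton_iff.1 (h ▸ mem_top y)
  rcases IsSimpleGroup.eq_bot_or_eq_top_of_normal _
    (inferInstance : (Subgroup.center G).Normal) with h' | h'
  · rw [h', mem_bot] at hzc
    exact Small.ne_one_of_orderOf_two hz hzc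
  · exact hG.not_comm ⟨⟨fun p q => (Subgroup.mem_center_iff.1 (h' ▸ mem_top p) q).symm⟩⟩

end Minimal

end CfsgLib.Walter
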