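import Cfsg.Agent.Walter.CMax

/-!
# Walter, rank three: no minimal counterexample

If an involution centralizer is solvable, all are, and the classification of groups with abelian
Sylow 2-subgroups and solvable involution centralizers (S3188) gives `PSL₂(8)`.  Otherwise all cores
are trivial, hence every involution centralizer is `Z₂ × PSL₂(q)`: the group is of Janko–Ree type.

The inputs are explicit hypotheses: `SolvableCentralizerThm` (S3188), `StronglyEmbeddedThm`,
`MaximalThm`, `CentralizerThm`.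
-/

set_option autoImplicit false
set_option linter.style.haveILetI false
set_option linter.unusedSectionVars false

open Subgroup

namespace CfsgLib.Walter

universe u

/-- The statement of S3188 used here. -/
def SolvableCentralizerThm : Prop :=
  ∀ {G : Type u} [Group G] [Finite G] (S : Sylow 2 G), IsMulCommutative ↥(S : Subgroup G) →
    (∀ t : G, orderOf t = 2 → Group.IsSolvable ↥(centralizer ({t} : Set G))) →
    Group.IsSolvable G ∨
      ∃ (F : Type) (_ : Field F) (_ : Fintype F),
        (((Fintype.card F % 8 = 3 ∨ Fintype.card F % 8 = 5) ∧ 5 ≤ Fintype.card F) ∨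
          (∃ n : ℕ, 2 ≤ n ∧ Fintype.card F = 2 ^ n)) ∧
        ∃ N : Subgroup (G ⧸ Cfsg.oddCore G), N.Normal ∧
          Nonempty (↥N ≃* Matrix.ProjectiveSpecialLinearGroup (Fin 2) F) ∧
          centralizer (N : Set (G ⧸ Cfsg.oddCore G)) = ⊥

/-- No strongly embedded subgroup. -/
def StronglyEmbeddedThm : Prop :=
  ∀ {G : Type u} [Group G] [Finite G], Minimal G →
    (∀ a : G, orderOf a = 2 → ¬ Group.IsSolvable (centralizer ({a} : Set G))) →
    ∀ H : Subgroup G, Cfsg.IsStronglyEmbedded H → False

/-- Centralizers that are not split are maximal. -/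
def MaximalThm : Prop :=
  ∀ {G : Type u} [Group G] [Finite G], Minimal G →
    (∀ a : G, orderOf a = 2 → ¬ Group.IsSolvable (centralizer ({a} : Set G))) →
    (∀ H : Subgroup G, Cfsg.IsStronglyEmbedded H → False) →
    ∀ a : G, orderOf a = 2 → ¬ Split a → IsCoatom (centralizer ({a} : Set G))

/-- With trivial cores the centralizers are `Z₂ × PSL₂(q)`. -/
def CentralizerThm : Prop :=
  ∀ {G : Type u} [Group G] [Finite G], Minimal G →
    (∀ a : G, orderOf a = 2 → ¬ Group.IsSolvable (centralizer ({a} : Set G))) →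
    (∀ H : Subgroup G, Cfsg.IsStronglyEmbedded H → False) →
    (∀ w : G, orderOf w = 2 → GW.core w = ⊥) → ∀ z : G, orderOf z = 2 →
      ∃ (F : Type) (_ : Field F) (_ : Fintype F),
        (Fintype.card F % 8 = 3 ∨ Fintype.card F % 8 = 5) ∧ 5 ≤ Fintype.card F ∧
          Nonempty (centralizer ({z} : Set G) ≃*
            Multiplicative (ZMod 2) × Matrix.ProjectiveSpecialLinearGroup (Fin 2) F)

/-- In `PSL₂(q)` with `q ≡ 3, 5 (mod 8)` the order is not divisible by 8. -/
theorem not_eight_dvd_card_psl {F : Type} [Field F] [Fintype F]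
    (h : Fintype.card F % 8 = 3 ∨ Fintype.card F % 8 = 5) :
    ¬ 8 ∣ Nat.card (Matrix.ProjectiveSpecialLinearGroup (Fin 2) F) := by
  intro h8
  have hodd : Odd (Fintype.card F) := by rw [Nat.odd_iff]; omega
  have h16 : 16 ∣ Fintype.card F * (Fintype.card F ^ 2 - 1) := by
    rw [← Linear.card_PSL_two_odd hodd]
    exact mul_dvd_mul_left 2 h8
  have h16' : 16 ∣ Fintype.card F ^ 2 - 1 := by
    refine (Nat.Coprime.dvd_mul_left ?_).1 h16
    exact Nat.Coprime.pow_left 4 ((Nat.prime_two.coprime_iff_not_dvd).2 hodd.not_two_dvd_nat)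
  obtain ⟨c, hc⟩ : ∃ c, Fintype.card F = 8 * c + 3 ∨ Fintype.card F = 8 * c + 5 :=
    ⟨Fintype.card F / 8, by omega⟩
  rcases hc with hc | hc <;> rw [hc] at h16'
  · rw [show (8 * c + 3) ^ 2 - 1 = 16 * (4 * c * c + 3 * c) + 8 from
      Nat.sub_eq_of_eq_add (by ring), Nat.dvd_add_right (dvd_mul_right 16 _)] at h16'
    omega
  · rw [show (8 * c + 5) ^ 2 - 1 = 16 * (4 * c * c + 5 * c + 1) + 8 from
      Nat.sub_eq_of_eq_add (by ring), Nat.dvd_add_right (dvd_mul_right 16 _)] at h16'
    omega

variable {G : Type u} [Group G] [Finite G]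

namespace Minimal

variable (hG : Minimal G)
include hG

theorem not_isSolvable : ¬ Group.IsSolvable G := fun h => by
  haveI := hG.simple
  exact hG.not_comm ⟨⟨IsSimpleGroup.comm_iff_isSolvable.2 h⟩⟩

theorem oddCore_eq_bot : Cfsg.oddCore G = ⊥ := by
  haveI := hG.simple
  rcases IsSimpleGroup.eq_bot_or_eq_top_of_normal _ (inferInstance :
    (Cfsg.oddCore G).Normal) with h | h
  · exact h
  · exfalso
    have := Inv54.odd_card_oddCore (G := G)
    rw [h, card_top] at this
    exact this.not_two_dvd_nat (dvd_trans (by norm_num) hG.four_dvd)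

/-- No involution centralizer is solvable. -/
theorem nonsolvable_centralizer (h3188 : SolvableCentralizerThm.{u}) (a : G) (ha : orderOf a = 2) :
    ¬ Group.IsSolvable (centralizer ({a} : Set G)) := by
  intro hsol
  haveI : Fact (Nat.Prime 2) := ⟨Nat.prime_two⟩
  haveI := hG.simple
  have hall : ∀ t : G, orderOf t = 2 → Group.IsSolvable ↥(centralizer ({t} : Set G)) := by
    intro t ht
    obtain ⟨g, rfl⟩ := isConj_iff.1 (hG.isConj ha ht)
    rw [← map_conj_centralizer_singleton]
    let e := (centralizer ({a} : Set G)).equivMapOfInjective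
      (MulAut.conj g).toMonoidHom (MulAut.conj g).injective
    haveI := hsol
    exact Group.isSolvable_of_surjective (f := e.toMonoidHom) e.surjective
  obtain ⟨S⟩ : Nonempty (Sylow 2 G) := inferInstance
  rcases h3188 S ⟨⟨fun x y => Subtype.ext (hG.sylow_comm S x.2 y.2).eq⟩⟩ hall with
    h | ⟨F, iF, fF, hq, N, hN, ⟨e⟩, -⟩
  · exact hG.not_isSolvable h
  let eG : G ⧸ Cfsg.oddCore G ≃* G :=
    (QuotientGroup.quotientMulEquivOfEq hG.oddCore_eq_bot).trans QuotientGroup.quotientBot
  haveI : (N.map eG.toMonoidHom).Normal := hN.map _ eG.surjective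
  have eN : N.map eG.toMonoidHom ≃* Matrix.ProjectiveSpecialLinearGroup (Fin 2) F :=
    (N.equivMapOfInjective _ eG.injective).symm.trans e
  have htop : N.map eG.toMonoidHom = ⊤ := by
    refine (IsSimpleGroup.eq_bot_or_eq_top_of_normal _ inferInstance).resolve_left fun h => ?_
    have h1 : Nat.card (N.map eG.toMonoidHom) = 1 := by rw [h]; exact card_bot
    rw [Nat.card_congr eN.toEquiv] at h1
    have h2 := Linear.card_PSL_two_mul (F := F)
    rw [h1, mul_one] at h2
    have hq4 : 4 ≤ Fintype.card F := by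
      rcases hq with ⟨-, h5⟩ | ⟨n, hn, hn'⟩
      · omega
      · rw [hn']
        exact (show 4 = 2 ^ 2 by norm_num).le.trans (Nat.pow_le_pow_right (show 0 < 2 by norm_num) hn)
    have h3 : 4 * 15 ≤ Fintype.card F * (Fintype.card F ^ 2 - 1) :=
      Nat.mul_le_mul hq4 (Nat.le_sub_of_add_le ((by norm_num : 15 + 1 ≤ 4 ^ 2).trans
        (Nat.pow_le_pow_left hq4 2)))
    have h4 := Nat.gcd_le_left (Fintype.card F - 1) (show 0 < 2 by norm_num)
    omega
  have eGF : G ≃* Matrix.ProjectiveSpecialLinearGroup (Fin 2) F :=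
    (Subgroup.topEquiv.symm.trans (MulEquiv.subgroupCongr htop.symm)).trans eN
  have h8 : 8 ∣ Nat.card (Matrix.ProjectiveSpecialLinearGroup (Fin 2) F) := by
    rw [← Nat.card_congr eGF.toEquiv, ← hG.card S]
    exact (S : Subgroup G).card_subgroup_dvd_card
  rcases hq with ⟨hq, -⟩ | ⟨n, hn, hn'⟩
  · exact not_eight_dvd_card_psl hq h8
  have heven : Even (Fintype.card F) := by
    rw [hn']
    exact (Nat.even_pow' (by omega)).2 even_two
  have hdvd : 2 ^ n ∣ Nat.card G := by
    rw [Nat.card_congr eGF.toEquiv, Linear.card_PSL_two_even heven, hn']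
    exact dvd_mul_right _ _
  have h1 := Nat.le_of_dvd Nat.card_pos (S.pow_dvd_card_of_pow_dvd_card hdvd)
  rw [hG.card S] at h1
  have hn3 : n ≤ 3 := by
    by_contra h
    have := Nat.pow_le_pow_right (show 0 < 2 by norm_num) (show 4 ≤ n by omega)
    omega
  rcases (show n = 2 ∨ n = 3 by omega) with rfl | rfl
  · rw [Linear.card_PSL_two_even heven, hn'] at h8
    norm_num at h8
  · exact hG.not_eight ⟨F, iF, fF, by rw [hn']; norm_num, ⟨eGF⟩⟩

theorem false_of_thms (h3188 : SolvableCentralizerThm.{u}) (hse : StronglyEmbeddedThm.{u})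
    (hmax : MaximalThm.{u}) (hcen : CentralizerThm.{u}) : False := by
  have hnsol := hG.nonsolvable_centralizer h3188
  have hSE := hse hG hnsol
  have hcore : ∀ w : G, orderOf w = 2 → GW.core w = ⊥ := fun w hw =>
    hG.core_eq_bot hnsol hSE (hmax hG hnsol hSE) hw
  exact hG.not_jr ⟨hG.simple, fun t ht => hcen hG hnsol hSE hcore t ht⟩

end Minimal

/-- The theorem for simple groups of every order, given the inputs. -/
theorem simpleHyp_of_thms (h3188 : SolvableCentralizerThm.{u}) (hse : StronglyEmbeddedThm.{u})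
    (hmax : MaximalThm.{u}) (hcen : CentralizerThm.{u}) : ∀ m : ℕ, SimpleHyp.{u} m :=
  simpleHyp_of_no_minimal fun _ _ _ hG => hG.false_of_thms h3188 hse hmax hcen

end CfsgLib.Walter
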