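import Cfsg.Agent.Walter.Main
import Cfsg.Agent.Walter.SE.Main
import Cfsg.Agent.Walter.OS.Maximal
import Cfsg.Agent.S3188

/-!
# Walter, rank three: the inputs that are proved
-/

set_option autoImplicit false

namespace CfsgLib.Walter

universe u

theorem solvableCentralizerThm : SolvableCentralizerThm.{u} :=
  fun S hS hC => Cfsg.Agent.S3188.result S hS hC

theorem stronglyEmbeddedThm : StronglyEmbeddedThm.{u} :=
  fun hG hnsol _ hH => hG.not_stronglyEmbedded hnsol hH

/-- The theorem for simple groups, given the structure of the centralizers for trivial cores. -/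
theorem simpleHyp_of_centralizer (hcen : CentralizerThm.{u}) : ∀ m : ℕ, SimpleHyp.{u} m :=
  simpleHyp_of_thms solvableCentralizerThm stronglyEmbeddedThm maximalThm hcen

end CfsgLib.Walter
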