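import Cfsg.Agent.Walter.Setting
import Cfsg.Agent.GW.OSType.LinearField
import Cfsg.Agent.GW.PSLKlein
import Cfsg.Agent.GW.PSLTorus
import Cfsg.Agent.AutPSL.Involution
import Mathlib.GroupTheory.SpecificGroups.KleinFour
import Mathlib.GroupTheory.Transfer

/-!
# Walter: torus and field automorphism facts of `PSL₂(q)`, `q ≡ 3, 5 (mod 8)`

`Q` has a normal subgroup `L ≅ PSL₂(q)` with trivial centralizer and odd index, `V` is a four-group
of `L`.

* `abelian_of_invariant`: a subgroup of `L` of odd order normalized by `V` is abelian;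
* `commute_of_normalized`: an odd `X` normalized by `C_L(v)` is centralized by `v`;
* `eq_bot_of_normalized`: if also a second involution of `V` centralizes `X` then `X = 1`;
* `inf_centralizer_four`: `C_L(V) = V`;
* `commute_normalizer`: odd elements of `C(V)` centralize `N_L(V)`;
* `exists_cycle`: an element of order 3 of `L` cycling `V`;
* `exists_oddPart`: the odd elements of `C(V)` form a cyclic subgroup meeting `L` trivially.
-/

set_option autoImplicit false
set_option linter.style.haveILetI false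
set_option linter.unusedSectionVars false

open Subgroup
open scoped commutatorElement

namespace CfsgLib.Walter.PSLOdd

variable {Q : Type*} [Group Q] [Finite Q] {L : Subgroup Q} [L.Normal]

section Elementary

/-- An odd element conjugating `y` to `y u`, `u` an involution centralizing it, centralizes `y`. -/
theorem commute_of_conj_eq {x y u : Q} (hu : u * u = 1) (hxu : Commute x u)
    (ho : Odd (orderOf x)) (h : x * y * x⁻¹ = y * u) : Commute x y := by
  have key : ∀ k : ℕ, x ^ k * y = y * u ^ k * x ^ k := by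
    intro k
    induction k with
    | zero => simp
    | succ k ih =>
      have h' : x * y = y * u * x := by rw [← h]; group
      calc x ^ (k + 1) * y = x * (x ^ k * y) := by rw [pow_succ', mul_assoc]
        _ = x * (y * u ^ k * x ^ k) := by rw [ih]
        _ = x * y * u ^ k * x ^ k := by simp only [mul_assoc]
        _ = y * u * (x * u ^ k) * x ^ k := by rw [h']; simp only [mul_assoc]
        _ = y * u * (u ^ k * x) * x ^ k := by rw [(hxu.pow_right k).eq]
        _ = y * u ^ (k + 1) * x ^ (k + 1) := by simp only [pow_succ', mul_assoc]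
  have h1 := key (orderOf x)
  rw [pow_orderOf_eq_one, one_mul, mul_one, left_eq_mul] at h1
  obtain ⟨k, hk⟩ := ho
  rw [hk, pow_succ, pow_mul, pow_two, hu, one_pow, one_mul] at h1
  rw [h1, mul_one] at h
  exact mul_inv_eq_iff_eq_mul.1 h

end Elementary

section Setting

variable (hL : IsPSLOdd L) (hC : centralizer (L : Set Q) = ⊥) (hi : Odd L.index)

include hi in
/-- The 2-subgroups lie in `L`. -/
theorem le_of_twoGroup {P : Subgroup Q} (hP : IsPGroup 2 P) : P ≤ L := by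
  intro g hg
  obtain ⟨k, hk⟩ := hP ⟨g, hg⟩
  have h1 : g ^ 2 ^ k = 1 := congrArg Subtype.val hk
  have h2 : orderOf (QuotientGroup.mk g : Q ⧸ L) = 1 := by
    refine Nat.eq_one_of_dvd_coprimes ((Nat.coprime_two_left.2 hi).pow_left k)
      (orderOf_dvd_of_pow_eq_one ?_) ?_
    · rw [← QuotientGroup.mk_pow, h1, QuotientGroup.mk_one]
    · exact orderOf_dvd_natCard _
  exact (QuotientGroup.eq_one_iff g).1 (orderOf_eq_one_iff.1 h2)

include hL hi in
/-- The Sylow 2-subgroups are four-groups. -/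
theorem isKleinFour_sylow (S : Sylow 2 Q) : IsKleinFour (S : Subgroup Q) := by
  haveI : Fact (Nat.Prime 2) := ⟨Nat.prime_two⟩
  obtain ⟨F, iF, fF, hq, -, ⟨e⟩⟩ := hL
  have hSL : (S : Subgroup Q) ≤ L := le_of_twoGroup hi S.isPGroup'
  let S' : Sylow 2 L := S.subtype hSL
  let P : Sylow 2 (Matrix.ProjectiveSpecialLinearGroup (Fin 2) F) :=
    S'.mapSurjective (f := e.toMonoidHom) e.surjective
  haveI hK := Linear.isKleinFour_sylow_PSL_two hq P
  have e1 : (P : Subgroup (Matrix.ProjectiveSpecialLinearGroup (Fin 2) F)) ≃* (S : Subgroup Q) :=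
    ((MulEquiv.subgroupCongr (Sylow.coe_mapSurjective _ _)).trans
      (Subgroup.equivMapOfInjective _ e.toMonoidHom e.injective).symm).trans
        ((MulEquiv.subgroupCongr (Sylow.coe_subtype _ hSL)).trans (subgroupOfEquivOfLe hSL))
  exact ⟨(Nat.card_congr e1.toEquiv).symm.trans hK.card_four,
    (Monoid.exponent_eq_of_mulEquiv e1).symm.trans hK.exponent_two⟩

include hL hi in
theorem sq_of_twoGroup {P : Subgroup Q} (hP : IsPGroup 2 P) :
    (∀ x ∈ P, x * x = 1) ∧ Nat.card P ≤ 4 := by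
  obtain ⟨S, hS⟩ := hP.exists_le_sylow
  haveI := isKleinFour_sylow hL hi S
  exact ⟨fun x hx => congrArg Subtype.val (IsKleinFour.mul_self (⟨x, hS hx⟩ : (S : Subgroup Q))),
    (card_le_of_le hS).trans (IsKleinFour.card_four (G := (S : Subgroup Q))).le⟩

include hL hi in
theorem dihType : GW.DihType Q := by
  obtain ⟨S⟩ : Nonempty (Sylow 2 Q) := inferInstance
  haveI := isKleinFour_sylow hL hi S
  exact GW.dihType_of_sylow S
    (IsKleinFour.nonempty_mulEquiv (G₁ := (S : Subgroup Q)) (G₂ := DihedralGroup 2)).some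

include hL hC hi in
theorem exists_model : ∃ (F : Type) (_ : Field F) (_ : Fintype F),
    (Fintype.card F % 8 = 3 ∨ Fintype.card F % 8 = 5) ∧ Nonempty (GW.OS.Model L F) := by
  have hd := dihType hL hi
  obtain ⟨F, iF, fF, hq, h5, ⟨e⟩⟩ := hL
  exact ⟨F, iF, fF, hq, ⟨⟨e, hC, by rw [Nat.odd_iff]; omega, by omega, hd⟩⟩⟩

end Setting

section Four

variable {V : Subgroup Q} (hV4 : Nat.card V = 4)

include hV4 in
theorem isPGroup_four : IsPGroup 2 V := IsPGroup.of_card (n := 2) (hV4.trans (by norm_num))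

variable (hL : IsPSLOdd L) (hi : Odd L.index)

include hL hi hV4 in
theorem sq_four {a : Q} (ha : a ∈ V) : a * a = 1 :=
  (sq_of_twoGroup hL hi (isPGroup_four hV4)).1 a ha

include hL hi hV4 in
theorem orderOf_four {a : Q} (ha : a ∈ V) (ha1 : a ≠ 1) : orderOf a = 2 :=
  Small.orderOf_eq_two_iff_sq.2 ⟨ha1, sq_four hV4 hL hi ha⟩

include hL hi hV4 in
theorem commute_four {a b : Q} (ha : a ∈ V) (hb : b ∈ V) : Commute a b := by
  have hinv : ∀ x ∈ V, x⁻¹ = x := fun x hx =>
    inv_eq_of_mul_eq_one_right (sq_four hV4 hL hi hx)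
  show a * b = b * a
  calc a * b = (a * b)⁻¹ := (hinv _ (mul_mem ha hb)).symm
    _ = b * a := by rw [mul_inv_rev, hinv a ha, hinv b hb]

include hL hi hV4 in
theorem isMulCommutative_four : IsMulCommutative V :=
  ⟨⟨fun a b => Subtype.ext (commute_four hV4 hL hi a.2 b.2).eq⟩⟩

include hL hi hV4 in
theorem eq_or_eq_of_mem {a b : Q} (ha : a ∈ V) (ha1 : a ≠ 1) (hb : b ∈ V) (hb1 : b ≠ 1)
    (hne : a ≠ b) {x : Q} (hx : x ∈ V) : x = 1 ∨ x = a ∨ x = b ∨ x = a * b := by
  obtain ⟨A, -, -, hA4, hmem, -, -⟩ := GW.OS.exists_fourGroup (orderOf_four hV4 hL hi ha ha1)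
    (orderOf_four hV4 hL hi hb hb1) (commute_four hV4 hL hi ha hb) (Ne.symm hne)
  have hAV : A ≤ V := by
    intro y hy
    rcases hmem y hy with rfl | rfl | rfl | rfl
    exacts [one_mem V, ha, hb, mul_mem ha hb]
  exact hmem x (Subgroup.eq_of_le_of_card_ge hAV (le_of_eq (hV4.trans hA4.symm)) ▸ hx)

include hV4 in
theorem exists_ne_ne {a : Q} : ∃ b ∈ V, b ≠ 1 ∧ b ≠ a := by
  classical
  by_contra h
  push Not at h
  have hs : (V : Set Q) ⊆ {1, a} := fun x hx => by
    by_cases h1 : x = 1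
    · exact Or.inl h1
    · exact Or.inr (h x hx h1)
  have hle : (V : Set Q).ncard ≤ 2 := (Set.ncard_le_ncard hs (Set.toFinite _)).trans
    ((Set.ncard_insert_le _ _).trans (by simp))
  rw [← Nat.card_coe_set_eq] at hle
  have : Nat.card V ≤ 2 := hle
  omega

include hV4 in
theorem eq_one_of_odd_four {a : Q} (ha : a ∈ V) (ho : Odd (orderOf a)) : a = 1 := by
  refine orderOf_eq_one_iff.1 (Nat.eq_one_of_dvd_coprimes
    ((Nat.coprime_two_left.2 ho).pow_left 2) ?_ dvd_rfl)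
  rw [show (2 : ℕ) ^ 2 = Nat.card V by rw [hV4]; norm_num]
  exact Subgroup.orderOf_coe (⟨a, ha⟩ : V) ▸ orderOf_dvd_natCard _

end Four

variable (hL : IsPSLOdd L) (hC : centralizer (L : Set Q) = ⊥) (hi : Odd L.index)
  {V : Subgroup Q} (hVL : V ≤ L) (hV4 : Nat.card V = 4)

section Torus

include hL hC hi

/-- An element of odd order commuting with an involution has order dividing `q ± 1`. -/
theorem exists_prime_not_dvd {F : Type} [Field F] [Fintype F] (m : GW.OS.Model L F) {a y : Q}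
    (ha : orderOf a = 2) (hyL : y ∈ L) {r : ℕ} (hr : r.Prime) (hr2 : r ≠ 2) (hy : orderOf y = r)
    (hay : Commute a y) : ¬ r ∣ Fintype.card F := by
  obtain ⟨A, α, hA, hA2, hα, hnA⟩ := GW.OS.Model.exists_rep_involution (m := m) ha
  obtain ⟨Y, hY⟩ := GW.OS.Model.mem_diagPart.1 (GW.OS.Model.coe_mem_diagPart (m := m) hyL)
  obtain ⟨c, d, hcd⟩ := GW.OS.Model.coord_of_commute hA hnA hY hay (hy ▸ hr.odd_of_ne_two hr2)
  obtain ⟨h1, h2⟩ := GW.OS.Model.pow_eq_one_of_coord hY hA2 hcd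
  have hch : ringChar F ≠ 2 := fun e => GW.OS.Model.two_ne_zero m (by
    haveI := ringChar.of_eq e
    exact_mod_cast CharP.cast_eq_zero F 2)
  intro hd
  have hpos : 1 ≤ Fintype.card F := Fintype.card_pos
  have hne : ¬ r ∣ 1 := fun h => hr.ne_one (Nat.dvd_one.1 h)
  rcases FiniteField.pow_dichotomy hch hα with e | e
  · have h := orderOf_dvd_of_pow_eq_one (h1 e)
    rw [hy] at h
    exact hne ((Nat.dvd_add_right h).1 (by rwa [Nat.sub_add_cancel hpos]))
  · have h := orderOf_dvd_of_pow_eq_one (h2 e)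
    rw [hy] at h
    exact hne ((Nat.dvd_add_right hd).1 h)

/-- Odd elements of `L` centralizing an involution commute. -/
theorem commute_of_commute_involution {a x y : Q} (ha : orderOf a = 2) (hxL : x ∈ L) (hyL : y ∈ L)
    (hax : Commute a x) (hay : Commute a y) (hxo : Odd (orderOf x)) (hyo : Odd (orderOf y)) :
    Commute x y := by
  obtain ⟨F, iF, fF, -, ⟨m⟩⟩ := exists_model hL hC hi
  obtain ⟨A, α, hA, hA2, hα, hnA⟩ := GW.OS.Model.exists_rep_involution (m := m) ha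
  obtain ⟨X, hX⟩ := GW.OS.Model.mem_diagPart.1 (GW.OS.Model.coe_mem_diagPart (m := m) hxL)
  obtain ⟨Y, hY⟩ := GW.OS.Model.mem_diagPart.1 (GW.OS.Model.coe_mem_diagPart (m := m) hyL)
  obtain ⟨c, d, hcd⟩ := GW.OS.Model.coord_of_commute hA hnA hX hax hxo
  obtain ⟨c', d', hcd'⟩ := GW.OS.Model.coord_of_commute hA hnA hY hay hyo
  refine GW.OS.Model.commute_of_mat hX hY one_ne_zero ?_
  rw [one_smul, hcd, hcd']
  simp only [add_mul, mul_add, smul_mul_assoc, mul_smul_comm, one_mul, mul_one]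
  module

omit hC hi in
/-- The centralizer in `L` of an element of odd prime order prime to `q` is abelian. -/
theorem commute_of_commute_prime {F : Type} [Field F] [Fintype F] (m : GW.OS.Model L F) {r : ℕ}
    (hr : r.Prime) (hr2 : r ≠ 2) (hrq : ¬ r ∣ Fintype.card F) {y x x' : Q} (hyL : y ∈ L)
    (hy : orderOf y = r) (hxL : x ∈ L) (hx'L : x' ∈ L) (hx : Commute x y) (hx' : Commute x' y) :
    Commute x x' := by
  have hy' : orderOf (m.e ⟨y, hyL⟩) = r := by
    rw [MulEquiv.orderOf_eq, Subgroup.orderOf_mk, hy]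
  haveI := GW.isCyclic_centralizer_psl m.odd hr hr2 hrq _ hy'
  have hmem : ∀ g : L, Commute (g : Q) y → m.e g ∈ centralizer ({m.e ⟨y, hyL⟩} : Set _) :=
    fun g hg => mem_centralizer_singleton_iff.2
      (by rw [← map_mul, ← map_mul]; exact congrArg m.e (Subtype.ext hg.eq))
  obtain ⟨c, hc⟩ := IsCyclic.exists_zpow_surjective
    (G := centralizer ({m.e ⟨y, hyL⟩} : Set _))
  obtain ⟨i, hi'⟩ := hc ⟨_, hmem ⟨x, hxL⟩ hx⟩
  obtain ⟨j, hj⟩ := hc ⟨_, hmem ⟨x', hx'L⟩ hx'⟩
  have h : m.e ⟨x, hxL⟩ * m.e ⟨x', hx'L⟩ = m.e ⟨x', hx'L⟩ * m.e ⟨x, hxL⟩ := by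
    have hi2 := congrArg Subtype.val hi'
    have hj2 := congrArg Subtype.val hj
    simp only at hi2 hj2
    rw [← hi2, ← hj2]
    exact congrArg Subtype.val (zpow_mul_comm c i j)
  rw [← map_mul, ← map_mul] at h
  exact congrArg Subtype.val (m.e.injective h)

include hVL hV4

/-- A subgroup of `L` of odd order normalized by the four-group is abelian: it has a normal
`r`-complement for every prime `r`. -/
theorem abelian_of_invariant {Y : Subgroup Q} (hYL : Y ≤ L) (hYo : Odd (Nat.card Y))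
    (hVY : V ≤ normalizer (Y : Set Q)) : IsMulCommutative Y := by
  classical
  obtain ⟨F, iF, fF, -, ⟨m⟩⟩ := exists_model hL hC hi
  haveI : Group.IsNilpotent V := (isPGroup_four hV4).isNilpotent
  suffices hbot : _root_.commutator Y = ⊥ by
    refine ⟨⟨fun a b => ?_⟩⟩
    have h1 : ⁅a, b⁆ ∈ _root_.commutator Y :=
      commutator_mem_commutator (mem_top a) (mem_top b)
    rw [hbot, mem_bot, commutatorElement_eq_one_iff_mul_comm] at h1
    exact h1
  rw [← card_eq_one]
  by_contra hne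
  obtain ⟨r, hr, hdvd⟩ := Nat.exists_prime_and_dvd hne
  have hrY : r ∣ Nat.card Y := hdvd.trans (card_subgroup_dvd_card _)
  have hr2 : r ≠ 2 := fun e => by
    subst e
    exact hYo.not_two_dvd_nat hrY
  haveI := Fact.mk hr
  have hodd : ∀ g ∈ Y, Odd (orderOf g) := fun g hg =>
    hYo.of_dvd_nat (Subgroup.orderOf_coe (⟨g, hg⟩ : Y) ▸ orderOf_dvd_natCard _)
  have hcop : (Nat.card V).Coprime (Nat.card Y) := by
    rw [hV4, show 4 = 2 ^ 2 from rfl]
    exact (Nat.coprime_two_left.2 hYo).pow_left 2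
  obtain ⟨P, hP⟩ := Coprime.exists_invariant_sylow hVY hcop (Or.inl inferInstance) r
  set P' : Subgroup Q := (P : Subgroup Y).map Y.subtype with hP'
  have hP'Y : P' ≤ Y := map_subtype_le _
  -- a fixed point of prime order
  obtain ⟨v, hv, hv1, -⟩ := exists_ne_ne hV4 (a := (1 : Q))
  obtain ⟨b, hb, hb1, hbv⟩ := exists_ne_ne hV4 (a := v)
  have hP'o : Odd (Nat.card P') := hYo.of_dvd_nat (card_dvd_of_le hP'Y)
  have hPne : P' ≠ ⊥ := by
    rw [hP', Ne, map_eq_bot_iff_of_injective _ Y.subtype_injective]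
    intro h
    have h' := P.card_eq_multiplicity
    rw [show Nat.card (P : Subgroup Y) = 1 by rw [h]; exact Subgroup.card_bot] at h'
    have h1 := Nat.Prime.factorization_pos_of_dvd hr Nat.card_pos.ne' hrY
    exact absurd h'.symm (Nat.one_lt_pow (by omega) hr.one_lt).ne'
  obtain ⟨a, ha, ha1, c, hc, hac, hc1⟩ :
      ∃ a ∈ V, a ≠ 1 ∧ ∃ c ∈ P', Commute a c ∧ c ≠ 1 := by
    by_contra hno
    push Not at hno
    refine hPne (le_bot_iff.1 (GW.OS.le_of_four (orderOf_four hV4 hL hi hv hv1)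
      (orderOf_four hV4 hL hi hb hb1) (commute_four hV4 hL hi hv hb) hbv hP'o (hP hv) (hP hb)
      (fun x hx h => hno v hv hv1 x hx h) (fun x hx h => hno b hb hb1 x hx h)
      (fun x hx h => hno _ (mul_mem hv hb) ?_ x hx h)))
    intro e
    exact hbv (by
      rw [eq_inv_of_mul_eq_one_right e, inv_eq_of_mul_eq_one_right (sq_four hV4 hL hi hv)])
  have ha2 := orderOf_four hV4 hL hi ha ha1
  have hPp : IsPGroup r P' := P.isPGroup'.map _
  have hr_pow : ∀ g ∈ P', g ≠ 1 → ∃ k : ℕ, orderOf (g ^ k) = r := by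
    intro g hg hg1
    obtain ⟨k, hk⟩ := (IsPGroup.iff_orderOf.1 hPp) ⟨g, hg⟩
    rw [Subgroup.orderOf_mk] at hk
    obtain ⟨k', rfl⟩ : ∃ k', k = k' + 1 := Nat.exists_eq_succ_of_ne_zero fun e => hg1
      (orderOf_eq_one_iff.1 (by rw [hk, e, pow_zero]))
    refine ⟨r ^ k', ?_⟩
    rw [orderOf_pow, hk, Nat.gcd_eq_right (pow_dvd_pow r (Nat.le_succ k')),
      Nat.pow_div (Nat.le_succ k') hr.pos, show k' + 1 - k' = 1 by omega, pow_one]
  obtain ⟨k, hk⟩ := hr_pow c hc hc1
  set y := c ^ k with hy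
  have hyP : y ∈ P' := pow_mem hc k
  have hay : Commute a y := hac.pow_right k
  have hyL : y ∈ L := hYL (hP'Y hyP)
  have hrq := exists_prime_not_dvd hL hC hi m ha2 hyL hr hr2 hk hay
  -- `P'` is abelian
  have hcomm : ∀ p ∈ P', ∀ p' ∈ P', Commute p p' := by
    haveI : Nontrivial P' := (Subgroup.nontrivial_iff_ne_bot P').2 hPne
    haveI := hPp.center_nontrivial
    obtain ⟨⟨ζ, hζ⟩, hζ1⟩ := exists_ne (1 : Subgroup.center P')
    have hζ1' : (ζ : Q) ≠ 1 := fun e => hζ1 (Subtype.ext (Subtype.ext e))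
    obtain ⟨j, hj⟩ := hr_pow ζ ζ.2 hζ1'
    have hζc : ∀ p ∈ P', Commute p ((ζ : Q) ^ j) := fun p hp =>
      (show Commute p (ζ : Q) from
        congrArg Subtype.val (Subgroup.mem_center_iff.1 hζ ⟨p, hp⟩)).pow_right j
    exact fun p hp p' hp' => commute_of_commute_prime hL m hr hr2 hrq
      (hYL (hP'Y (pow_mem ζ.2 j))) hj (hYL (hP'Y hp)) (hYL (hP'Y hp')) (hζc p hp) (hζc p' hp')
  have haP : ∀ p ∈ P', Commute a p := fun p hp => commute_of_commute_prime hL m hr hr2 hrq hyL hk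
    (hVL ha) (hYL (hP'Y hp)) hay (hcomm p hp y hyP)
  -- normalizer and centralizer agree
  have hNC : normalizer ((P : Subgroup Y) : Set Y) ≤ centralizer ((P : Subgroup Y) : Set Y) := by
    intro n hn
    have hnP : ∀ p ∈ P', (n : Q) * p * (n : Q)⁻¹ ∈ P' := by
      rintro p ⟨p₀, hp₀, rfl⟩
      exact ⟨n * p₀ * n⁻¹, (mem_normalizer_iff.1 hn p₀).1 hp₀, by simp⟩
    have hnL : (n : Q) ∈ L := hYL n.2
    set a' := (n : Q)⁻¹ * a * n with ha'
    have ha'L : a' ∈ L := mul_mem (mul_mem (inv_mem hnL) (hVL ha)) hnL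
    have ha'o : orderOf a' = 2 := by
      rw [ha', show (n : Q)⁻¹ * a * n = (n : Q)⁻¹ * a * (n : Q)⁻¹⁻¹ by rw [inv_inv],
        Small.orderOf_conj_eq, ha2]
    have h3 : a' * y = y * a' := by
      have h := (haP _ (hnP y hyP)).eq
      calc a' * y = (n : Q)⁻¹ * (a * (n * y * (n : Q)⁻¹)) * n := by rw [ha']; group
        _ = (n : Q)⁻¹ * ((n * y * (n : Q)⁻¹) * a) * n := by rw [h]
        _ = y * a' := by rw [ha']; group
    have heq : (⟨a, hVL ha⟩ : L) = ⟨a', ha'L⟩ := GW.eq_of_commute_torus m.e m.odd hr hr2 hrq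
      (y := ⟨y, hyL⟩) (by rw [Subgroup.orderOf_mk]; exact hk)
      (by rw [Subgroup.orderOf_mk]; exact ha2) (by rw [Subgroup.orderOf_mk]; exact ha'o)
      (Subtype.ext hay.eq) (Subtype.ext h3)
    have han : Commute a (n : Q) := by
      have h := congrArg Subtype.val heq
      simp only [ha'] at h
      show a * n = n * a
      conv_rhs => rw [h]
      group
    refine mem_centralizer_iff.2 fun p hp => ?_
    exact Subtype.ext (commute_of_commute_involution hL hC hi ha2 hnL (hYL p.2) han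
      (haP p ⟨p, hp, rfl⟩) (hodd _ n.2) (hodd _ p.2)).eq.symm
  -- the normal complement
  set τ := MonoidHom.transferSylow P hNC with hτ
  have hle : _root_.commutator Y ≤ τ.ker := by
    rw [_root_.commutator_def, commutator_le]
    intro g _ g' _
    rw [MonoidHom.mem_ker, map_commutatorElement, commutatorElement_eq_one_iff_mul_comm]
    have h1 : ((τ g : Y) : Q) ∈ P' := ⟨_, (τ g).2, rfl⟩
    have h2 : ((τ g' : Y) : Q) ∈ P' := ⟨_, (τ g').2, rfl⟩
    exact Subtype.ext (Subtype.ext (hcomm _ h1 _ h2).eq)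
  exact MonoidHom.not_dvd_card_ker_transferSylow P hNC (hdvd.trans (card_dvd_of_le hle))

end Torus

include hL hi hV4

include hC hVL in
/-- `C_L(V) = V`. -/
theorem inf_centralizer_four : L ⊓ centralizer (V : Set Q) = V := by
  refine le_antisymm (fun g hg => ?_) (le_inf hVL fun a ha => mem_centralizer_iff.2 fun b hb =>
    (commute_four hV4 hL hi hb ha).eq)
  obtain ⟨hgL, hgc⟩ := mem_inf.1 hg
  obtain ⟨F, iF, fF, -, ⟨m⟩⟩ := exists_model hL hC hi
  obtain ⟨v, hv, hv1, -⟩ := exists_ne_ne hV4 (a := (1 : Q))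
  obtain ⟨b, hb, hb1, hbv⟩ := exists_ne_ne hV4 (a := v)
  have hgV : ∀ a ∈ V, Commute a g := fun a ha => mem_centralizer_iff.1 hgc a ha
  have hodd : Odd (orderOf (g ^ 2)) := by
    rw [← Nat.not_even_iff_odd, even_iff_two_dvd]
    intro h2
    have hdiv : 2 ∣ orderOf g := h2.trans (orderOf_pow_dvd 2)
    have h4 : 4 ∣ orderOf g := by
      rw [orderOf_pow, Nat.gcd_eq_right hdiv] at h2
      obtain ⟨j, hj⟩ := h2
      exact ⟨j, by omega⟩
    set h := g ^ (orderOf g / 4) with hh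
    have ho : orderOf h = 4 := orderOf_pow_orderOf_div (orderOf_pos g).ne' h4
    have h1 := (sq_of_twoGroup hL hi (P := zpowers h) (IsPGroup.of_card (n := 2)
      (by rw [Nat.card_zpowers, ho]; norm_num))).1 h (mem_zpowers h)
    have h3 := orderOf_dvd_of_pow_eq_one (show h ^ 2 = 1 by rw [pow_two]; exact h1)
    rw [ho] at h3
    norm_num at h3
  have hg2 : g * g = 1 := by
    rw [← pow_two]
    exact GW.OS.Model.eq_one_of_commute_both (m := m) (orderOf_four hV4 hL hi hv hv1)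
      (orderOf_four hV4 hL hi hb hb1) (commute_four hV4 hL hi hv hb) hbv
      (GW.OS.Model.coe_mem_diagPart (pow_mem hgL 2)) ((hgV v hv).pow_right 2)
      ((hgV b hb).pow_right 2) hodd
  have hP : IsPGroup 2 (zpowers g) := fun x => ⟨1, by
    obtain ⟨n, hn⟩ := mem_zpowers_iff.1 x.2
    apply Subtype.ext
    rw [pow_one, SubmonoidClass.coe_pow, OneMemClass.coe_one, ← hn, ← zpow_natCast (g ^ n),
      ← zpow_mul, mul_comm, zpow_mul, zpow_natCast, pow_two, hg2, one_zpow]⟩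
  have hsup := IsPGroup.to_sup_of_normal_right' hP (isPGroup_four hV4) (zpowers_le.2 <|
    mem_normalizer_iff.2 fun a => by
      refine ⟨fun ha => ?_, fun ha => ?_⟩
      · rwa [← (hgV a ha).eq, mul_inv_cancel_right]
      · have e : a = g * a * g⁻¹ := by
          have h := (hgV _ ha).eq
          calc a = g⁻¹ * ((g * a * g⁻¹) * g) := by group
            _ = g⁻¹ * (g * (g * a * g⁻¹)) := by rw [h]
            _ = g * a * g⁻¹ := by group
        exact e ▸ ha)
  have hle : V ≤ zpowers g ⊔ V := le_sup_right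
  rw [Subgroup.eq_of_le_of_card_ge hle (by
    rw [hV4]; exact (sq_of_twoGroup hL hi hsup).2)]
  exact mem_sup_left (mem_zpowers g)

include hC hVL in
theorem eq_one_of_mem_centralizer_four {g : Q} (hgL : g ∈ L) (hgc : g ∈ centralizer (V : Set Q))
    (ho : Odd (orderOf g)) : g = 1 :=
  eq_one_of_odd_four hV4 ((inf_centralizer_four hL hC hi hVL hV4).le (mem_inf.2 ⟨hgL, hgc⟩)) ho

include hC hVL in
/-- An odd subgroup normalized by `C_L(v)` is centralized by `v`. -/
theorem commute_of_normalized {X : Subgroup Q} (hXo : Odd (Nat.card X)) {v : Q} (hv : v ∈ V)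
    (hv1 : v ≠ 1) (hCX : L ⊓ centralizer ({v} : Set Q) ≤ normalizer (X : Set Q)) {x : Q}
    (hx : x ∈ X) : Commute x v := by
  obtain ⟨F, iF, fF, -, ⟨m⟩⟩ := exists_model hL hC hi
  have hv2 := orderOf_four hV4 hL hi hv hv1
  have hVX : V ≤ normalizer (X : Set Q) := fun a ha =>
    hCX (mem_inf.2 ⟨hVL ha, mem_centralizer_singleton_iff.2 (commute_four hV4 hL hi ha hv).eq⟩)
  have hYN : ∀ g ∈ L, g ∈ normalizer (X : Set Q) → g ∈ normalizer ((X ⊓ L : Subgroup Q) : Set Q) :=
    fun g _ hg => mem_normalizer_iff.2 fun y => by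
      have h1 := mem_normalizer_iff.1 hg y
      have h2 : g * y * g⁻¹ ∈ L ↔ y ∈ L :=
        ⟨fun h => by
          have := (inferInstance : L.Normal).conj_mem _ h g⁻¹
          rwa [show g⁻¹ * (g * y * g⁻¹) * g⁻¹⁻¹ = y by group] at this,
        fun h => (inferInstance : L.Normal).conj_mem y h g⟩
      simp [h1, h2]
  have hYo : Odd (Nat.card (X ⊓ L : Subgroup Q)) := hXo.of_dvd_nat (card_dvd_of_le inf_le_left)
  haveI := abelian_of_invariant hL hC hi hVL hV4 (Y := X ⊓ L) inf_le_right hYo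
    (fun a ha => hYN a (hVL ha) (hVX ha))
  have hvX := hVX hv
  have hd : x * v * x⁻¹ * v⁻¹ ∈ X ⊓ L := by
    refine mem_inf.2 ⟨?_, ?_⟩
    · rw [show x * v * x⁻¹ * v⁻¹ = x * (v * x⁻¹ * v⁻¹) by group]
      exact mul_mem hx ((mem_normalizer_iff.1 hvX _).1 (inv_mem hx))
    · exact mul_mem ((inferInstance : L.Normal).conj_mem v (hVL hv) x) (inv_mem (hVL hv))
  have h1 := GW.OS.Model.eq_one_of_normalized m hv2 (X := X ⊓ L)
    (open scoped IsMulCommutative in inferInstance) hYo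
    (hYN v (hVL hv) hvX)
    (fun g hg hvg => hYN g hg (hCX (mem_inf.2 ⟨hg, mem_centralizer_singleton_iff.2 hvg.eq.symm⟩)))
    hd (GW.OS.inverts_comm (Small.mul_self_of_orderOf_two hv2) x)
  exact (GW.OS.comm_eq_one_iff.1 h1).symm

include hC hVL in
/-- No field automorphism centralizes the torus: an odd subgroup normalized by `C_L(v)` and
centralized by another involution of `V` is trivial. -/
theorem eq_bot_of_normalized {X : Subgroup Q} (hXo : Odd (Nat.card X)) {v : Q} (hv : v ∈ V)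
    (hv1 : v ≠ 1) (hCX : L ⊓ centralizer ({v} : Set Q) ≤ normalizer (X : Set Q)) {w : Q}
    (hw : w ∈ V) (hw1 : w ≠ 1) (hwv : w ≠ v) (hXw : ∀ x ∈ X, Commute x w) : X = ⊥ := by
  rw [eq_bot_iff]
  intro x hx
  rw [mem_bot]
  by_contra hx1
  obtain ⟨F, iF, fF, -, ⟨m⟩⟩ := exists_model hL hC hi
  have hoX : ∀ y ∈ X, Odd (orderOf y) := fun y hy =>
    hXo.of_dvd_nat (Subgroup.orderOf_coe (⟨y, hy⟩ : X) ▸ orderOf_dvd_natCard _)
  have hXV : ∀ y ∈ X, y ∈ centralizer (V : Set Q) := fun y hy =>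
    mem_centralizer_iff.2 fun a ha => by
      rcases eq_or_eq_of_mem hV4 hL hi hv hv1 hw hw1 (Ne.symm hwv) ha with rfl | rfl | rfl | rfl
      exacts [(Commute.one_left y).eq,
        (commute_of_normalized hL hC hi hVL hV4 hXo hv hv1 hCX hy).eq.symm, (hXw y hy).eq.symm,
        ((commute_of_normalized hL hC hi hVL hV4 hXo hv hv1 hCX hy).symm.mul_left
          (hXw y hy).symm).eq]
  obtain ⟨s, hs, hsd⟩ := Nat.exists_prime_and_dvd (n := orderOf x)
    (fun h => hx1 (orderOf_eq_one_iff.1 h))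
  set e := x ^ (orderOf x / s) with he
  have heo : orderOf e = s := orderOf_pow_orderOf_div (orderOf_pos x).ne' hsd
  have heX : e ∈ X := pow_mem hx _
  have hs2 : s ≠ 2 := fun h => (hoX x hx).not_two_dvd_nat (h ▸ hsd)
  have heL : e ∈ L := GW.OS.Model.mem_of_commute_torus m (orderOf_four hV4 hL hi hv hv1) hs hs2
    ⟨1, by rw [pow_one, ← heo, pow_orderOf_eq_one]⟩
    (commute_of_normalized hL hC hi hVL hV4 hXo hv hv1 hCX heX).symm (by
      intro t htL hvt hto _
      have htX : t ∈ normalizer (X : Set Q) :=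
        hCX (mem_inf.2 ⟨htL, mem_centralizer_singleton_iff.2 hvt.eq.symm⟩)
      have hcX : e * t * e⁻¹ * t⁻¹ ∈ X := by
        rw [show e * t * e⁻¹ * t⁻¹ = e * (t * e⁻¹ * t⁻¹) by group]
        exact mul_mem heX ((mem_normalizer_iff.1 htX _).1 (inv_mem heX))
      exact (GW.OS.comm_eq_one_iff.1 (eq_one_of_mem_centralizer_four hL hC hi hVL hV4
        (mul_mem ((inferInstance : L.Normal).conj_mem t htL e) (inv_mem htL))
        (hXV _ hcX) (hoX _ hcX))).symm)
  have := eq_one_of_mem_centralizer_four hL hC hi hVL hV4 heL (hXV e heX) (hoX e heX)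
  rw [this, orderOf_one] at heo
  exact hs.ne_one heo.symm

include hC hVL in
/-- An odd element centralizing `V` centralizes every element of `L` normalizing `V`. -/
theorem commute_normalizer {e : Q} (hec : e ∈ centralizer (V : Set Q)) (heo : Odd (orderOf e))
    {d : Q} (hdL : d ∈ L) (hdV : d ∈ normalizer (V : Set Q)) : Commute e d := by
  have hu : d⁻¹ * (e * d * e⁻¹) ∈ V := by
    refine (inf_centralizer_four hL hC hi hVL hV4).le (mem_inf.2
      ⟨mul_mem (inv_mem hdL) ((inferInstance : L.Normal).conj_mem d hdL e), ?_⟩)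
    refine mem_centralizer_iff.2 fun a ha => ?_
    have h1 : Commute (d * a * d⁻¹) e :=
      mem_centralizer_iff.1 hec _ ((mem_normalizer_iff.1 hdV a).1 ha)
    have h2 : Commute a (d⁻¹ * e * d) := by
      show a * (d⁻¹ * e * d) = d⁻¹ * e * d * a
      calc a * (d⁻¹ * e * d) = d⁻¹ * (d * a * d⁻¹ * e) * d := by group
        _ = d⁻¹ * (e * (d * a * d⁻¹)) * d := by rw [h1.eq]
        _ = d⁻¹ * e * d * a := by group
    have h3 : Commute a (d⁻¹ * e * d * e⁻¹) :=
      h2.mul_right (show Commute a e from mem_centralizer_iff.1 hec a ha).inv_right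
    simpa [mul_assoc] using h3.eq
  exact commute_of_conj_eq (sq_four hV4 hL hi hu)
    (show Commute (d⁻¹ * (e * d * e⁻¹)) e from mem_centralizer_iff.1 hec _ hu).symm heo (by group)

include hC hVL in
/-- An element of order 3 of `L` cycling `V`. -/
theorem exists_cycle {v w : Q} (hv : v ∈ V) (hv1 : v ≠ 1) (hw : w ∈ V) (hw1 : w ≠ 1)
    (hne : v ≠ w) : ∃ d ∈ L, orderOf d = 3 ∧ d ∈ normalizer (V : Set Q) ∧
      d * v * d⁻¹ = w ∧ d * w * d⁻¹ = v * w := by
  obtain ⟨F, iF, fF, -, ⟨m⟩⟩ := exists_model hL hC hi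
  have hvo := orderOf_four hV4 hL hi hv hv1
  have hwo := orderOf_four hV4 hL hi hw hw1
  obtain ⟨g₀, h1, h2⟩ := GW.exists_cycle_psl m.odd
    (a := m.e ⟨v, hVL hv⟩) (b := m.e ⟨w, hVL hw⟩)
    (by rw [MulEquiv.orderOf_eq, Subgroup.orderOf_mk, hvo])
    (by rw [MulEquiv.orderOf_eq, Subgroup.orderOf_mk, hwo])
    (fun h => hne (congrArg Subtype.val (m.e.injective h)))
    (by rw [← map_mul, ← map_mul]
        exact congrArg m.e (Subtype.ext (commute_four hV4 hL hi hv hw).eq))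
  obtain ⟨g, rfl⟩ := m.e.surjective g₀
  rw [← map_inv, ← map_mul, ← map_mul] at h1 h2
  have e1 : (g : Q) * v * (g : Q)⁻¹ = w := congrArg Subtype.val (m.e.injective h1)
  rw [← map_mul] at h2
  have e2 : (g : Q) * w * (g : Q)⁻¹ = v * w := congrArg Subtype.val (m.e.injective h2)
  have e3 : (g : Q) * (v * w) * (g : Q)⁻¹ = v := by
    rw [show (g : Q) * (v * w) * (g : Q)⁻¹ = ((g : Q) * v * (g : Q)⁻¹) * ((g : Q) * w * (g : Q)⁻¹)
      by group, e1, e2, (commute_four hV4 hL hi hv hw).eq, ← mul_assoc, sq_four hV4 hL hi hw,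
      one_mul]
  have hcyc : ∀ {a b c : Q}, (g : Q) * a * (g : Q)⁻¹ = b → (g : Q) * b * (g : Q)⁻¹ = c →
      (g : Q) * c * (g : Q)⁻¹ = a → (g : Q) ^ 3 * a * ((g : Q) ^ 3)⁻¹ = a := by
    intro a b c ha hb hc
    calc (g : Q) ^ 3 * a * ((g : Q) ^ 3)⁻¹ =
          g * (g * (g * a * (g : Q)⁻¹) * (g : Q)⁻¹) * (g : Q)⁻¹ := by
          simp only [pow_succ, pow_zero, one_mul]; group
      _ = a := by rw [ha, hb, hc]
  have hfix : ∀ a ∈ V, (g : Q) ^ 3 * a * ((g : Q) ^ 3)⁻¹ = a := by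
    intro a ha
    rcases eq_or_eq_of_mem hV4 hL hi hv hv1 hw hw1 hne ha with rfl | rfl | rfl | rfl
    exacts [by group, hcyc e1 e2 e3, hcyc e2 e3 e1, hcyc e3 e1 e2]
  have hg3 : (g : Q) ^ 3 ∈ V := (inf_centralizer_four hL hC hi hVL hV4).le (mem_inf.2
    ⟨pow_mem g.2 3, mem_centralizer_iff.2 fun a ha =>
      (mul_inv_eq_iff_eq_mul.1 (hfix a ha)).symm⟩)
  have hact : ∀ a ∈ V, (g : Q) ^ 4 * a * ((g : Q) ^ 4)⁻¹ = g * a * (g : Q)⁻¹ := by
    intro a ha
    calc (g : Q) ^ 4 * a * ((g : Q) ^ 4)⁻¹ =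
          g * ((g : Q) ^ 3 * a * ((g : Q) ^ 3)⁻¹) * (g : Q)⁻¹ := by
          rw [pow_succ' (g : Q) 3]; group
      _ = g * a * (g : Q)⁻¹ := by rw [hfix a ha]
  have h12 : ((g : Q) ^ 4) ^ 3 = 1 := by
    rw [← pow_mul, show 4 * 3 = 3 * 2 * 2 by norm_num, pow_mul, pow_mul, pow_two ((g : Q) ^ 3),
      sq_four hV4 hL hi hg3, one_pow]
  refine ⟨(g : Q) ^ 4, pow_mem g.2 4, ?_, ?_, by rw [hact v hv, e1], by rw [hact w hw, e2]⟩
  · haveI : Fact (Nat.Prime 3) := ⟨Nat.prime_three⟩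
    refine orderOf_eq_prime h12 fun h => hne ?_
    have := hact v hv
    rwa [h, one_mul, inv_one, mul_one, e1] at this
  · refine mem_normalizer_iff.2 ?_
    have hmem : ∀ a ∈ V, (g : Q) ^ 4 * a * ((g : Q) ^ 4)⁻¹ ∈ V := by
      intro a ha
      rw [hact a ha]
      rcases eq_or_eq_of_mem hV4 hL hi hv hv1 hw hw1 hne ha with rfl | rfl | rfl | rfl
      exacts [by simp, by rwa [e1], by rw [e2]; exact mul_mem hv hw, by rwa [e3]]
    intro a
    refine ⟨hmem a, fun ha => ?_⟩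
    generalize (g : Q) ^ 4 = d at h12 hmem ha
    have := hmem _ (hmem _ ha)
    rwa [show d * (d * (d * a * d⁻¹) * d⁻¹) * d⁻¹ = d ^ 3 * a * (d ^ 3)⁻¹ by
      simp only [pow_succ, pow_zero, one_mul]; group, h12, one_mul, inv_one, mul_one] at this

include hC hVL in
/-- An odd element centralizing `V` centralizes an element of order 3 moving `V`. -/
theorem exists_three {e : Q} (hec : e ∈ centralizer (V : Set Q)) (heo : Odd (orderOf e)) :
    ∃ d ∈ L, orderOf d = 3 ∧ d ∈ normalizer (V : Set Q) ∧ d ∉ centralizer (V : Set Q) ∧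
      Commute e d := by
  obtain ⟨v, hv, hv1, -⟩ := exists_ne_ne hV4 (a := (1 : Q))
  obtain ⟨w, hw, hw1, hwv⟩ := exists_ne_ne hV4 (a := v)
  obtain ⟨d, hd, hd3, hdV, hdv, -⟩ := exists_cycle hL hC hi hVL hV4 hv hv1 hw hw1 (Ne.symm hwv)
  refine ⟨d, hd, hd3, hdV, fun h => hwv ?_, commute_normalizer hL hC hi hVL hV4 hec heo hd hdV⟩
  rw [← hdv, ← (mem_centralizer_iff.1 h v hv), mul_inv_cancel_right]

include hC hVL in
/-- Odd elements of `C(V)` commute with all of `C(V)`. -/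
theorem commute_centralizer {x y : Q} (hx : x ∈ centralizer (V : Set Q)) (hxo : Odd (orderOf x))
    (hy : y ∈ centralizer (V : Set Q))
    (hxy : y⁻¹ * (x * y * x⁻¹) ∈ L) : Commute x y := by
  have hu : y⁻¹ * (x * y * x⁻¹) ∈ V :=
    (inf_centralizer_four hL hC hi hVL hV4).le (mem_inf.2
      ⟨hxy, mul_mem (inv_mem hy) (mul_mem (mul_mem hx hy) (inv_mem hx))⟩)
  exact commute_of_conj_eq (sq_four hV4 hL hi hu)
    (show Commute (y⁻¹ * (x * y * x⁻¹)) x from mem_centralizer_iff.1 hx _ hu).symm hxo (by group)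

omit hV4 in
include hC in
/-- The field automorphism part, with kernel `L`. -/
theorem exists_fieldHom : ∃ (F : Type) (_ : Field F) (_ : Fintype F) (φ : Q →* (F ≃+* F)),
    φ.ker = L := by
  obtain ⟨F, iF, fF, -, ⟨m⟩⟩ := exists_model hL hC hi
  obtain ⟨p, hp⟩ := CharP.exists F
  haveI : Fact p.Prime := ⟨CharP.char_is_prime F p⟩
  have hdiag : ∀ g, g ∈ m.diagPart → g ∈ L := by
    intro g hg
    obtain ⟨M, hM⟩ := GW.OS.Model.mem_diagPart.1 hg
    have h2 : g ^ 2 ∈ L := GW.OS.Model.mem_of_det (hM.pow 2)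
      ⟨M.1.det, by rw [Units.val_pow_eq_pow_val, Matrix.det_pow, pow_two]⟩
    have h3 : g ^ L.index ∈ L := Subgroup.pow_index_mem L g
    obtain ⟨k, hk⟩ := hi
    rw [hk, pow_succ, pow_mul] at h3
    have h4 := mul_mem (inv_mem (pow_mem h2 k)) h3
    rwa [inv_mul_cancel_left] at h4
  choose M σ hMσ using GW.OS.Model.exists_form (m := m)
  have hmul : ∀ a b, σ (a * b) = σ a * σ b := by
    intro a b
    have h := hMσ (a * b)
    rw [map_mul, hMσ a, hMσ b, ← map_mul,
      show AutPSL.conjSL (M a) * AutPSL.fieldSL (σ a) *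
          (AutPSL.conjSL (M b) * AutPSL.fieldSL (σ b)) =
        AutPSL.conjSL (M a * AutPSL.mapGL (σ a) (M b)) * AutPSL.fieldSL (σ a * σ b) by
        rw [mul_assoc, ← mul_assoc (AutPSL.fieldSL (σ a)), AutPSL.fieldSL_mul_conjSL, map_mul,
          map_mul]
        group] at h
    have h' := AutPSL.toPSLAut_injective p h
    have h1 : AutPSL.conjSL ((M (a * b))⁻¹ * (M a * AutPSL.mapGL (σ a) (M b))) *
        AutPSL.fieldSL (σ a * σ b * (σ (a * b))⁻¹) = 1 := by
      rw [map_mul, map_mul AutPSL.fieldSL, map_inv, map_inv, mul_assoc, ← mul_assoc _ _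
        (AutPSL.fieldSL (σ (a * b)))⁻¹, h']
      group
    exact (mul_inv_eq_one.1 (AutPSL.eq_one_of_conjSL_mul_fieldSL h1).1).symm
  refine ⟨F, iF, fF, MonoidHom.mk' σ hmul, ?_⟩
  ext g
  rw [MonoidHom.mem_ker, MonoidHom.mk'_apply]
  refine ⟨fun h => hdiag g (GW.OS.Model.mem_diagPart.2
    ⟨M g, by show m.act g = _; rw [hMσ g, h, map_one, mul_one]⟩), fun hg => ?_⟩
  obtain ⟨N, hN⟩ := GW.OS.Model.mem_diagPart.1 (GW.OS.Model.coe_mem_diagPart (m := m) hg)
  have h1 : AutPSL.conjSL N = AutPSL.conjSL (M g) * AutPSL.fieldSL (σ g) :=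
    AutPSL.toPSLAut_injective p (hN.symm.trans (hMσ g))
  have h2 : AutPSL.conjSL (N⁻¹ * M g) * AutPSL.fieldSL (σ g) = 1 := by
    rw [map_mul, mul_assoc, ← h1, ← map_mul, inv_mul_cancel, map_one]
  exact (AutPSL.eq_one_of_conjSL_mul_fieldSL h2).1

include hC hVL in
/-- The odd elements of `C(V)` form a cyclic complement of `V`. -/
theorem exists_oddPart : ∃ O : Subgroup Q, IsCyclic O ∧
    (∀ x, x ∈ O ↔ x ∈ centralizer (V : Set Q) ∧ Odd (orderOf x)) ∧ O ⊓ L = ⊥ ∧
      ∀ g ∈ centralizer (V : Set Q), ∃ o ∈ O, ∃ u ∈ V, o * u = g := by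
  obtain ⟨F, iF, fF, φ, hφ⟩ := exists_fieldHom hL hC hi
  have hcomm : ∀ a b : Q, b⁻¹ * (a * b * a⁻¹) ∈ L := by
    intro a b
    rw [← hφ, MonoidHom.mem_ker]
    simp only [map_mul, map_inv]
    rw [AutPSL.ringEquiv_comm (φ a) (φ b)]
    group
  let O : Subgroup Q :=
    { carrier := {x | x ∈ centralizer (V : Set Q) ∧ Odd (orderOf x)}
      one_mem' := ⟨one_mem _, by simp⟩
      mul_mem' := fun {a b} ha hb => ⟨mul_mem ha.1 hb.1,
        (ha.2.mul hb.2).of_dvd_nat
          (commute_centralizer hL hC hi hVL hV4 ha.1 ha.2 hb.1 (hcomm a b)).orderOf_mul_dvd_mul_orderOf⟩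
      inv_mem' := fun {a} ha => ⟨inv_mem ha.1, by rw [orderOf_inv]; exact ha.2⟩ }
  have hOL : ∀ x ∈ O, x ∈ L → x = 1 := fun x hx hxL =>
    eq_one_of_mem_centralizer_four hL hC hi hVL hV4 hxL hx.1 hx.2
  haveI := AutPSL.isCyclic_ringEquiv (F := F)
  refine ⟨O, isCyclic_of_injective (φ.comp O.subtype)
    ((injective_iff_map_eq_one _).2 fun x hx => Subtype.ext (hOL x x.2 (hφ ▸ hx))),
    fun x => Iff.rfl,
    eq_bot_iff.2 fun x hx => mem_bot.2 (hOL x hx.1 hx.2), fun g hg => ?_⟩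
  have hn : g ^ L.index ∈ V := (inf_centralizer_four hL hC hi hVL hV4).le
    (mem_inf.2 ⟨Subgroup.pow_index_mem L g, pow_mem hg _⟩)
  refine ⟨g ^ (L.index + 1), ⟨pow_mem hg _, hi.of_dvd_nat (orderOf_dvd_of_pow_eq_one ?_)⟩,
    (g ^ L.index)⁻¹, inv_mem hn, by rw [pow_succ', mul_inv_cancel_right]⟩
  obtain ⟨k, hk⟩ := hi
  rw [← pow_mul, show (L.index + 1) * L.index = L.index * 2 * (k + 1) by rw [hk]; ring, pow_mul,
    pow_mul, pow_two, sq_four hV4 hL ⟨k, hk⟩ hn, one_pow]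

end CfsgLib.Walter.PSLOdd
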