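import Cfsg.Agent.Walter.Beta
import Cfsg.Agent.Walter.PSLOdd
import Cfsg.Agent.GW.OSType.HFacts
import Cfsg.Agent.GW.PSLCover
import Cfsg.Agent.GW.TwoQuot

/-!
# Walter, rank three: proper overgroups of a Sylow 2-subgroup with components

Such a subgroup `H` has a layer `K` centralizing `O(H)` with image the component of `H/O(H)`.
`AlphaTop`: `K ≅ PSL₂(q)`, `S = ⟨c⟩ × (S ∩ K)` with `c` centralizing `K`, and `S ∩ K` is the line of
a rotation at `c` lying in `K`.  `BetaTop`: `S ≤ K`, and `S` centralizes the odd subgroups of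
`C_H(z)` normalized by `C_H(z)`.
-/

set_option autoImplicit false
set_option linter.style.haveILetI false
set_option linter.unusedSectionVars false

open Subgroup
open CfsgLib.Signalizer CfsgLib.BenderMethod

namespace CfsgLib.Walter

universe u

section General

variable {X : Type u} [Group X]

/-- A normal subgroup `L` with solvable `Z` and odd index of `L ⊔ Z` has solvable quotient. -/
theorem isSolvable_quotient_of_odd [Finite X] (L Z : Subgroup X) [L.Normal] [Z.Normal]
    [Group.IsSolvable Z] (h : Odd (L ⊔ Z).index) : Group.IsSolvable (X ⧸ L) := by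
  let f : X ⧸ L →* X ⧸ (L ⊔ Z) := QuotientGroup.map L (L ⊔ Z) (MonoidHom.id X) le_sup_left
  haveI : Group.IsSolvable (X ⧸ (L ⊔ Z)) :=
    Cfsg.Agent.S0205.result (by rw [← index_eq_card]; exact h)
  refine Group.isSolvable_of_ker_le_range ((QuotientGroup.mk' L).comp Z.subtype) f fun x hx => ?_
  obtain ⟨q, rfl⟩ := QuotientGroup.mk_surjective x
  have hq : q ∈ L ⊔ Z := (QuotientGroup.eq_one_iff q).1 hx
  rw [← SetLike.mem_coe, normal_mul] at hq
  obtain ⟨l, hl, w, hw, rfl⟩ := hq
  refine ⟨⟨w, hw⟩, ?_⟩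
  show QuotientGroup.mk' L w = QuotientGroup.mk' L (l * w)
  rw [map_mul, show QuotientGroup.mk' L l = 1 from (QuotientGroup.eq_one_iff l).2 hl, one_mul]

/-- An element of order at most 2 over a normal subgroup modulo an odd one lies in it. -/
theorem mem_of_mk_mem [Finite X] {N O : Subgroup X} [N.Normal] [O.Normal]
    (hO : Odd (Nat.card O)) {x : X} (hx : x * x = 1)
    (h : QuotientGroup.mk' O x ∈ N.map (QuotientGroup.mk' O)) : x ∈ N := by
  obtain ⟨n, hn, he⟩ := h
  have ho : n⁻¹ * x ∈ O := QuotientGroup.eq.1 he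
  set π := QuotientGroup.mk' N
  have h1 : π x = π (n⁻¹ * x) := by
    rw [map_mul, map_inv, show π n = 1 from (QuotientGroup.eq_one_iff n).2 hn, inv_one, one_mul]
  obtain ⟨k, hk⟩ : Odd (orderOf (n⁻¹ * x)) := hO.of_dvd_nat (O.orderOf_dvd_natCard ho)
  have h2 : π (n⁻¹ * x) ^ orderOf (n⁻¹ * x) = 1 := by rw [← map_pow, pow_orderOf_eq_one, map_one]
  rw [← h1, hk, pow_succ, pow_mul, pow_two, ← map_mul, hx, map_one, one_pow, one_mul] at h2
  exact (QuotientGroup.eq_one_iff x).1 h2

theorem eq_one_of_odd_of_sq {x : X} (ho : Odd (orderOf x)) (h : x * x = 1) : x = 1 := by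
  obtain ⟨k, hk⟩ := ho
  have h1 := pow_orderOf_eq_one x
  rwa [hk, pow_succ, pow_mul, pow_two, h, one_pow, one_mul] at h1

theorem mem_of_sq_mem_odd {L : Subgroup X} {x : X} (ho : Odd (orderOf x)) (h : x * x ∈ L) :
    x ∈ L := by
  obtain ⟨k, hk⟩ := ho
  have h1 := pow_orderOf_eq_one x
  rw [hk, pow_succ, pow_mul] at h1
  rw [eq_inv_of_mul_eq_one_right h1]
  exact inv_mem (pow_mem (by rwa [pow_two]) k)

theorem mem_of_inverts_mem {L : Subgroup X} [L.Normal] {s x : X} (hs : s ∈ L)
    (hi : GW.OS.Inverts s x) (ho : Odd (orderOf x)) : x ∈ L := by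
  refine mem_of_sq_mem_odd ho ?_
  have h1 : x * s * x⁻¹ * s⁻¹ ∈ L :=
    mul_mem ((inferInstance : L.Normal).conj_mem s hs x) (inv_mem hs)
  have h2 : s * x⁻¹ * s⁻¹ = x := by
    have h' : s * x * s⁻¹ = x⁻¹ := hi
    calc s * x⁻¹ * s⁻¹ = (s * x * s⁻¹)⁻¹ := by group
      _ = x := by rw [h', inv_inv]
  rwa [show x * s * x⁻¹ * s⁻¹ = x * (s * x⁻¹ * s⁻¹) by group, h2] at h1

end General

variable {G : Type u} [Group G]

/-- The component case `PSL₂(q)` of a proper overgroup `H` of `S`. -/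
structure AlphaTop (S : Sylow 2 G) (H K : Subgroup G) (c : G) : Prop where
  le : K ≤ H
  normal : H ≤ normalizer (K : Set G)
  psl : IsPSLOdd K
  core : K ≤ centralizer (GW.OS.oddOf H : Set G)
  mem : c ∈ (S : Subgroup G)
  notMem : c ∉ K
  comm : K ≤ centralizer ({c} : Set G)
  fixed : ∀ n ∈ H, n * c * n⁻¹ ∈ (S : Subgroup G) → n * c * n⁻¹ = c
  of_perfect : ∀ P : Subgroup G, P ≤ H → ⁅P, P⁆ = P → ∀ s ∈ (S : Subgroup G), s ∈ P → s ∈ K
  of_inverts : ∀ x ∈ H, Odd (orderOf x) → GW.OS.Inverts c x → x ∈ GW.OS.oddOf H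
  rot : ∃ d ∈ K, Rot S c d ∧ (∀ s ∈ (S : Subgroup G), s ∈ K ↔ OnLine S d s) ∧
    ∀ w ∈ H, Odd (orderOf w) → (∀ s ∈ (S : Subgroup G), Commute w s) → Commute d w

/-- The component case `PSL₂(8)` or Janko–Ree type of a proper overgroup `H` of `S`. -/
structure BetaTop (S : Sylow 2 G) (H K : Subgroup G) : Prop where
  le : K ≤ H
  sylow : (S : Subgroup G) ≤ K
  core : K ≤ centralizer (GW.OS.oddOf H : Set G)
  kill : ∀ z ∈ (S : Subgroup G), z ≠ 1 → ∀ W : Subgroup G, W ≤ H ⊓ centralizer ({z} : Set G) →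
    H ⊓ centralizer ({z} : Set G) ≤ normalizer (W : Set G) → Odd (Nat.card W) →
    ∀ w ∈ W, ∀ s ∈ (S : Subgroup G), Commute w s

theorem le_normalizer_layerOf (H : Subgroup G) : H ≤ normalizer (layerOf' H : Set G) := by
  have h := le_normalizer_map (H := Cfsg.layer H) H.subtype
  rwa [normalizer_eq_top, ← MonoidHom.range_eq_map, range_subtype] at h

variable [Finite G]

theorem layerOf_le_centralizer (H : Subgroup G) :
    layerOf' H ≤ centralizer (GW.OS.oddOf H : Set G) := by
  rintro _ ⟨k, hk, rfl⟩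
  refine mem_centralizer_iff.2 ?_
  rintro _ ⟨o, ho, rfl⟩
  exact congrArg Subtype.val (GW.OS.commute_layer_oddCore hk ho).eq.symm

namespace Minimal

variable (hG : Minimal G)
include hG

theorem exists_lift_sylow (S : Sylow 2 G) {H : Subgroup G} (hSH : (S : Subgroup G) ≤ H)
    {x : H} (hx : x * x = 1) : ∃ g : H, ((g * x * g⁻¹ : H) : G) ∈ (S : Subgroup G) := by
  haveI : Fact (Nat.Prime 2) := ⟨Nat.prime_two⟩
  obtain ⟨T, hT⟩ := (IsPGroup.of_card_dvd_pow (n := 1) (by
    rw [Nat.card_zpowers, pow_one]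
    exact orderOf_dvd_of_pow_eq_one (by rw [pow_two, hx])) :
      IsPGroup 2 (zpowers x)).exists_le_sylow
  obtain ⟨g, hg⟩ := MulAction.exists_smul_eq H T (S.subtype hSH)
  refine ⟨g, ?_⟩
  have : g * x * g⁻¹ ∈ (S.subtype hSH : Subgroup H) := hg ▸ ⟨x, hT (mem_zpowers _), rfl⟩
  exact this

/-- A proper overgroup of `S` with a component. -/
theorem overgroup_cases (S : Sylow 2 G) {H : Subgroup G} (hH : H ≠ ⊤)
    (hSH : (S : Subgroup G) ≤ H) (hE : Cfsg.layer H ≠ ⊥) :
    (∃ c, AlphaTop S H (layerOf' H) c) ∨ BetaTop S H (layerOf' H) := by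
  classical
  haveI : Fact (Nat.Prime 2) := ⟨Nat.prime_two⟩
  set O := Cfsg.oddCore H with hOd
  set π := QuotientGroup.mk' O with hπ
  set E := Cfsg.layer H with hEd
  have hOodd : Odd (Nat.card O) := Inv54.odd_card_oddCore
  haveI hOsol : Group.IsSolvable O := Cfsg.Agent.S0205.result hOodd
  have hperf : ⁅E, E⁆ = E := Components.layer_commutator_self
  haveI : E.Normal := Components.layer_normal
  set I := E.map π with hI
  haveI hIn : I.Normal := Normal.map inferInstance _ (QuotientGroup.mk'_surjective _)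
  have hIperf : ⁅I, I⁆ = I := by rw [hI, ← map_commutator, hperf]
  have hIne : I ≠ ⊥ := by
    intro h
    obtain ⟨C, hC⟩ := not_forall_not.1 fun hno => hE (Components.layer_eq_bot_iff.2 hno)
    refine Components.IsComponent.not_isSolvable hC (Components.isSolvable_mono (K := O) hOsol ?_)
    rw [hI, Subgroup.map_eq_bot_iff, hπ, QuotientGroup.ker_mk'] at h
    exact (Components.IsComponent.le_layer hC).trans h
  have hIle : ∀ (L : Subgroup (H ⧸ O)) [L.Normal], Group.IsSolvable ((H ⧸ O) ⧸ L) → I ≤ L := by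
    intro L _ hsol
    obtain ⟨n, hn⟩ := (Group.isSolvable_def (G := (H ⧸ O) ⧸ L)).1 hsol
    have : ∀ k, I.map (QuotientGroup.mk' L) ≤ derivedSeries ((H ⧸ O) ⧸ L) k := by
      intro k
      induction k with
      | zero => exact le_top
      | succ k ih =>
        rw [derivedSeries_succ, ← hIperf, map_commutator]
        exact commutator_mono ih ih
    intro x hx
    rw [← QuotientGroup.eq_one_iff, ← mem_bot, ← hn]
    exact this n ⟨x, hx, rfl⟩
  have hsame : ∀ (L : Subgroup (H ⧸ O)) [L.Normal], IsSimpleGroup L → I ≤ L → I = L := by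
    intro L _ hs hle
    rcases IsSimpleGroup.eq_bot_or_eq_top_of_normal _ (inferInstance : (I.subgroupOf L).Normal)
      with h | h
    · refine absurd ?_ hIne
      have := congrArg (map L.subtype) h
      rwa [map_subgroupOf_eq_of_le hle, Subgroup.map_bot] at this
    · exact le_antisymm hle (subgroupOf_eq_top.1 h)
  set SH : Sylow 2 H := S.subtype hSH
  have hS2 : ∀ s : H, s ∈ (SH : Subgroup H) → s * s = 1 := fun s hs => Subtype.ext (hG.sq S _ hs)
  have hcard8 : Nat.card (SH : Subgroup H) = 8 :=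
    (Nat.card_congr (subgroupOfEquivOfLe hSH).toEquiv).trans (hG.card S)
  have hπne : ∀ s : H, s ∈ (SH : Subgroup H) → π s = 1 → s = 1 := fun s hs h =>
    eq_one_of_odd_of_sq (hOodd.of_dvd_nat (O.orderOf_dvd_natCard
      ((QuotientGroup.eq_one_iff s).1 h))) (hS2 s hs)
  have hSimg : ∀ (N : Subgroup (H ⧸ O)) [N.Normal], Odd N.index →
      ∀ s : H, s ∈ (SH : Subgroup H) → π s ∈ N := by
    intro N _ hN s hs
    obtain ⟨k, hk⟩ := hN
    have h1 : π s ^ N.index ∈ N := pow_index_mem _ _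
    rwa [hk, pow_succ, pow_mul, pow_two, ← map_mul, hS2 s hs, map_one, one_pow, one_mul] at h1
  have hlift : ∀ b : H, orderOf b = 2 → ∀ q : H ⧸ O, q * π b = π b * q →
      ∃ c : H, c * b = b * c ∧ π c = q := by
    intro b hb q hq
    have h := GW.map_inf_centralizer (π := π) (by rw [hπ, QuotientGroup.ker_mk']; exact hOodd) ⊤
      (b := b) (mem_top _) hb
    have hmem : q ∈ (⊤ : Subgroup H).map π ⊓ centralizer ({π b} : Set (H ⧸ O)) :=
      ⟨by rw [map_top_of_surjective _ (QuotientGroup.mk'_surjective _)]; exact mem_top _,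
        mem_centralizer_singleton_iff.2 hq⟩
    rw [← h] at hmem
    obtain ⟨c, hc, rfl⟩ := hmem
    exact ⟨c, mem_centralizer_singleton_iff.1 hc.2, rfl⟩
  rcases hG.known H hH with hsol | ⟨L, hLn, hpsl, hC2, hidx⟩ | ⟨L, hLn, hjr, hC1, hidx⟩
  · exfalso
    haveI : Group.IsSolvable (H ⧸ O) := hsol
    exact hIne (le_bot_iff.1 (hIle ⊥ inferInstance))
  · left
    set Z := centralizer (L : Set (H ⧸ O)) with hZ
    haveI : Z.Normal := inferInstance
    haveI hLsimple := hpsl.isSimpleGroup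
    have hZcard : Nat.card Z = 2 := by
      by_contra hne
      have := Nat.card_pos (α := Z)
      have h1 : Z = ⊥ := Subgroup.eq_bot_of_card_le Z (by
        have hC2' : Nat.card Z ≤ 2 := hC2
        omega)
      rw [h1, sup_bot_eq] at hidx
      obtain ⟨-, h4⟩ := PSLOdd.sq_of_twoGroup hpsl hidx
        (P := (SH : Subgroup H).map π) (SH.isPGroup'.map π)
      have hinjS : Function.Injective (π.comp (SH : Subgroup H).subtype) :=
        (MonoidHom.ker_eq_bot_iff _).1 (eq_bot_iff.2 fun s hs =>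
          mem_bot.2 (Subtype.ext (hπne _ s.2 hs)))
      have hr : (SH : Subgroup H).map π = (π.comp (SH : Subgroup H).subtype).range := by
        rw [MonoidHom.range_eq_map, ← map_map, ← MonoidHom.range_eq_map, range_subtype]
      rw [hr, ← Nat.card_congr (MonoidHom.ofInjective hinjS).toEquiv,
        hcard8] at h4
      omega
    haveI hZsol : Group.IsSolvable Z := by
      haveI : IsCyclic Z := isCyclic_of_prime_card (p := 2) hZcard
      exact Group.isSolvable_of_comm fun a b => by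
        letI := IsCyclic.commGroup (α := Z)
        exact mul_comm a b
    have hIL : I = L := hsame L hLsimple (hIle L (isSolvable_quotient_of_odd L Z hidx))
    have hdis : ∀ q ∈ L, q ∈ Z → q = 1 := fun q hqL hqZ => by
      have : (⟨q, hqL⟩ : L) ∈ Subgroup.center L := Subgroup.mem_center_iff.2 fun y =>
        Subtype.ext (mem_centralizer_iff.1 hqZ y y.2)
      rw [hpsl.center_eq_bot, mem_bot] at this
      exact congrArg Subtype.val this
    -- the central involution
    obtain ⟨q0, hq0⟩ := exists_prime_orderOf_dvd_card' (G := Z) 2 (dvd_of_eq hZcard.symm)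
    rw [← orderOf_coe] at hq0
    have hZeq : ∀ q ∈ Z, q = 1 ∨ q = q0 := by
      intro q hq
      have h := eq_of_le_of_card_ge (zpowers_le.2 q0.2) (by rw [Nat.card_zpowers, hq0, hZcard])
      obtain ⟨i, rfl⟩ : q ∈ zpowers (q0 : H ⧸ O) := h.ge hq
      rcases Int.even_or_odd' i with ⟨j, rfl | rfl⟩
      · left
        show (q0 : H ⧸ O) ^ (2 * j) = 1
        rw [zpow_mul, zpow_two, Small.mul_self_of_orderOf_two hq0, one_zpow]
      · right
        show (q0 : H ⧸ O) ^ (2 * j + 1) = q0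
        rw [zpow_add, zpow_mul, zpow_two, Small.mul_self_of_orderOf_two hq0, one_zpow, one_mul,
          zpow_one]
    have hcen : ∀ q : H ⧸ O, q * q0 = q0 * q := fun q => by
      rcases hZeq _ ((inferInstance : Z.Normal).conj_mem _ q0.2 q) with h | h
      · exact absurd (conj_eq_one_iff.1 h) (Small.ne_one_of_orderOf_two hq0)
      · exact mul_inv_eq_iff_eq_mul.1 h
    obtain ⟨x0, -, hx0, hxq⟩ := GW.exists_lift_inv (π := π) (K := ⊤)
      (by rw [hπ, QuotientGroup.ker_mk']; exact hOodd) (q := (q0 : H ⧸ O))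
      (by rw [map_top_of_surjective _ (QuotientGroup.mk'_surjective _)]; exact mem_top _) hq0
    obtain ⟨g, hg⟩ := hG.exists_lift_sylow S hSH (Small.mul_self_of_orderOf_two hx0)
    set cH : H := g * x0 * g⁻¹ with hcH
    have hπc : π cH = q0 := by
      rw [hcH, map_mul, map_mul, map_inv, hxq, hcen, mul_inv_cancel_right]
    have hcS : cH ∈ (SH : Subgroup H) := hg
    have hc2 : cH * cH = 1 := hS2 cH hcS
    have hcne : cH ≠ 1 := fun h => Small.ne_one_of_orderOf_two hq0 (by rw [← hπc, h, map_one])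
    -- exactness
    set Kz : Subgroup E := (O.subgroupOf E) with hKz
    have hKzc : Kz ≤ Subgroup.center E := fun k hk => Subgroup.mem_center_iff.2 fun y =>
      Subtype.ext (GW.OS.commute_layer_oddCore y.2 (mem_subgroupOf.1 hk)).eq
    have hKzo : Odd (Nat.card Kz) := hOodd.of_dvd_nat
      (card_comap_dvd_of_injective O E.subtype E.subtype_injective)
    obtain ⟨F, iF, fF, h8, h5, ⟨eF⟩⟩ := id hpsl
    have hρ : (π.comp E.subtype).ker = Kz := by
      ext k
      exact QuotientGroup.eq_one_iff (k : H)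
    have hρr : (π.comp E.subtype).range = L := by
      rw [MonoidHom.range_eq_map, ← map_map, ← MonoidHom.range_eq_map, range_subtype]
      exact hIL
    have hKz1 : Kz = ⊥ := by
      refine GW.center_odd_trivial (K := E) ?_ hKzc hKzo (F := F) (Nat.odd_iff.2 (by omega))
        (by omega) (by omega) ((QuotientGroup.quotientMulEquivOfEq hρ.symm).trans
          ((QuotientGroup.quotientKerEquivRange _).trans ((MulEquiv.subgroupCongr hρr).trans eF)))
      exact ⟨map_injective E.subtype_injective (by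
        rw [map_subtype_commutator, ← MonoidHom.range_eq_map, range_subtype]; exact hperf)⟩
    have hinj : ∀ k : H, k ∈ E → π k = 1 → k = 1 := fun k hk h => by
      have : (⟨k, hk⟩ : E) ∈ Kz := (QuotientGroup.eq_one_iff k).1 h
      rw [hKz1, mem_bot] at this
      exact congrArg Subtype.val this
    have hEL : ∀ k : H, k ∈ E → π k ∈ L := fun k hk => hIL.le ⟨k, hk, rfl⟩
    have hnc : cH ∉ E := fun h => Small.ne_one_of_orderOf_two hq0
      (hdis _ (hπc ▸ hEL cH h) q0.2)
    have hcomm : ∀ k : H, k ∈ E → k * cH = cH * k := fun k hk => by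
      have h1 : k * cH * k⁻¹ * cH⁻¹ = 1 := by
        refine hinj _ ?_ ?_
        · rw [show k * cH * k⁻¹ * cH⁻¹ = k * (cH * k⁻¹ * cH⁻¹) by group]
          exact mul_mem hk ((inferInstance : E.Normal).conj_mem _ (inv_mem hk) cH)
        · rw [map_mul, map_mul, map_mul, map_inv, map_inv, hπc, hcen]
          group
      calc k * cH = k * cH * k⁻¹ * cH⁻¹ * (cH * k) := by group
        _ = cH * k := by rw [h1, one_mul]
    -- the intersection with `S`
    have hdec : ∀ s : H, s ∈ (SH : Subgroup H) → s ∈ E ∨ cH * s ∈ E := by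
      intro s hs
      have h1 := hSimg (L ⊔ Z) hidx s hs
      rw [← SetLike.mem_coe, normal_mul] at h1
      obtain ⟨l, hl, w, hw, hlw⟩ := h1
      have key : ∀ t : H, t ∈ (SH : Subgroup H) → π t ∈ L → t ∈ E := fun t ht htL =>
        mem_of_mk_mem hOodd (hS2 t ht) (show π t ∈ I from hIL.ge htL)
      rcases hZeq w hw with rfl | rfl
      · left
        exact key s hs (by rw [← hlw]; simpa using hl)
      · right
        refine key _ (mul_mem hcS hs) ?_
        rw [map_mul, hπc, ← hlw, ← hcen, mul_assoc, Small.mul_self_of_orderOf_two hq0, mul_one]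
        exact hl
    obtain ⟨s1, s2, hs1, hs2, h1E, h2E, hs11, hs21, hs12⟩ : ∃ s1 s2 : H,
        s1 ∈ (SH : Subgroup H) ∧ s2 ∈ (SH : Subgroup H) ∧ s1 ∈ E ∧ s2 ∈ E ∧ s1 ≠ 1 ∧ s2 ≠ 1 ∧
          s1 ≠ s2 := by
      by_contra hno
      push Not at hno
      let U : Set H := {s | s ∈ (SH : Subgroup H) ∧ s ∈ E}
      have hU : U.ncard ≤ 2 := by
        by_cases hex : ∃ a ∈ U, a ≠ 1
        · obtain ⟨a, ha, ha1⟩ := hex
          refine le_trans (Set.ncard_le_ncard (t := {1, a}) (fun b hb => ?_)) (Set.ncard_pair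
            (Ne.symm ha1)).le
          by_cases hb1 : b = 1
          · exact Or.inl hb1
          · exact Or.inr (hno a b ha.1 hb.1 ha.2 hb.2 ha1 hb1).symm
        · push Not at hex
          exact le_trans (Set.ncard_le_ncard (t := {1}) (fun b hb => hex b hb)) (by simp)
      have hsub : ((SH : Subgroup H) : Set H) ⊆ U ∪ (cH * ·) '' U := fun s hs => by
        rcases hdec s hs with h | h
        · exact Or.inl ⟨hs, h⟩
        · exact Or.inr ⟨cH * s, ⟨mul_mem hcS hs, h⟩,
            show cH * (cH * s) = s by rw [← mul_assoc, hc2, one_mul]⟩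
      have h8' := (Set.ncard_le_ncard hsub (Set.toFinite _)).trans (Set.ncard_union_le _ _)
      rw [Set.ncard_image_of_injective _ (mul_right_injective cH), ← Nat.card_coe_set_eq] at h8'
      change Nat.card (SH : Subgroup H) ≤ _ at h8'
      rw [hcard8] at h8'
      omega
    -- modulo the central involution
    set Zc := zpowers (q0 : H ⧸ O) with hZc
    haveI : Zc.Normal := ⟨fun x hx q => by
      obtain ⟨i, rfl⟩ := hx
      show q * (q0 : H ⧸ O) ^ i * q⁻¹ ∈ Zc
      rw [(Commute.zpow_right (show Commute q (q0 : H ⧸ O) from hcen q) i).eq, mul_inv_cancel_right]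
      exact zpow_mem (mem_zpowers _) i⟩
    have hZZ : Z = Zc :=
      (eq_of_le_of_card_ge (zpowers_le.2 q0.2) (by rw [Nat.card_zpowers, hq0, hZcard])).symm
    set ρ := QuotientGroup.mk' Zc with hρd
    set L' := L.map ρ with hL'
    haveI : L'.Normal := Normal.map inferInstance _ (QuotientGroup.mk'_surjective _)
    have hinj' : Function.Injective (ρ.comp L.subtype) := by
      refine (MonoidHom.ker_eq_bot_iff _).1 (eq_bot_iff.2 fun x hx => mem_bot.2 (Subtype.ext ?_))
      exact hdis _ x.2 (hZZ ▸ (QuotientGroup.eq_one_iff (x : H ⧸ O)).1 hx)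
    have eL : L ≃* L' := (MonoidHom.ofInjective hinj').trans (MulEquiv.subgroupCongr (by
      rw [MonoidHom.range_eq_map, ← map_map, ← MonoidHom.range_eq_map, range_subtype]))
    have hpsl' : IsPSLOdd L' := ⟨F, iF, fF, h8, h5, ⟨eL.symm.trans eF⟩⟩
    have hC' : centralizer (L' : Set ((H ⧸ O) ⧸ Zc)) = ⊥ := by
      refine eq_bot_iff.2 fun q hq => mem_bot.2 ?_
      obtain ⟨y, rfl⟩ := QuotientGroup.mk_surjective q
      refine (QuotientGroup.eq_one_iff y).2 (hZZ ▸ mem_centralizer_iff.2 fun l hl => ?_)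
      have hcom : ρ l * ρ y = ρ y * ρ l := mem_centralizer_iff.1 hq (ρ l) ⟨l, hl, rfl⟩
      have h1 : ρ (l * y * l⁻¹ * y⁻¹) = 1 := by
        rw [map_mul, map_mul, map_mul, map_inv, map_inv, hcom]
        group
      have h2 := hdis (l * y * l⁻¹ * y⁻¹) (by
        rw [show l * y * l⁻¹ * y⁻¹ = l * (y * l⁻¹ * y⁻¹) by group]
        exact mul_mem hl (hLn.conj_mem _ (inv_mem hl) y))
        (hZZ ▸ (QuotientGroup.eq_one_iff _).1 h1)
      calc l * y = l * y * l⁻¹ * y⁻¹ * (y * l) := by group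
        _ = y * l := by rw [h2, one_mul]
    have hi' : Odd L'.index := by
      rw [hL', Subgroup.index_map, hρd, QuotientGroup.ker_mk', MonoidHom.range_eq_top.2
        (QuotientGroup.mk'_surjective _), index_top, mul_one, ← hZZ]
      exact hidx
    set θ := ρ.comp π with hθ
    have hθinj : ∀ k : H, k ∈ E → θ k = 1 → k = 1 := fun k hk h =>
      hinj k hk (hdis _ (hEL k hk) (hZZ ▸ (QuotientGroup.eq_one_iff (π k)).1 h))
    obtain ⟨A, -, -, hA4, hAmem, hA1, hA2⟩ := GW.OS.exists_fourGroup (z := θ s1) (b := θ s2)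
      (Small.orderOf_eq_two_iff_sq.2 ⟨fun h => hs11 (hθinj _ h1E h),
        by rw [← map_mul, hS2 s1 hs1, map_one]⟩)
      (Small.orderOf_eq_two_iff_sq.2 ⟨fun h => hs21 (hθinj _ h2E h),
        by rw [← map_mul, hS2 s2 hs2, map_one]⟩)
      ((show Commute s1 s2 from Subtype.ext (hG.sylow_comm S hs1 hs2).eq).map θ)
      (fun h => hs12 (inv_mul_eq_one.1 (hθinj _ (mul_mem (inv_mem h1E) h2E)
        (by rw [map_mul, map_inv, h, inv_mul_cancel]))).symm.symm)
    have hAL : A ≤ L' := by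
      intro a ha
      rcases hAmem a ha with rfl | rfl | rfl | rfl
      exacts [one_mem _, ⟨_, hEL _ h1E, rfl⟩, ⟨_, hEL _ h2E, rfl⟩,
        mul_mem ⟨_, hEL _ h1E, rfl⟩ ⟨_, hEL _ h2E, rfl⟩]
    obtain ⟨d', hd'L, -, hd'n, hd1, hd2⟩ := PSLOdd.exists_cycle hpsl' hC' hi' hAL hA4
      (v := θ s1) (w := θ s2) hA1 (fun h => hs11 (hθinj _ h1E h)) hA2
      (fun h => hs21 (hθinj _ h2E h)) (fun h => hs12 (inv_mul_eq_one.1
        (hθinj _ (mul_mem (inv_mem h1E) h2E) (by rw [map_mul, map_inv, h, inv_mul_cancel]))))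
    obtain ⟨q, hq, rfl⟩ := hd'L
    obtain ⟨d, hdE, rfl⟩ : q ∈ E.map π := hIL.ge hq
    have hconj : ∀ a b : H, a ∈ E → b ∈ E → θ d * θ a * (θ d)⁻¹ = θ b → d * a * d⁻¹ = b := by
      intro a b ha hb h
      refine (inv_mul_eq_one.1 (hθinj _ (mul_mem (inv_mem hb) (mul_mem (mul_mem hdE ha)
        (inv_mem hdE))) ?_)).symm
      rw [map_mul, map_inv, map_mul, map_mul, map_inv, h, inv_mul_cancel]
    have e1 : d * s1 * d⁻¹ = s2 := hconj _ _ h1E h2E hd1
    have e2 : d * s2 * d⁻¹ = s1 * s2 := hconj _ _ h2E (mul_mem h1E h2E)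
      (hd2.trans (map_mul θ _ _).symm)
    have e3 : d * (s1 * s2) * d⁻¹ = s1 := by
      rw [show d * (s1 * s2) * d⁻¹ = d * s1 * d⁻¹ * (d * s2 * d⁻¹) by group, e1, e2,
        ← mul_assoc, show s2 * s1 = s1 * s2 from Subtype.ext (hG.sylow_comm S hs2 hs1).eq,
        mul_assoc, hS2 s2 hs2, mul_one]
    -- the Klein group `S ∩ E`
    have hU : ∀ s : H, s ∈ (SH : Subgroup H) → s ∈ E →
        s = 1 ∨ s = s1 ∨ s = s2 ∨ s = s1 * s2 := by
      intro s hs hsE
      by_contra hne
      push Not at hne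
      let U : Set H := {1, s1, s2, s1 * s2, s}
      have hU5 : U.ncard = 5 := by
        have h12 : s1 * s2 ≠ 1 := fun h => hs12 (by
          rw [← mul_one s1, ← hS2 s2 hs2, ← mul_assoc, h, one_mul])
        rw [Set.ncard_insert_of_notMem, Set.ncard_insert_of_notMem, Set.ncard_insert_of_notMem,
          Set.ncard_insert_of_notMem, Set.ncard_singleton]
        · simpa using Ne.symm hne.2.2.2
        · simp only [Set.mem_insert_iff, Set.mem_singleton_iff, not_or]
          exact ⟨fun h => hs11 (by simpa using h.symm), Ne.symm hne.2.2.1⟩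
        · simp only [Set.mem_insert_iff, Set.mem_singleton_iff, not_or]
          exact ⟨hs12, fun h => hs21 (by simpa using h.symm), Ne.symm hne.2.1⟩
        · simp only [Set.mem_insert_iff, Set.mem_singleton_iff, not_or]
          exact ⟨Ne.symm hs11, Ne.symm hs21, Ne.symm h12, Ne.symm hne.1⟩
      have hUE : ∀ v ∈ U, v ∈ (SH : Subgroup H) ∧ v ∈ E := by
        rintro v (rfl | rfl | rfl | rfl | rfl)
        exacts [⟨one_mem _, one_mem _⟩, ⟨hs1, h1E⟩, ⟨hs2, h2E⟩,
          ⟨mul_mem hs1 hs2, mul_mem h1E h2E⟩, ⟨hs, hsE⟩]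
      have hdj : Disjoint U ((cH * ·) '' U) := by
        refine Set.disjoint_left.2 fun v hv hv' => ?_
        obtain ⟨w, hw, rfl⟩ := hv'
        exact hnc ((mul_mem_cancel_right (hUE w hw).2).1 (hUE _ hv).2)
      have hsub : U ∪ (cH * ·) '' U ⊆ ((SH : Subgroup H) : Set H) := by
        rintro v (hv | ⟨w, hw, rfl⟩)
        exacts [(hUE v hv).1, mul_mem hcS (hUE w hw).1]
      have h8' := Set.ncard_le_ncard hsub (Set.toFinite _)
      rw [Set.ncard_union_eq hdj, Set.ncard_image_of_injective _ (mul_right_injective cH), hU5,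
        ← Nat.card_coe_set_eq] at h8'
      change 5 + 5 ≤ Nat.card (SH : Subgroup H) at h8'
      rw [hcard8] at h8'
      omega
    have hdc : d * cH * d⁻¹ = cH := by rw [hcomm d hdE, mul_inv_cancel_right]
    have hdS : ∀ s : H, s ∈ (SH : Subgroup H) → d * s * d⁻¹ ∈ (SH : Subgroup H) := by
      have key : ∀ s : H, s ∈ (SH : Subgroup H) → s ∈ E → d * s * d⁻¹ ∈ (SH : Subgroup H) := by
        intro s hs hsE
        rcases hU s hs hsE with rfl | rfl | rfl | rfl
        · simp
        · rw [e1]; exact hs2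
        · rw [e2]; exact mul_mem hs1 hs2
        · rw [e3]; exact hs1
      intro s hs
      rcases hdec s hs with h | h
      · exact key s hs h
      · have h' := key _ (mul_mem hcS hs) h
        rw [show d * (cH * s) * d⁻¹ = d * cH * d⁻¹ * (d * s * d⁻¹) by group, hdc] at h'
        exact (mul_mem_cancel_left hcS).1 h'
    have hdN : (d : G) ∈ normalizer ((S : Subgroup G) : Set G) :=
      mem_normalizer_fintype fun s hs => hdS ⟨s, hSH hs⟩ hs
    have hrot : Rot S (cH : G) (d : G) :=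
      ⟨hcS, fun h => hcne (Subtype.ext h), hdN, congrArg Subtype.val (hcomm d hdE), (s1 : G), hs1,
        fun h => hs12 (by
          rw [← e1]
          exact (Subtype.ext (commute_iff_conj.1 h)).symm)⟩
    refine ⟨(cH : G), ⟨map_subtype_le _, le_normalizer_layerOf H, ⟨F, iF, fF, h8, h5, ⟨?_⟩⟩,
      layerOf_le_centralizer H, hcS, fun ⟨k, hk, he⟩ => hnc (Subtype.ext he ▸ hk), ?_, ?_, ?_, ?_,
      ⟨(d : G), ⟨d, hdE, rfl⟩, hrot, ?_, ?_⟩⟩⟩
    · refine (E.equivMapOfInjective H.subtype H.subtype_injective).symm.trans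
        ((MonoidHom.ofInjective (f := π.comp E.subtype)
          ((MonoidHom.ker_eq_bot_iff _).1 (hρ.trans hKz1))).trans
          ((MulEquiv.subgroupCongr hρr).trans eF))
    · rintro _ ⟨k, hk, rfl⟩
      exact mem_centralizer_singleton_iff.2 (congrArg Subtype.val (hcomm k hk))
    · intro n hn h1
      have h2 : π ((⟨n, hn⟩ : H) * cH * ⟨n, hn⟩⁻¹ * cH⁻¹) = 1 := by
        rw [map_mul, map_mul, map_mul, map_inv, map_inv, hπc, hcen]
        group
      exact mul_inv_eq_one.1 (congrArg Subtype.val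
        (hπne ((⟨n, hn⟩ : H) * cH * ⟨n, hn⟩⁻¹ * cH⁻¹) (mul_mem h1 (inv_mem hcS)) h2))
    · intro P hP hPP s hs hsP
      refine ⟨⟨s, hP hsP⟩, ?_, rfl⟩
      have hperf' : ⁅P.subgroupOf H, P.subgroupOf H⁆ = P.subgroupOf H := by
        apply map_injective H.subtype_injective
        rw [map_commutator, map_subgroupOf_eq_of_le hP, hPP]
      haveI := isSolvable_quotient_of_odd L Z hidx
      obtain ⟨m, hm⟩ := (Group.isSolvable_def (G := (H ⧸ O) ⧸ L)).1 inferInstance
      have hall : ∀ k, (P.subgroupOf H).map ((QuotientGroup.mk' L).comp π) ≤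
          derivedSeries ((H ⧸ O) ⧸ L) k := by
        intro k
        induction k with
        | zero => exact le_top
        | succ k ih =>
          rw [derivedSeries_succ, ← hperf', map_commutator]
          exact commutator_mono ih ih
      have h1 : π ⟨s, hP hsP⟩ ∈ L := by
        rw [← QuotientGroup.eq_one_iff, ← mem_bot, ← hm]
        exact hall m ⟨⟨s, hP hsP⟩, hsP, rfl⟩
      exact mem_of_mk_mem hOodd (hS2 _ hs) (show π _ ∈ I from hIL.ge h1)
    · intro x hx hox hinv
      refine ⟨⟨x, hx⟩, (QuotientGroup.eq_one_iff _).1 ?_, rfl⟩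
      have h1 : π (cH * ⟨x, hx⟩ * cH⁻¹) = (π ⟨x, hx⟩)⁻¹ := by
        rw [← map_inv]
        exact congrArg π (Subtype.ext hinv)
      rw [map_mul, map_mul, map_inv, hπc, ← hcen, mul_inv_cancel_right] at h1
      have h2 : π ⟨x, hx⟩ * π ⟨x, hx⟩ = 1 := by
        nth_rw 2 [h1]
        exact mul_inv_cancel _
      exact eq_one_of_odd_of_sq (hox.of_dvd_nat ((orderOf_map_dvd π ⟨x, hx⟩).trans
        (by rw [← orderOf_coe]))) h2
    · intro s hs
      constructor
      · rintro ⟨k, hk, rfl⟩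
        rcases hU k hs hk with h | h | h | h <;> rw [h]
        · exact ⟨1, one_mem _, by simp⟩
        · exact ⟨(s2 : G), hs2, congrArg Subtype.val (show d * s2 * d⁻¹ * s2 = s1 by
            rw [e2, mul_assoc, hS2 s2 hs2, mul_one])⟩
        · exact ⟨((s1 * s2 : H) : G), mul_mem hs1 hs2, congrArg Subtype.val (show
            d * (s1 * s2) * d⁻¹ * (s1 * s2) = s2 by rw [e3, ← mul_assoc, hS2 s1 hs1, one_mul])⟩
        · exact ⟨(s1 : G), hs1, congrArg Subtype.val (show d * s1 * d⁻¹ * s1 = s1 * s2 by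
            rw [e1]; exact Subtype.ext (hG.sylow_comm S hs2 hs1).eq)⟩
      · rintro ⟨r, hr, rfl⟩
        refine ⟨d * ⟨r, hSH hr⟩ * d⁻¹ * ⟨r, hSH hr⟩, ?_, rfl⟩
        rw [show d * ⟨r, hSH hr⟩ * d⁻¹ * ⟨r, hSH hr⟩ = d * (⟨r, hSH hr⟩ * d⁻¹ * ⟨r, hSH hr⟩⁻¹) *
          (⟨r, hSH hr⟩ * ⟨r, hSH hr⟩) by group, hS2 ⟨r, hSH hr⟩ hr, mul_one]
        exact mul_mem hdE ((inferInstance : E.Normal).conj_mem _ (inv_mem hdE) _)
    · intro w hw how hwS
      set wH : H := ⟨w, hw⟩
      have hwA : θ wH ∈ centralizer (A : Set ((H ⧸ O) ⧸ Zc)) := mem_centralizer_iff.2 fun a ha => by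
        rcases hAmem a ha with rfl | rfl | rfl | rfl
        · rw [one_mul, mul_one]
        · rw [← map_mul, ← map_mul]; exact congrArg θ (Subtype.ext (hwS _ hs1).eq.symm)
        · rw [← map_mul, ← map_mul]; exact congrArg θ (Subtype.ext (hwS _ hs2).eq.symm)
        · rw [← map_mul θ s1 s2, ← map_mul, ← map_mul]
          exact congrArg θ (Subtype.ext (hwS _ (mul_mem hs1 hs2)).eq.symm)
      have h := PSLOdd.commute_normalizer hpsl' hC' hi' hAL hA4 hwA
        (how.of_dvd_nat ((orderOf_map_dvd θ wH).trans (by rw [← orderOf_coe])))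
        ⟨π d, hEL d hdE, rfl⟩ hd'n
      have h1 : d * wH * d⁻¹ * wH⁻¹ = 1 := by
        refine hθinj _ ?_ ?_
        · rw [show d * wH * d⁻¹ * wH⁻¹ = d * (wH * d⁻¹ * wH⁻¹) by group]
          exact mul_mem hdE ((inferInstance : E.Normal).conj_mem _ (inv_mem hdE) _)
        · have h' : θ d * θ wH = θ wH * θ d := h.symm.eq
          rw [map_mul, map_mul, map_mul, map_inv, map_inv, h']
          group
      show (d : G) * w = w * d
      exact congrArg Subtype.val (show d * wH = wH * d by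
        calc d * wH = d * wH * d⁻¹ * wH⁻¹ * (wH * d) := by group
          _ = wH * d := by rw [h1, one_mul])
  · right
    haveI hLs : IsSimpleGroup L := by
      rcases hjr with ⟨F, iF, fF, h8, ⟨e⟩⟩ | ⟨hs, -⟩
      · haveI := Linear.isSimpleGroup_PSL_of (F := F) 2 le_rfl (fun _ => by omega)
        haveI := e.toEquiv.nontrivial
        exact IsSimpleGroup.isSimpleGroup_of_surjective e.symm.toMonoidHom e.symm.surjective
      · exact hs
    haveI : Group.IsSolvable ((H ⧸ O) ⧸ L) :=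
      Cfsg.Agent.S0205.result (by rw [← index_eq_card]; exact hidx)
    have hIL : I = L := hsame L hLs (hIle L inferInstance)
    have hsyl : ∀ s, (hs : s ∈ (S : Subgroup G)) → (⟨s, hSH hs⟩ : H) ∈ E := fun s hs =>
      mem_of_mk_mem hOodd (hS2 _ hs) (show π _ ∈ I from hIL.ge (hSimg L hidx _ hs))
    refine ⟨map_subtype_le _, fun s hs => ⟨_, hsyl s hs, rfl⟩, layerOf_le_centralizer H,
      fun z hz hz1 W hW hWn hWo w hw s hs => ?_⟩
    set zH : H := ⟨z, hSH hz⟩
    set sH : H := ⟨s, hSH hs⟩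
    have hWC : ∀ y ∈ W, y * z = z * y := fun y hy => mem_centralizer_singleton_iff.1 (hW hy).2
    have hsC : s ∈ H ⊓ centralizer ({z} : Set G) :=
      ⟨hSH hs, mem_centralizer_singleton_iff.2 (hG.sylow_comm S hs hz).eq⟩
    set x := w⁻¹ * (s * w * s⁻¹) with hxd
    have hxW : x ∈ W := mul_mem (inv_mem hw) ((mem_normalizer_iff.1 (hWn hsC) w).1 hw)
    have hinv : GW.OS.Inverts s x := by
      show s * x * s⁻¹ = x⁻¹
      rw [hxd, show s * (w⁻¹ * (s * w * s⁻¹)) * s⁻¹ = s * w⁻¹ * s⁻¹ * ((s * s) * w * (s * s)⁻¹) by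
        group, hG.sq S s hs]
      group
    set Y := ((W.subgroupOf H).map π).subgroupOf L with hY
    have hzL : π zH ∈ L := hSimg L hidx _ hz
    have hzo : orderOf (⟨π zH, hzL⟩ : L) = 2 := by
      rw [Subgroup.orderOf_mk]
      refine Small.orderOf_eq_two_iff_sq.2 ⟨fun h => hz1 (congrArg Subtype.val (hπne _ hz h)), ?_⟩
      rw [← map_mul, hS2 zH hz, map_one]
    have hWHo : Odd (Nat.card ((W.subgroupOf H).map π)) := by
      refine Odd.of_dvd_nat ?_ (card_map_dvd _ _)
      rwa [Nat.card_congr (subgroupOfEquivOfLe fun y hy => (hW hy).1).toEquiv]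
    have hYbot : Y = ⊥ := by
      refine eq_bot_of_odd_normal hjr hzo ?_ ?_ (hWHo.of_dvd_nat
        (card_comap_dvd_of_injective _ L.subtype L.subtype_injective))
      · rintro ⟨y, hyL⟩ ⟨k, hk, rfl⟩
        refine mem_centralizer_singleton_iff.2 (Subtype.ext ?_)
        show π k * π zH = π zH * π k
        rw [← map_mul, ← map_mul]
        exact congrArg π (Subtype.ext (hWC _ hk))
      · intro t ht
        obtain ⟨k, hkz, hkt⟩ := hlift zH (by rw [← orderOf_coe]; exact hG.orderOf_sylow S hz hz1) t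
          (congrArg Subtype.val (mem_centralizer_singleton_iff.1 ht))
        refine mem_normalizer_fintype fun y hy => ?_
        obtain ⟨a, ha, he⟩ := hy
        refine ⟨k * a * k⁻¹, ?_, ?_⟩
        · exact (mem_normalizer_iff.1 (hWn ⟨k.2, mem_centralizer_singleton_iff.2
            (congrArg Subtype.val hkz)⟩) _).1 ha
        · rw [map_mul, map_mul, map_inv, hkt, he]; rfl
    have hxH : x ∈ H := (hW hxW).1
    have hox : Odd (orderOf x) := hWo.of_dvd_nat (W.orderOf_dvd_natCard hxW)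
    have hπx : π ⟨x, hxH⟩ ∈ L := by
      refine mem_of_inverts_mem (hSimg L hidx sH hs) ?_ (hox.of_dvd_nat
        ((orderOf_map_dvd π ⟨x, hxH⟩).trans (by rw [← orderOf_coe])))
      show π sH * π ⟨x, hxH⟩ * (π sH)⁻¹ = (π ⟨x, hxH⟩)⁻¹
      rw [← map_inv, ← map_mul, ← map_mul, ← map_inv]
      exact congrArg π (Subtype.ext hinv)
    have hone : π ⟨x, hxH⟩ = 1 := by
      have : (⟨π ⟨x, hxH⟩, hπx⟩ : L) ∈ Y := ⟨⟨x, hxH⟩, hxW, rfl⟩
      rw [hYbot, mem_bot] at this
      exact congrArg Subtype.val this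
    have hsx : Commute s x := (mem_centralizer_iff.1 (layerOf_le_centralizer H
      ⟨_, hsyl s hs, rfl⟩) x ⟨⟨x, hxH⟩, (QuotientGroup.eq_one_iff _).1 hone, rfl⟩).symm
    have hx1 : x = 1 := hinv.eq_one hsx hox
    show w * s = s * w
    rw [hxd, inv_mul_eq_one] at hx1
    nth_rw 1 [hx1]
    group

end Minimal

end CfsgLib.Walter
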