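import Cfsg.Agent.Walter.Basic
import Cfsg.Agent.S0205
import Cfsg.Agent.DGroupCent.Fpf

/-!
# Walter, rank three: rotations of a Sylow 2-subgroup and their lines

A rotation of `S` at `c` is an element of `N(S) ∩ C(c)` that does not centralise `S`.  It fixes only
`1` and `c` in `S`; its line is the four-group of the `n s n⁻¹ s`, on which it cycles the
involutions.  With nonsolvable centralisers every involution has rotations, its line depends on it
alone, and every four-group of `S` is the line of exactly one involution.  So two commuting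
involutions `z`, `b` have a cycle `z → b → zb`; of two involutions at most one is on the other's line.
-/

set_option autoImplicit false
set_option linter.style.haveILetI false
set_option linter.unusedSectionVars false

open Subgroup

namespace CfsgLib.Walter

universe u

variable {G : Type u} [Group G] [Finite G]

/-- A rotation of `S` at `c`. -/
structure Rot (S : Sylow 2 G) (c n : G) : Prop where
  mem : c ∈ (S : Subgroup G)
  ne : c ≠ 1
  norm : n ∈ normalizer ((S : Subgroup G) : Set G)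
  comm : Commute n c
  moves : ∃ s ∈ (S : Subgroup G), ¬ Commute n s

theorem Rot.conj_mem {S : Sylow 2 G} {c n : G} (h : Rot S c n) {s : G}
    (hs : s ∈ (S : Subgroup G)) : n * s * n⁻¹ ∈ (S : Subgroup G) :=
  (mem_normalizer_iff.1 h.norm s).1 hs

/-- An element of a line: some `n s n⁻¹ s`. -/
def OnLine (S : Sylow 2 G) (n x : G) : Prop :=
  ∃ s ∈ (S : Subgroup G), n * s * n⁻¹ * s = x

theorem commute_iff_conj {n s : G} : Commute n s ↔ n * s * n⁻¹ = s :=
  ⟨fun h => by rw [h.eq, mul_inv_cancel_right], fun h => mul_inv_eq_iff_eq_mul.1 h⟩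

namespace Minimal

variable (hG : Minimal G)
include hG

theorem isMulCommutative_sylow (S : Sylow 2 G) : IsMulCommutative (S : Subgroup G) :=
  ⟨⟨fun a b => Subtype.ext (hG.sylow_comm S a.2 b.2).eq⟩⟩

/-- An element of `N(S)` whose square fixes an element of `S` fixes it. -/
theorem fix_of_sq (S : Sylow 2 G) {n s : G} (hn : n ∈ normalizer ((S : Subgroup G) : Set G))
    (hs : s ∈ (S : Subgroup G)) (h : n * (n * s * n⁻¹) * n⁻¹ = s) : n * s * n⁻¹ = s := by
  haveI := hG.isMulCommutative_sylow S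
  refine commute_iff_conj.1 (Inv53.fix_of_sq_fix S hn hs (commute_iff_conj.2 ?_))
  rw [mul_inv_rev]
  simpa only [mul_assoc] using h

/-- An element of `N(S)` trivial on a subgroup and on the quotient by it centralises `S`. -/
theorem commute_of_shift (S : Sylow 2 G) {n s : G} (hn : n ∈ normalizer ((S : Subgroup G) : Set G))
    (hs : s ∈ (S : Subgroup G)) (h : Commute n (n * s * n⁻¹ * s)) : Commute n s := by
  refine commute_iff_conj.2 (hG.fix_of_sq S hn hs ?_)
  have hss := hG.sq S s hs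
  have e := commute_iff_conj.1 h
  have hns : n * s * n⁻¹ * (n * s * n⁻¹) = 1 := by
    rw [show n * s * n⁻¹ * (n * s * n⁻¹) = n * (s * s) * n⁻¹ by group, hss, mul_one, mul_inv_cancel]
  calc n * (n * s * n⁻¹) * n⁻¹
      = n * (n * s * n⁻¹ * s) * n⁻¹ * (n * s * n⁻¹)⁻¹ := by group
    _ = n * s * n⁻¹ * s * (n * s * n⁻¹)⁻¹ := by rw [e]
    _ = s := by
      rw [inv_eq_of_mul_eq_one_right hns, (hG.sylow_comm S ((mem_normalizer_iff.1 hn s).1 hs) hs).eq,
        mul_assoc, hns, mul_one]

variable {S : Sylow 2 G} {c n : G}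

/-- A rotation fixes only `1` and its centre. -/
theorem rot_fixed (h : Rot S c n) {s : G} (hs : s ∈ (S : Subgroup G)) (hns : Commute n s) :
    s = 1 ∨ s = c := by
  haveI : Fact (Nat.Prime 2) := ⟨Nat.prime_two⟩
  by_contra hsc
  push Not at hsc
  obtain ⟨x, hx, hnx⟩ := h.moves
  let F : Subgroup G := (S : Subgroup G) ⊓ centralizer ({n} : Set G)
  have memF : ∀ y, y ∈ F ↔ y ∈ (S : Subgroup G) ∧ Commute n y := fun y => by
    rw [mem_inf, mem_centralizer_singleton_iff]
    exact and_congr_right fun _ => ⟨fun e => e.symm, fun e => e.symm⟩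
  have hxF : x ∉ F := fun hh => hnx ((memF x).1 hh).2
  have hF4 : 4 ≤ Nat.card F := by
    have hsub : ({1, c, s, c * s} : Set G) ⊆ (F : Set G) := by
      rintro y (rfl | rfl | rfl | rfl)
      exacts [one_mem F, (memF _).2 ⟨h.mem, h.comm⟩, (memF _).2 ⟨hs, hns⟩,
        (memF _).2 ⟨mul_mem h.mem hs, h.comm.mul_right hns⟩]
    have hcs : c * s ≠ 1 := fun e => hsc.2 (by
      rw [← inv_eq_of_mul_eq_one_right e, inv_eq_of_mul_eq_one_right (hG.sq S c h.mem)])
    have h4 : ({1, c, s, c * s} : Set G).ncard = 4 := by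
      rw [Set.ncard_insert_of_notMem, Set.ncard_insert_of_notMem, Set.ncard_insert_of_notMem,
        Set.ncard_singleton]
      · simpa using h.ne
      · simp only [Set.mem_insert_iff, Set.mem_singleton_iff, not_or]
        exact ⟨Ne.symm hsc.2, fun e => hsc.1 (by simpa using e.symm)⟩
      · simp only [Set.mem_insert_iff, Set.mem_singleton_iff, not_or]
        exact ⟨Ne.symm h.ne, Ne.symm hsc.1, Ne.symm hcs⟩
    have h' := Set.ncard_le_ncard hsub (Set.toFinite _)
    rwa [h4, ← Nat.card_coe_set_eq] at h'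
  have hidx : (F.subgroupOf (S : Subgroup G)).index = 2 := by
    have hF8 : Nat.card (F.subgroupOf (S : Subgroup G)) *
        (F.subgroupOf (S : Subgroup G)).index = 8 := by
      rw [card_mul_index, hG.card S]
    rw [Nat.card_congr (subgroupOfEquivOfLe (inf_le_left : F ≤ (S : Subgroup G))).toEquiv] at hF8
    have hne1 : (F.subgroupOf (S : Subgroup G)).index ≠ 1 := fun e =>
      hxF (subgroupOf_eq_top.1 (index_eq_one.1 e) hx)
    have hne0 : (F.subgroupOf (S : Subgroup G)).index ≠ 0 := index_ne_zero_of_finite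
    have hle := Nat.mul_le_mul_right (F.subgroupOf (S : Subgroup G)).index hF4
    rw [hF8] at hle
    omega
  have hxnx : n * x * n⁻¹ ∉ F := fun hh =>
    hnx (commute_iff_conj.2 (mul_left_cancel (mul_right_cancel (commute_iff_conj.1 ((memF _).1 hh).2))))
  have hmem := (mul_mem_iff_of_index_two hidx (a := ⟨n * x * n⁻¹, h.conj_mem hx⟩)
    (b := ⟨x, hx⟩)).2 (by simp only [mem_subgroupOf]; exact iff_of_false hxnx hxF)
  exact hnx (hG.commute_of_shift S h.norm hx ((memF _).1 (mem_subgroupOf.1 hmem)).2)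

theorem onLine_mem (h : Rot S c n) {x : G} (hx : OnLine S n x) : x ∈ (S : Subgroup G) := by
  obtain ⟨s, hs, rfl⟩ := hx
  exact mul_mem (h.conj_mem hs) hs

theorem onLine_mul (h : Rot S c n) {x y : G} (hx : OnLine S n x) (hy : OnLine S n y) :
    OnLine S n (x * y) := by
  obtain ⟨s, hs, rfl⟩ := hx
  obtain ⟨r, hr, rfl⟩ := hy
  refine ⟨s * r, mul_mem hs hr, ?_⟩
  calc n * (s * r) * n⁻¹ * (s * r) = n * s * n⁻¹ * (n * r * n⁻¹ * s) * r := by group
    _ = n * s * n⁻¹ * (s * (n * r * n⁻¹)) * r := by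
      rw [(hG.sylow_comm S (h.conj_mem hr) hs).eq]
    _ = n * s * n⁻¹ * s * (n * r * n⁻¹ * r) := by group

theorem onLine_conj (h : Rot S c n) {x : G} (hx : OnLine S n x) : OnLine S n (n * x * n⁻¹) := by
  obtain ⟨s, hs, rfl⟩ := hx
  exact ⟨n * s * n⁻¹, h.conj_mem hs, by group⟩

theorem centre_not_onLine (h : Rot S c n) : ¬ OnLine S n c := by
  rintro ⟨s, hs, e⟩
  have hc : Commute n s := hG.commute_of_shift S h.norm hs (e.symm ▸ h.comm)
  rw [commute_iff_conj.1 hc, hG.sq S s hs] at e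
  exact h.ne e.symm

theorem onLine_fixed (h : Rot S c n) {x : G} (hx : OnLine S n x) (hnx : Commute n x) : x = 1 := by
  rcases hG.rot_fixed h (hG.onLine_mem h hx) hnx with e | e
  · exact e
  · exact absurd (e ▸ hx) (hG.centre_not_onLine h)

theorem exists_onLine_ne_one (h : Rot S c n) : ∃ x, OnLine S n x ∧ x ≠ 1 := by
  obtain ⟨s, hs, hns⟩ := h.moves
  refine ⟨_, ⟨s, hs, rfl⟩, fun e => hns (commute_iff_conj.2 ?_)⟩
  rw [eq_inv_of_mul_eq_one_left e, inv_eq_of_mul_eq_one_right (hG.sq S s hs)]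

/-- The line has at most four elements. -/
theorem ncard_onLine_le (h : Rot S c n) : {x | OnLine S n x}.ncard ≤ 4 := by
  classical
  let f : (S : Subgroup G) →* G := {
    toFun := fun s => n * s * n⁻¹ * s
    map_one' := by simp
    map_mul' := fun s r => by
      show n * ((s : G) * r) * n⁻¹ * (s * r) = n * s * n⁻¹ * s * (n * r * n⁻¹ * r)
      calc n * ((s : G) * r) * n⁻¹ * (s * r)
          = n * s * n⁻¹ * (n * r * n⁻¹ * s) * r := by group
        _ = n * s * n⁻¹ * (s * (n * r * n⁻¹)) * r := by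
          rw [(hG.sylow_comm S (h.conj_mem r.2) s.2).eq]
        _ = n * s * n⁻¹ * s * (n * r * n⁻¹ * r) := by group }
  have he : {x | OnLine S n x} = (f.range : Set G) := by
    ext x
    exact ⟨fun ⟨s, hs, e⟩ => ⟨⟨s, hs⟩, e⟩, fun ⟨s, e⟩ => ⟨s, s.2, e⟩⟩
  rw [he, ← Nat.card_coe_set_eq]
  show Nat.card f.range ≤ 4
  have hker : 2 ≤ Nat.card f.ker := by
    refine Finite.one_lt_card_iff_nontrivial.2 ⟨⟨⟨⟨c, h.mem⟩, ?_⟩, 1, fun e => h.ne ?_⟩⟩
    · show n * c * n⁻¹ * c = 1
      rw [commute_iff_conj.1 h.comm, hG.sq S c h.mem]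
    · exact congrArg (fun y : f.ker => ((y : (S : Subgroup G)) : G)) e
  have h8 := f.ker.card_mul_index
  rw [hG.card S, Subgroup.index_ker f] at h8
  nlinarith [Nat.mul_le_mul hker (le_refl (Nat.card f.range))]

/-- The three involutions of a line are cycled. -/
theorem onLine_cases (h : Rot S c n) {x y : G} (hx : OnLine S n x) (hx1 : x ≠ 1)
    (hy : OnLine S n y) (hy1 : y ≠ 1) :
    y = x ∨ y = n * x * n⁻¹ ∨ y = x * (n * x * n⁻¹) := by
  classical
  by_contra hne
  push Not at hne
  set x1 := n * x * n⁻¹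
  have hx1' : OnLine S n x1 := hG.onLine_conj h hx
  have hd : x1 ≠ x := fun e => hx1 (hG.onLine_fixed h hx (commute_iff_conj.2 e))
  have hsub : ({1, x, x1, x * x1, y} : Set G) ⊆ {v | OnLine S n v} := by
    rintro v (rfl | rfl | rfl | rfl | rfl)
    exacts [⟨1, one_mem _, by simp⟩, hx, hx1', hG.onLine_mul h hx hx1', hy]
  have h11 : x1 ≠ 1 := fun e => hx1 (conj_eq_one_iff.1 e)
  have hxx1 : x * x1 ≠ 1 := fun e => hd (by
    rw [← inv_eq_of_mul_eq_one_right e,
      inv_eq_of_mul_eq_one_right (hG.sq S x (hG.onLine_mem h hx))])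
  have h5 : ({1, x, x1, x * x1, y} : Set G).ncard = 5 := by
    rw [Set.ncard_insert_of_notMem, Set.ncard_insert_of_notMem, Set.ncard_insert_of_notMem,
      Set.ncard_insert_of_notMem, Set.ncard_singleton]
    · simpa using Ne.symm hne.2.2
    · simp only [Set.mem_insert_iff, Set.mem_singleton_iff, not_or]
      exact ⟨fun e => hx1 (by simpa using e.symm), Ne.symm hne.2.1⟩
    · simp only [Set.mem_insert_iff, Set.mem_singleton_iff, not_or]
      exact ⟨Ne.symm hd, fun e => h11 (by simpa using e.symm), Ne.symm hne.1⟩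
    · simp only [Set.mem_insert_iff, Set.mem_singleton_iff, not_or]
      exact ⟨Ne.symm hx1, Ne.symm h11, Ne.symm hxx1, Ne.symm hy1⟩
  have := Set.ncard_le_ncard hsub (Set.toFinite _)
  have := hG.ncard_onLine_le h
  omega

theorem conj_conj_eq (h : Rot S c n) {x : G} (hx : OnLine S n x) (hx1 : x ≠ 1) :
    n * (n * x * n⁻¹) * n⁻¹ = x * (n * x * n⁻¹) := by
  have h1 : n * x * n⁻¹ ≠ 1 := fun e => hx1 (conj_eq_one_iff.1 e)
  rcases hG.onLine_cases h hx hx1 (hG.onLine_conj h (hG.onLine_conj h hx))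
    (fun e => h1 (conj_eq_one_iff.1 e)) with e | e | e
  · exact absurd (hG.fix_of_sq S h.norm (hG.onLine_mem h hx) e)
      (fun e' => hx1 (hG.onLine_fixed h hx (commute_iff_conj.2 e')))
  · have e2 : n * x * n⁻¹ = x := mul_left_cancel (mul_right_cancel e)
    exact absurd (hG.onLine_fixed h hx (commute_iff_conj.2 e2)) hx1
  · exact e

/-- `S` is `⟨c⟩` times the line of `c`. -/
theorem exists_onLine_mul (h : Rot S c n) {s : G} (hs : s ∈ (S : Subgroup G)) :
    ∃ y, OnLine S n y ∧ (s = y ∨ s = c * y) := by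
  classical
  obtain ⟨x, hx, hx1⟩ := hG.exists_onLine_ne_one h
  have hxS := hG.onLine_mem h hx
  have hcS := h.mem
  set x1 := n * x * n⁻¹ with hx1d
  have hd : x1 ≠ x := fun e => hx1 (hG.onLine_fixed h hx (commute_iff_conj.2 e))
  by_contra hne
  push Not at hne
  let U : Set G := {v | OnLine S n v}
  have hU4 : 4 ≤ U.ncard := by
    have hsub : ({1, x, x1, x * x1} : Set G) ⊆ U := by
      rintro v (rfl | rfl | rfl | rfl)
      exacts [⟨1, one_mem _, by simp⟩, hx, hG.onLine_conj h hx,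
        hG.onLine_mul h hx (hG.onLine_conj h hx)]
    have h11 : x1 ≠ 1 := fun e => hx1 (conj_eq_one_iff.1 e)
    have h4 : ({1, x, x1, x * x1} : Set G).ncard = 4 := by
      rw [Set.ncard_insert_of_notMem, Set.ncard_insert_of_notMem, Set.ncard_insert_of_notMem,
        Set.ncard_singleton]
      · simpa using fun e : x1 = x * x1 => hx1 (by simpa using e.symm)
      · simp only [Set.mem_insert_iff, Set.mem_singleton_iff, not_or]
        exact ⟨Ne.symm hd, fun e => h11 (by simpa using e.symm)⟩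
      · simp only [Set.mem_insert_iff, Set.mem_singleton_iff, not_or]
        exact ⟨Ne.symm hx1, Ne.symm h11, fun e => hd (by
          rw [← inv_eq_of_mul_eq_one_right e.symm, inv_eq_of_mul_eq_one_right (hG.sq S x hxS)])⟩
    have := Set.ncard_le_ncard hsub (Set.toFinite _)
    omega
  have hdj : Disjoint U ((c * ·) '' U) := by
    refine Set.disjoint_left.2 fun v hv hv' => ?_
    obtain ⟨w, hw, rfl⟩ := hv'
    refine hG.centre_not_onLine h ?_
    have := hG.onLine_mul h hv hw
    rwa [mul_assoc, hG.sq S w (hG.onLine_mem h hw), mul_one] at this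
  have hsub : U ∪ (c * ·) '' U ⊆ ((S : Subgroup G) : Set G) \ {s} := by
    rintro v (hv | ⟨w, hw, rfl⟩)
    · exact ⟨hG.onLine_mem h hv, fun e : v = s => (hne v hv).1 e.symm⟩
    · exact ⟨mul_mem hcS (hG.onLine_mem h hw), fun e : c * w = s => (hne w hw).2 e.symm⟩
  have h' := Set.ncard_le_ncard hsub (Set.toFinite _)
  rw [Set.ncard_union_eq hdj, Set.ncard_image_of_injective _ (mul_right_injective c),
    Set.ncard_sdiff_singleton_of_mem hs, ← Nat.card_coe_set_eq (((S : Subgroup G) : Set G))] at h'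
  change U.ncard + U.ncard ≤ Nat.card (S : Subgroup G) - 1 at h'
  rw [hG.card S] at h'
  omega

/-- Two rotations at the same involution agree on `S` up to inversion. -/
theorem rot_agree {n' : G} (h : Rot S c n) (h' : Rot S c n') :
    (∀ s ∈ (S : Subgroup G), n' * s * n'⁻¹ = n * s * n⁻¹) ∨
      ∀ s ∈ (S : Subgroup G), n' * s * n'⁻¹ = n * (n * s * n⁻¹) * n⁻¹ := by
  classical
  obtain ⟨x, hx, hx1⟩ := hG.exists_onLine_ne_one h
  have hxS := hG.onLine_mem h hx
  have hcS := h.mem
  set x1 := n * x * n⁻¹ with hx1d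
  have hx1S : x1 ∈ (S : Subgroup G) := h.conj_mem hxS
  have hd : x1 ≠ x := fun e => hx1 (hG.onLine_fixed h hx (commute_iff_conj.2 e))
  have hcc := hG.sq S c hcS
  have hgen := fun t ht => hG.exists_onLine_mul h (s := t) ht
  -- the image of `x` modulo `c`
  set a := n' * x * n'⁻¹ with ha
  have hmem' : ∀ s ∈ (S : Subgroup G), n' * s * n'⁻¹ ∈ (S : Subgroup G) := fun s hs => h'.conj_mem hs
  have hsh : ∀ s ∈ (S : Subgroup G), (n' * s * n'⁻¹ * s = c ∨ n' * s * n'⁻¹ * s = 1) →
      Commute n' s := by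
    intro s hs hh
    refine hG.commute_of_shift S h'.norm hs ?_
    rcases hh with e | e <;> rw [e]
    · exact h'.comm
    · exact Commute.one_right n'
  obtain ⟨y, hy, hay⟩ := hgen a (hmem' x hxS)
  have hxc : x ≠ c := fun e => hG.centre_not_onLine h (e ▸ hx)
  have hy1 : y ≠ 1 := by
    rintro rfl
    have : a = c := by
      rcases hay with e | e
      · exact absurd (conj_eq_one_iff.1 e) hx1
      · simpa using e
    exact hxc (mul_left_cancel (a := n') (mul_right_cancel (b := n'⁻¹)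
      (this.trans (commute_iff_conj.1 h'.comm).symm)))
  -- a candidate among the powers of `n`
  have key : ∀ g : G, g ∈ normalizer ((S : Subgroup G) : Set G) → Commute g c →
      (g * x * g⁻¹ = a ∨ c * (g * x * g⁻¹) = a) →
      ∀ s ∈ (S : Subgroup G), n' * s * n'⁻¹ = g * s * g⁻¹ := by
    intro g hg hgc hga
    set m := g⁻¹ * n' with hm
    have hmN : m ∈ normalizer ((S : Subgroup G) : Set G) := mul_mem (inv_mem hg) h'.norm
    have hmc : Commute m c := hgc.inv_left.mul_left h'.comm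
    have hmx : Commute m x := by
      refine hG.commute_of_shift S hmN hxS ?_
      rcases hga with e | e
      · rw [show m * x * m⁻¹ * x = g⁻¹ * (n' * x * n'⁻¹) * g * x by rw [hm]; group, ← ha, ← e,
          show g⁻¹ * (g * x * g⁻¹) * g * x = x * x by group, hG.sq S x hxS]
        exact Commute.one_right m
      · rw [show m * x * m⁻¹ * x = g⁻¹ * (n' * x * n'⁻¹) * g * x by rw [hm]; group, ← ha, ← e,
          show g⁻¹ * (c * (g * x * g⁻¹)) * g * x = (g⁻¹ * c * g) * (x * x) by group,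
          hG.sq S x hxS, mul_one, mul_assoc, ← hgc.eq, inv_mul_cancel_left]
        exact hmc
    have hall : ∀ s ∈ (S : Subgroup G), Commute m s := by
      by_contra hno
      push Not at hno
      rcases hG.rot_fixed ⟨hcS, h.ne, hmN, hmc, hno⟩ hxS hmx with e | e
      · exact hx1 e
      · exact hxc e
    intro s hs
    have := commute_iff_conj.1 (hall s hs)
    calc n' * s * n'⁻¹ = g * (m * s * m⁻¹) * g⁻¹ := by rw [hm]; group
      _ = g * s * g⁻¹ := by rw [this]
  rcases hG.onLine_cases h hx hx1 hy hy1 with he | he | he <;> rw [he] at hay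
  · exfalso
    have := hsh x hxS (by
      rcases hay with e | e
      · exact Or.inr (by rw [← ha, e, hG.sq S x hxS])
      · exact Or.inl (by rw [← ha, e, mul_assoc, hG.sq S x hxS, mul_one]))
    rcases hG.rot_fixed h' hxS this with e | e
    · exact hx1 e
    · exact hxc e
  · exact Or.inl (key n h.norm h.comm (hay.imp Eq.symm Eq.symm))
  · refine Or.inr fun s hs => ?_
    rw [key (n * n) (mul_mem h.norm h.norm) (h.comm.mul_left h.comm) ?_ s hs]
    · group
    · rw [show n * n * x * (n * n)⁻¹ = n * (n * x * n⁻¹) * n⁻¹ by group, hG.conj_conj_eq h hx hx1]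
      exact hay.imp Eq.symm Eq.symm

/-- The line depends only on the involution. -/
theorem onLine_iff {n' : G} (h : Rot S c n) (h' : Rot S c n') (x : G) :
    OnLine S n x ↔ OnLine S n' x := by
  suffices key : ∀ {n n' : G}, Rot S c n → Rot S c n' → ∀ {x}, OnLine S n' x → OnLine S n x from
    ⟨key h' h, key h h'⟩
  intro n n' h h' x hx
  obtain ⟨s, hs, rfl⟩ := hx
  rcases hG.rot_agree h h' with e | e
  · exact ⟨s, hs, by rw [e s hs]⟩
  · have h1 : OnLine S n (n * (n * s * n⁻¹) * n⁻¹ * (n * s * n⁻¹)) :=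
      ⟨n * s * n⁻¹, h.conj_mem hs, rfl⟩
    have h2 := hG.onLine_mul h h1 ⟨s, hs, rfl⟩
    rw [e s hs]
    convert h2 using 1
    have hq := hG.sq S _ (h.conj_mem hs)
    rw [mul_assoc (n * (n * s * n⁻¹) * n⁻¹), ← mul_assoc (n * s * n⁻¹) (n * s * n⁻¹), hq, one_mul]

theorem rot_conj (h : Rot S c n) {m : G} (hm : m ∈ normalizer ((S : Subgroup G) : Set G)) :
    Rot S (m * c * m⁻¹) (m * n * m⁻¹) := by
  refine ⟨(mem_normalizer_iff.1 hm c).1 h.mem, fun e => h.ne (conj_eq_one_iff.1 e),
    mul_mem (mul_mem hm h.norm) (inv_mem hm), ?_, ?_⟩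
  · simpa using h.comm.map (MulAut.conj m).toMonoidHom
  · obtain ⟨s, hs, hns⟩ := h.moves
    refine ⟨m * s * m⁻¹, (mem_normalizer_iff.1 hm s).1 hs, fun e => hns ?_⟩
    simpa [mul_assoc] using e.map (MulAut.conj m⁻¹).toMonoidHom

theorem onLine_conj_iff (_h : Rot S c n) {m : G} (hm : m ∈ normalizer ((S : Subgroup G) : Set G))
    {x : G} (hx : OnLine S n x) : OnLine S (m * n * m⁻¹) (m * x * m⁻¹) := by
  obtain ⟨s, hs, rfl⟩ := hx
  exact ⟨m * s * m⁻¹, (mem_normalizer_iff.1 hm s).1 hs, by group⟩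

/-- Two involutions have different lines. -/
theorem eq_of_line_eq {d n' : G} (h : Rot S c n) (h' : Rot S d n')
    (he : ∀ x, OnLine S n x → OnLine S n' x) : c = d := by
  obtain ⟨x, hx, hx1⟩ := hG.exists_onLine_ne_one h
  have hxS := hG.onLine_mem h hx
  set x1 := n * x * n⁻¹ with hx1d
  have h1 := he x hx
  have h2 := he x1 (hG.onLine_conj h hx)
  obtain ⟨g, hgN, hgd, hg⟩ : ∃ g, g ∈ normalizer ((S : Subgroup G) : Set G) ∧ Commute g d ∧
      g * x * g⁻¹ = x1 := by
    rcases hG.onLine_cases h' h1 hx1 h2 (fun e => hx1 (conj_eq_one_iff.1 e)) with e | e | e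
    · exact absurd (hG.onLine_fixed h hx (commute_iff_conj.2 e)) hx1
    · exact ⟨n', h'.norm, h'.comm, e.symm⟩
    · refine ⟨n' * n', mul_mem h'.norm h'.norm, h'.comm.mul_left h'.comm, ?_⟩
      rw [show n' * n' * x * (n' * n')⁻¹ = n' * (n' * x * n'⁻¹) * n'⁻¹ by group,
        hG.conj_conj_eq h' h1 hx1, e]
  have hgU : ∀ v, OnLine S n' v → OnLine S n' (g * v * g⁻¹) := by
    intro v hv
    have hr : Rot S d g := ⟨h'.mem, h'.ne, hgN, hgd, x, hxS, fun e => hx1 (hG.onLine_fixed h hx
      (commute_iff_conj.2 ((hx1d.symm.trans hg.symm).trans (commute_iff_conj.1 e))))⟩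
    exact (hG.onLine_iff h' hr _).2 (hG.onLine_conj hr ((hG.onLine_iff h' hr _).1 hv))
  -- `g` and `n` agree on the line, hence on `S`
  have hgx1 : g * x1 * g⁻¹ = n * x1 * n⁻¹ := by
    rw [hx1d, hG.conj_conj_eq h hx hx1, ← hx1d]
    have hr : Rot S d g := ⟨h'.mem, h'.ne, hgN, hgd, x, hxS, fun e => hx1 (hG.onLine_fixed h hx
      (commute_iff_conj.2 ((hx1d.symm.trans hg.symm).trans (commute_iff_conj.1 e))))⟩
    have := hG.conj_conj_eq hr ((hG.onLine_iff h' hr _).1 h1) hx1
    rwa [hg] at this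
  set m := n⁻¹ * g with hm
  have hmN : m ∈ normalizer ((S : Subgroup G) : Set G) := mul_mem (inv_mem h.norm) hgN
  have hmfix : ∀ v, OnLine S n v → Commute m v := by
    intro v hv
    by_cases hv1 : v = 1
    · exact hv1 ▸ Commute.one_right m
    have hb : ∀ w, g * w * g⁻¹ = n * w * n⁻¹ → Commute m w := fun w e => commute_iff_conj.2 (by
      rw [show m * w * m⁻¹ = n⁻¹ * (g * w * g⁻¹) * n by rw [hm]; group, e]
      group)
    rcases hG.onLine_cases h hx hx1 hv hv1 with rfl | rfl | rfl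
    exacts [hb _ hg, hb _ hgx1, (hb _ hg).mul_right (hb _ hgx1)]
  by_contra hcd
  -- `m` moves `c` into the coset of the line
  obtain ⟨r, hr, hre⟩ : OnLine S n' (g * c * g⁻¹ * c) := by
    by_cases hgc : Commute g c
    · exact ⟨1, one_mem _, by rw [commute_iff_conj.1 hgc, hG.sq S c h.mem]; simp⟩
    have hr : Rot S d g := ⟨h'.mem, h'.ne, hgN, hgd, c, h.mem, hgc⟩
    exact (hG.onLine_iff h' hr _).2 ⟨c, h.mem, rfl⟩
  have hshift : Commute m (m * c * m⁻¹ * c) := by
    refine hmfix _ ?_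
    have hv : OnLine S n' (g * c * g⁻¹ * c) := ⟨r, hr, hre⟩
    obtain ⟨w, hw, hwe⟩ : ∃ w, OnLine S n w ∧ w = g * c * g⁻¹ * c := by
      by_cases hv1 : g * c * g⁻¹ * c = 1
      · exact ⟨1, ⟨1, one_mem _, by simp⟩, hv1.symm⟩
      rcases hG.onLine_cases h' h1 hx1 hv hv1 with e | e | e
      · exact ⟨x, hx, e.symm⟩
      all_goals
        rcases hG.onLine_cases h' h1 hx1 h2 (fun e => hx1 (conj_eq_one_iff.1 e)) with e' | e' | e'
      · exact absurd (hG.onLine_fixed h hx (commute_iff_conj.2 e')) hx1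
      · exact ⟨x1, hG.onLine_conj h hx, e'.trans e.symm⟩
      · refine ⟨x * x1, hG.onLine_mul h hx (hG.onLine_conj h hx), ?_⟩
        rw [e, e', ← mul_assoc, hG.sq S x hxS, one_mul]
      · exact absurd (hG.onLine_fixed h hx (commute_iff_conj.2 e')) hx1
      · exact ⟨x * x1, hG.onLine_mul h hx (hG.onLine_conj h hx), by rw [e, e']⟩
      · exact ⟨x1, hG.onLine_conj h hx, e'.trans e.symm⟩
    have hn : OnLine S n (n⁻¹ * w * n) := by
      obtain ⟨s, hs, rfl⟩ := hw
      refine ⟨n⁻¹ * s * n, ?_, by group⟩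
      simpa using (mem_normalizer_iff.1 (inv_mem h.norm) s).1 hs
    convert hn using 1
    have hcn : n⁻¹ * c * n = c := by rw [mul_assoc, ← h.comm.eq, inv_mul_cancel_left]
    calc m * c * m⁻¹ * c = n⁻¹ * (g * c * g⁻¹) * n * c := by rw [hm]; group
      _ = n⁻¹ * (g * c * g⁻¹) * n * (n⁻¹ * c * n) := by rw [hcn]
      _ = n⁻¹ * w * n := by rw [hwe]; group
  have hmc : Commute m c := hG.commute_of_shift S hmN h.mem hshift
  have hgc : Commute g c := by
    rw [show g = n * m by rw [hm]; group]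
    exact h.comm.mul_left hmc
  have hr : Rot S d g := ⟨h'.mem, h'.ne, hgN, hgd, x, hxS, fun e => hx1 (hG.onLine_fixed h hx
    (commute_iff_conj.2 ((hx1d.symm.trans hg.symm).trans (commute_iff_conj.1 e))))⟩
  rcases hG.rot_fixed hr h.mem hgc with e | e
  · exact h.ne e
  · exact hcd e

/-- Two points determine the centre. -/
theorem centre_unique {d m x y : G} (h : Rot S c n) (h' : Rot S d m) (hx1 : x ≠ 1) (hy1 : y ≠ 1)
    (hxy : x ≠ y) (hx : OnLine S n x) (hy : OnLine S n y) (hx' : OnLine S m x)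
    (hy' : OnLine S m y) : c = d := by
  refine hG.eq_of_line_eq h h' fun v hv => ?_
  by_cases hv1 : v = 1
  · exact hv1 ▸ ⟨1, one_mem _, by simp⟩
  rcases hG.onLine_cases h hx hx1 hv hv1 with e | e | e
  · exact e ▸ hx'
  all_goals
    rcases hG.onLine_cases h hx hx1 hy hy1 with e' | e' | e'
  · exact absurd e'.symm hxy
  · rw [e, ← e']; exact hy'
  · have := hG.onLine_mul h' hx' hy'
    rwa [e', ← mul_assoc, hG.sq S x (hG.onLine_mem h hx), one_mul, ← e] at this
  · exact absurd e'.symm hxy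
  · rw [e, ← e']; exact hG.onLine_mul h' hx' hy'
  · rw [e, ← e']; exact hy'

/-! ### Existence -/

/-- A nonsolvable centraliser gives a rotation. -/
theorem exists_rot (S : Sylow 2 G) (hc : c ∈ (S : Subgroup G)) (hc1 : c ≠ 1)
    (hns : ¬ Group.IsSolvable (centralizer ({c} : Set G))) : ∃ n, Rot S c n := by
  haveI : Fact (Nat.Prime 2) := ⟨Nat.prime_two⟩
  by_contra hno
  push Not at hno
  have hSC : (S : Subgroup G) ≤ centralizer ({c} : Set G) := hG.sylow_le_centralizer_singleton S hc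
  let SC : Sylow 2 (centralizer ({c} : Set G)) := S.subtype hSC
  have hcoe : ∀ s, s ∈ (SC : Subgroup (centralizer ({c} : Set G))) ↔
      (s : G) ∈ (S : Subgroup G) := fun s => Iff.rfl
  have hle : normalizer ((SC : Subgroup (centralizer ({c} : Set G))) : Set (centralizer ({c} : Set G))) ≤
      centralizer ((SC : Subgroup (centralizer ({c} : Set G))) : Set (centralizer ({c} : Set G))) := by
    intro n hn
    refine mem_centralizer_iff.2 fun s hs => ?_
    by_contra hne
    refine hno n ⟨hc, hc1, mem_normalizer_fintype fun y hy => ?_,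
      mem_centralizer_singleton_iff.1 n.2, s, (hcoe s).1 hs, fun e => hne (Subtype.ext e.eq.symm)⟩
    exact (hcoe _).1 ((mem_normalizer_iff.1 hn ⟨y, hSC hy⟩).1 ((hcoe _).2 hy))
  have hodd := MonoidHom.not_dvd_card_ker_transferSylow SC hle
  haveI : Group.IsSolvable (MonoidHom.transferSylow SC hle).ker :=
    Cfsg.Agent.S0205.result (Nat.odd_iff.2 (Nat.two_dvd_ne_zero.1 hodd))
  haveI : Group.IsNilpotent (SC : Subgroup (centralizer ({c} : Set G))) := SC.isPGroup'.isNilpotent
  exact hns (Group.isSolvable_of_ker_le_range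
    (MonoidHom.transferSylow SC hle).ker.subtype (MonoidHom.transferSylow SC hle) (by simp))

variable (hnsol : ∀ a : G, orderOf a = 2 → ¬ Group.IsSolvable (centralizer ({a} : Set G)))
include hnsol

theorem exists_rot' (S : Sylow 2 G) (hc : c ∈ (S : Subgroup G)) (hc1 : c ≠ 1) :
    ∃ n, Rot S c n :=
  hG.exists_rot S hc hc1 (hnsol c (hG.orderOf_sylow S hc hc1))

/-- Every four-group of `S` is a line. -/
theorem exists_line (S : Sylow 2 G) {z b : G} (hz : z ∈ (S : Subgroup G)) (hz1 : z ≠ 1)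
    (hb : b ∈ (S : Subgroup G)) (hb1 : b ≠ 1) (hzb : z ≠ b) :
    ∃ c n, Rot S c n ∧ OnLine S n z ∧ OnLine S n b := by
  classical
  haveI := Fintype.ofFinite G
  let I : Finset G := Finset.univ.filter fun s => s ∈ (S : Subgroup G) ∧ s ≠ 1
  have hI : I.card = 7 := by
    have h : (I : Set G) = ((S : Subgroup G) : Set G) \ {1} := by
      ext s; simp only [I, Finset.coe_filter, Finset.mem_univ, true_and, Set.mem_sdiff,
        Set.mem_singleton_iff]; rfl
    rw [← Set.ncard_coe_finset, h, Set.ncard_sdiff_singleton_of_mem (one_mem (S : Subgroup G)),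
      ← Nat.card_coe_set_eq]
    show Nat.card (S : Subgroup G) - 1 = 7
    rw [hG.card S]
  have hrot : ∀ c ∈ I, ∃ n, Rot S c n := fun c hc =>
    hG.exists_rot' hnsol S (Finset.mem_filter.1 hc).2.1 (Finset.mem_filter.1 hc).2.2
  choose! ν hν using hrot
  let B : G → Finset (G × G) := fun c => (I.filter fun v => OnLine S (ν c) v).offDiag
  have hB : ∀ c ∈ I, 6 ≤ (B c).card := by
    intro c hc
    obtain ⟨x, hx, hx1⟩ := hG.exists_onLine_ne_one (hν c hc)
    set x1 := ν c * x * (ν c)⁻¹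
    have h1 : x1 ≠ x := fun e => hx1 (hG.onLine_fixed (hν c hc) hx (commute_iff_conj.2 e))
    have hx1' := hG.onLine_conj (hν c hc) hx
    have h11 : x1 ≠ 1 := fun e => hx1 (conj_eq_one_iff.1 e)
    have h3 : ({x, x1, x * x1} : Finset G) ⊆ I.filter fun v => OnLine S (ν c) v := by
      intro v hv
      simp only [Finset.mem_insert, Finset.mem_singleton] at hv
      have mem : ∀ w, OnLine S (ν c) w → w ≠ 1 → w ∈ I.filter fun v => OnLine S (ν c) v :=
        fun w hw hw1 => by simp [I, hw, hw1, hG.onLine_mem (hν c hc) hw]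
      rcases hv with rfl | rfl | rfl
      · exact mem _ hx hx1
      · exact mem _ hx1' h11
      · refine mem _ (hG.onLine_mul (hν c hc) hx hx1') fun e => h1 ?_
        rw [← inv_eq_of_mul_eq_one_right e,
          inv_eq_of_mul_eq_one_right (hG.sq S x (hG.onLine_mem (hν c hc) hx))]
    have hc3 : ({x, x1, x * x1} : Finset G).card = 3 := by
      rw [Finset.card_insert_of_notMem, Finset.card_insert_of_notMem, Finset.card_singleton]
      · simpa using fun e : x1 = x * x1 => hx1 (by simpa using e.symm)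
      · simp only [Finset.mem_insert, Finset.mem_singleton, not_or]
        exact ⟨Ne.symm h1, fun e => h11 (by simpa using e.symm)⟩
    calc 6 = ({x, x1, x * x1} : Finset G).offDiag.card := by rw [Finset.offDiag_card, hc3]
      _ ≤ _ := Finset.card_le_card (Finset.offDiag_mono h3)
  have hdisj : (I : Set G).PairwiseDisjoint B := by
    intro c hc d hd hcd
    refine Finset.disjoint_left.2 fun p hpc hpd => hcd ?_
    simp only [B, Finset.mem_offDiag, Finset.mem_filter, I, Finset.mem_univ, true_and] at hpc hpd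
    refine hG.eq_of_line_eq (hν c hc) (hν d hd) fun v hv => ?_
    by_cases hv1 : v = 1
    · exact hv1 ▸ ⟨1, one_mem _, by simp⟩
    obtain ⟨⟨⟨hp1, hp1'⟩, hl1⟩, ⟨⟨hp2, hp2'⟩, hl2⟩, hne⟩ := hpc
    obtain ⟨⟨-, hl1'⟩, ⟨-, hl2'⟩, -⟩ := hpd
    rcases hG.onLine_cases (hν c hc) hl1 hp1' hv hv1 with e | e | e
    · exact e ▸ hl1'
    all_goals
      rcases hG.onLine_cases (hν c hc) hl1 hp1' hl2 hp2' with e' | e' | e'
    · exact absurd e'.symm hne
    · rw [e, ← e']; exact hl2'
    · have := hG.onLine_mul (hν d hd) hl1' hl2'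
      rwa [e', ← mul_assoc, hG.sq S p.1 hp1, one_mul, ← e] at this
    · exact absurd e'.symm hne
    · rw [e, ← e']; exact hG.onLine_mul (hν d hd) hl1' hl2'
    · rw [e, ← e']; exact hl2'
  have hle : I.biUnion B ⊆ I.offDiag := Finset.biUnion_subset.2 fun c hc =>
    Finset.offDiag_mono (Finset.filter_subset _ _)
  have heq : I.biUnion B = I.offDiag := by
    refine Finset.eq_of_subset_of_card_le hle ?_
    rw [Finset.offDiag_card, hI, Finset.card_biUnion hdisj]
    calc 7 * 7 - 7 = ∑ _c ∈ I, 6 := by rw [Finset.sum_const, hI]; rfl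
      _ ≤ _ := Finset.sum_le_sum hB
  have hmem : (z, b) ∈ I.biUnion B := heq ▸ by simp [I, hz, hz1, hb, hb1, hzb]
  obtain ⟨c, hc, hp⟩ := Finset.mem_biUnion.1 hmem
  simp only [B, Finset.mem_offDiag, Finset.mem_filter] at hp
  exact ⟨c, ν c, hν c hc, hp.1.2, hp.2.1.2⟩

/-- Two involutions are not both on each other's lines. -/
theorem not_mutual {z u nz nu : G} (hz : Rot S z nz) (hu : Rot S u nu) (h1 : OnLine S nz u) :
    ¬ OnLine S nu z := by
  classical
  intro h2
  have hzu : z ≠ u := fun e => hG.centre_not_onLine hz (e ▸ h1)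
  obtain ⟨w, nw, hw, hwz, hwu⟩ := hG.exists_line hnsol S hz.mem hz.ne hu.mem hu.ne hzu
  -- the centre of the line through `z` and `u` is on both lines
  have key : ∀ {z u nz nu : G}, Rot S z nz → Rot S u nu → OnLine S nz u → OnLine S nu z →
      OnLine S nw z → OnLine S nw u → OnLine S nz w := by
    intro z u nz nu hz hu h1 h2 hwz hwu
    by_contra hwl
    set u1 := nz * u * nz⁻¹ with hu1d
    set u2 := nz * u1 * nz⁻¹ with hu2d
    have hu1 : OnLine S nz u1 := hG.onLine_conj hz h1
    have hu2 : OnLine S nz u2 := hG.onLine_conj hz hu1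
    have hu2e : u2 = u * u1 := hG.conj_conj_eq hz h1 hu.ne
    have hne1 : u1 ≠ u := fun e => hu.ne (hG.onLine_fixed hz h1 (commute_iff_conj.2 e))
    have hnz : nz * z * nz⁻¹ = z := commute_iff_conj.1 hz.comm
    have hr1 := hG.rot_conj hu hz.norm
    have hr2 := hG.rot_conj hr1 hz.norm
    have hl1 := hG.onLine_conj_iff hu hz.norm h2
    rw [hnz] at hl1
    have hl2 := hG.onLine_conj_iff hr1 hz.norm hl1
    rw [hnz] at hl2
    rw [← hu1d] at hr1
    rw [← hu1d, ← hu2d] at hr2
    let T : Finset G := {u, u1, u2, w}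
    have hT : ∀ d ∈ T, ∃ m, Rot S d m ∧ OnLine S m z := by
      intro d hd
      simp only [T, Finset.mem_insert, Finset.mem_singleton] at hd
      rcases hd with rfl | rfl | rfl | rfl
      exacts [⟨_, hu, h2⟩, ⟨_, hr1, hl1⟩, ⟨_, hr2, hl2⟩, ⟨_, hw, hwz⟩]
    choose! ν hν hνz using hT
    let A : G → Finset G := fun d => {ν d * z * (ν d)⁻¹, z * (ν d * z * (ν d)⁻¹)}
    have hA : ∀ d ∈ T, ∀ v ∈ A d, v ∈ (S : Subgroup G) ∧ v ≠ 1 ∧ v ≠ z ∧ OnLine S (ν d) v := by
      intro d hd v hv
      have hy := hG.onLine_conj (hν d hd) (hνz d hd)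
      have hy1 : ν d * z * (ν d)⁻¹ ≠ 1 := fun e => hz.ne (conj_eq_one_iff.1 e)
      have hyz : ν d * z * (ν d)⁻¹ ≠ z := fun e =>
        hz.ne (hG.onLine_fixed (hν d hd) (hνz d hd) (commute_iff_conj.2 e))
      simp only [A, Finset.mem_insert, Finset.mem_singleton] at hv
      rcases hv with rfl | rfl
      · exact ⟨hG.onLine_mem (hν d hd) hy, hy1, hyz, hy⟩
      · refine ⟨mul_mem hz.mem (hG.onLine_mem (hν d hd) hy), fun e => hyz ?_, fun e => hy1 ?_,
          hG.onLine_mul (hν d hd) (hνz d hd) hy⟩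
        · exact (inv_eq_of_mul_eq_one_right e).symm.trans
            (inv_eq_of_mul_eq_one_right (hG.sq S z hz.mem))
        · simpa using e
    have hA2 : ∀ d ∈ T, (A d).card = 2 := fun d hd => by
      rw [Finset.card_pair]
      exact fun e => hz.ne (by simpa using e.symm)
    have hdisj : (T : Set G).PairwiseDisjoint A := fun d hd d' hd' hne =>
      Finset.disjoint_left.2 fun v hv hv' => hne (hG.centre_unique (hν d hd) (hν d' hd') hz.ne
        (hA d hd v hv).2.1 (hA d hd v hv).2.2.1.symm (hνz d hd) (hA d hd v hv).2.2.2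
        (hνz d' hd') (hA d' hd' v hv').2.2.2)
    have hT4 : T.card = 4 := by
      have hu12 : u2 ≠ u1 := fun e => hu.ne (by simpa [hu2e] using e)
      have huu2 : u2 ≠ u := fun e => hr1.ne (by simpa [hu2e] using e)
      have hwu' : w ≠ u := fun e => hG.centre_not_onLine hw (e ▸ hwu)
      have hwu1 : w ≠ u1 := fun e => hwl (e ▸ hu1)
      have hwu2 : w ≠ u2 := fun e => hwl (e ▸ hu2)
      rw [Finset.card_insert_of_notMem, Finset.card_insert_of_notMem, Finset.card_pair]
      · exact hwu2.symm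
      · simp [hu12.symm, hwu1.symm]
      · simp [hne1.symm, huu2.symm, hwu'.symm]
    have hsub : ((T.biUnion A : Finset G) : Set G) ⊆
        (((S : Subgroup G) : Set G) \ {1}) \ {z} := by
      intro v hv
      obtain ⟨d, hd, hv⟩ := Finset.mem_biUnion.1 hv
      exact ⟨⟨(hA d hd v hv).1, (hA d hd v hv).2.1⟩, (hA d hd v hv).2.2.1⟩
    have := Set.ncard_le_ncard hsub (Set.toFinite _)
    rw [Set.ncard_coe_finset, Finset.card_biUnion hdisj, Finset.sum_congr rfl hA2, Finset.sum_const,
      hT4, Set.ncard_sdiff_singleton_of_mem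
        (show z ∈ ((S : Subgroup G) : Set G) \ {1} from ⟨hz.mem, hz.ne⟩),
      Set.ncard_sdiff_singleton_of_mem (one_mem (S : Subgroup G)), ← Nat.card_coe_set_eq] at this
    change 4 • 2 ≤ Nat.card (S : Subgroup G) - 1 - 1 at this
    rw [hG.card S] at this
    simp at this
  have hwzl := key hz hu h1 h2 hwz hwu
  have hwul := key hu hz h2 h1 hwu hwz
  have hwu' : w ≠ u := fun e => hG.centre_not_onLine hw (e ▸ hwu)
  set u1 := nz * u * nz⁻¹ with hu1d
  have hu2e : nz * u1 * nz⁻¹ = u * u1 := hG.conj_conj_eq hz h1 hu.ne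
  have h3 : nz * (u * u1) * nz⁻¹ = u := by
    calc nz * (u * u1) * nz⁻¹ = u1 * (nz * u1 * nz⁻¹) := by rw [hu1d]; group
      _ = u := by
        rw [hu2e, ← mul_assoc,
          (hG.sylow_comm S (hG.onLine_mem hz (hG.onLine_conj hz h1)) hu.mem).eq, mul_assoc,
          hG.sq S u1 (hG.onLine_mem hz (hG.onLine_conj hz h1)), mul_one]
  have hr := hG.rot_conj hw hz.norm
  have hl := hG.onLine_conj_iff hw hz.norm hwu
  rw [← hu1d] at hl
  rcases hG.onLine_cases hz h1 hu.ne hwzl hw.ne with e | e | e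
  · exact hwu' e
  · have hr2 := hG.rot_conj hr hz.norm
    have hl2 := hG.onLine_conj_iff hr hz.norm hl
    rw [e, ← hu1d, hu2e, h3] at hr2
    rw [hu2e] at hl2
    have := hG.onLine_mul hu hwul ((hG.onLine_iff hr2 hu _).1 hl2)
    have hu1S := hG.onLine_mem hz (hG.onLine_conj hz h1)
    rw [← hu1d] at hu1S
    rw [e, ← mul_assoc, (hG.sylow_comm S hu1S hu.mem).eq, mul_assoc,
      hG.sq S u1 hu1S, mul_one] at this
    exact hG.centre_not_onLine hu this
  · rw [e, h3] at hr
    have := hG.onLine_mul hu hwul ((hG.onLine_iff hr hu _).1 hl)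
    rw [e, mul_assoc, hG.sq S u1 (hG.onLine_mem hz (hG.onLine_conj hz h1)), mul_one] at this
    exact hG.centre_not_onLine hu this

/-- Two commuting involutions `z`, `b` have a cycle `z → b → z b`. -/
theorem exists_cycle {z b : G} (hz : orderOf z = 2) (hb : orderOf b = 2) (hzb : z ≠ b)
    (hc : Commute z b) : ∃ g, g * z * g⁻¹ = b ∧ g * b * g⁻¹ = z * b := by
  have hzz := Small.mul_self_of_orderOf_two hz
  have hbb := Small.mul_self_of_orderOf_two hb
  obtain ⟨S, hS⟩ := (show IsPGroup 2 (closure ({z, b} : Set G)) from fun v => ⟨1, Subtype.ext (by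
    rw [pow_one, Subgroup.coe_pow, Subgroup.coe_one, pow_two]
    rcases DGroupCent.sq_eq_one_of_mem_closure_pair hzz hbb hc v v.2 with e | e | e | e <;> rw [e]
    · simp
    · exact hzz
    · exact hbb
    · rw [mul_assoc, ← mul_assoc b z b, ← hc.eq, mul_assoc z b b, hbb, mul_one, hzz])⟩).exists_le_sylow
  have hzS : z ∈ (S : Subgroup G) := hS (subset_closure (by simp))
  have hbS : b ∈ (S : Subgroup G) := hS (subset_closure (by simp))
  obtain ⟨c, n, hn, hzl, hbl⟩ := hG.exists_line hnsol S hzS (Small.ne_one_of_orderOf_two hz) hbS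
    (Small.ne_one_of_orderOf_two hb) hzb
  have h2 := hG.conj_conj_eq hn hzl (Small.ne_one_of_orderOf_two hz)
  rcases hG.onLine_cases hn hzl (Small.ne_one_of_orderOf_two hz) hbl
    (Small.ne_one_of_orderOf_two hb) with e | e | e
  · exact absurd e.symm hzb
  · exact ⟨n, e.symm, by rw [e, h2]⟩
  · refine ⟨n * n, ?_, ?_⟩
    · rw [show n * n * z * (n * n)⁻¹ = n * (n * z * n⁻¹) * n⁻¹ by group, h2, e]
    · have h3 : n * (z * (n * z * n⁻¹)) * n⁻¹ = z := by
        calc n * (z * (n * z * n⁻¹)) * n⁻¹ = n * z * n⁻¹ * (n * (n * z * n⁻¹) * n⁻¹) := by group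
          _ = z := by
            rw [h2, ← mul_assoc, (hG.sylow_comm S (hn.conj_mem hzS) hzS).eq, mul_assoc,
              hG.sq S _ (hn.conj_mem hzS), mul_one]
      rw [show n * n * b * (n * n)⁻¹ = n * (n * b * n⁻¹) * n⁻¹ by group, e, h3, ← mul_assoc, hzz,
        one_mul]

end Minimal

end CfsgLib.Walter
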