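import Cfsg.Agent.Walter.Top
import Cfsg.Agent.GW.PSLKlein
import Cfsg.Agent.GW.TwoQuot
import Cfsg.Agent.GW.OSType.LinearField

/-!
# Walter, rank three: the component modulo the involution

`exists_model`: modulo `⟨z̄⟩` the component is a self-centralizing `PSL₂(q)` in a group of dihedral
type.  `Top.eq_bot_of_four`: an odd subgroup of `C(z)/O(C(z))` centralizing a four-group of the
component and normalized by the centralizer in the component of one of its involutions is trivial.
-/

set_option autoImplicit false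
set_option linter.style.haveILetI false
set_option linter.unusedSectionVars false

open Subgroup

namespace CfsgLib.Walter

universe u

variable {X : Type u} [Group X] [Finite X] {L : Subgroup X} [L.Normal] {c : X}

theorem disjoint_zpowers (hc : c * c = 1) (hcL : c ∉ L) {x : X} (hx : x ∈ zpowers c)
    (hxL : x ∈ L) : x = 1 := by
  obtain ⟨i, rfl⟩ := hx
  show c ^ i = 1
  rcases Int.even_or_odd' i with ⟨j, rfl | rfl⟩
  · rw [zpow_mul, zpow_two, hc, one_zpow]
  · exfalso
    refine hcL ?_
    simpa [zpow_add, zpow_mul, pow_two, zpow_two, hc] using hxL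

/-- Modulo a central involution outside, the component is self-centralizing of dihedral type. -/
theorem exists_model (hX : TwoType X) (hL : IsPSLOdd L) (hc : orderOf c = 2) (hcL : c ∉ L)
    [(zpowers c).Normal] (hC : centralizer (L : Set X) = zpowers c) :
    ∃ (F : Type) (_ : Field F) (_ : Fintype F)
      (_ : (L.map (QuotientGroup.mk' (zpowers c))).Normal),
      Nonempty (GW.OS.Model (L.map (QuotientGroup.mk' (zpowers c))) F) := by
  haveI : Fact (Nat.Prime 2) := ⟨Nat.prime_two⟩
  set π := QuotientGroup.mk' (zpowers c) with hπ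
  have hcc := Small.mul_self_of_orderOf_two hc
  have hLn : (L.map π).Normal := Normal.map inferInstance _ (QuotientGroup.mk'_surjective _)
  have hinj : Function.Injective (π.comp L.subtype) := by
    refine (MonoidHom.ker_eq_bot_iff _).1 (eq_bot_iff.2 fun x hx => mem_bot.2 (Subtype.ext ?_))
    exact disjoint_zpowers hcc hcL ((QuotientGroup.eq_one_iff (x : X)).1 hx) x.2
  have eL : L ≃* L.map π :=
    (MonoidHom.ofInjective hinj).trans (MulEquiv.subgroupCongr (by
      rw [MonoidHom.range_eq_map, ← map_map, ← MonoidHom.range_eq_map, range_subtype]))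
  have h4 := hL.four_dvd
  obtain ⟨F, iF, fF, h8, h5, ⟨e⟩⟩ := hL
  have hcent : centralizer ((L.map π : Subgroup _) : Set (X ⧸ zpowers c)) = ⊥ := by
    refine eq_bot_iff.2 fun q hq => mem_bot.2 ?_
    obtain ⟨y, rfl⟩ := QuotientGroup.mk_surjective q
    refine (QuotientGroup.eq_one_iff y).2 (hC ▸ mem_centralizer_iff.2 fun l hl => ?_)
    have h1 : π (l * y * l⁻¹ * y⁻¹) = 1 := by
      have hcom : π l * π y = π y * π l := mem_centralizer_iff.1 hq (π l) ⟨l, hl, rfl⟩
      rw [map_mul, map_mul, map_mul, map_inv, map_inv, hcom]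
      group
    have h2 := disjoint_zpowers hcc hcL ((QuotientGroup.eq_one_iff (l * y * l⁻¹ * y⁻¹)).1 h1) (by
      rw [show l * y * l⁻¹ * y⁻¹ = l * (y * l⁻¹ * y⁻¹) by group]
      exact mul_mem hl ((inferInstance : L.Normal).conj_mem _ (inv_mem hl) y))
    calc l * y = l * y * l⁻¹ * y⁻¹ * (y * l) := by group
      _ = y * l := by rw [h2, one_mul]
  -- the quotient has elementary Sylow 2-subgroups of order four
  obtain ⟨P⟩ : Nonempty (Sylow 2 (X ⧸ zpowers c)) := inferInstance
  set T := (P : Subgroup (X ⧸ zpowers c)).comap π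
  have hT : IsPGroup 2 T := P.isPGroup'.comap_of_ker_isPGroup π (by
    rw [hπ, QuotientGroup.ker_mk']
    exact IsPGroup.of_card (n := 1) (by rw [Nat.card_zpowers, hc, pow_one]))
  obtain ⟨hT2, hT8⟩ := hX T hT
  have hTP : T.map π = P := map_comap_eq_self_of_surjective (QuotientGroup.mk'_surjective _) _
  have hP2 : ∀ p : (P : Subgroup (X ⧸ zpowers c)), p * p = 1 := by
    rintro ⟨p, hp⟩
    obtain ⟨y, hy, rfl⟩ := hTP.ge hp
    exact Subtype.ext (show π y * π y = 1 by rw [← map_mul, hT2 y hy, map_one])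
  have hP4 : Nat.card (P : Subgroup (X ⧸ zpowers c)) = 4 := by
    have hle : 4 ∣ Nat.card (P : Subgroup (X ⧸ zpowers c)) := by
      refine P.pow_dvd_card_of_pow_dvd_card (n := 2) ?_
      rw [show (2 : ℕ) ^ 2 = 4 by norm_num]
      exact (Nat.card_congr eL.toEquiv ▸ h4).trans (L.map π).card_subgroup_dvd_card
    have hTc : Nat.card T = Nat.card (zpowers c) * Nat.card (P : Subgroup (X ⧸ zpowers c)) := by
      have h := GW.card_eq_ker_mul (π := π) T
      rw [hTP, hπ, QuotientGroup.ker_mk'] at h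
      rw [h, inf_eq_left.2 ?_]
      intro y hy
      show π y ∈ (P : Subgroup (X ⧸ zpowers c))
      rw [show π y = 1 from (QuotientGroup.eq_one_iff y).2 hy]
      exact one_mem _
    rw [hTc, Nat.card_zpowers, hc] at hT8
    have := Nat.le_of_dvd Nat.card_pos hle
    omega
  haveI := isKleinFour_of_card hP4 hP2
  haveI : IsKleinFour (DihedralGroup 2) := inferInstance
  obtain ⟨eP⟩ : Nonempty ((P : Subgroup (X ⧸ zpowers c)) ≃* DihedralGroup 2) :=
    IsKleinFour.nonempty_mulEquiv
  exact ⟨F, iF, fF, hLn, ⟨⟨eL.symm.trans e, hcent, Nat.odd_iff.2 (by omega), by omega,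
    GW.dihType_of_sylow P eP⟩⟩⟩

/-- An odd-order element of a group of type `PSL₂` centralizing a four-group is trivial. -/
theorem eq_one_of_commute_four {L : Type*} [Group L] (hL : IsPSLOdd L) {a b k : L}
    (ha : orderOf a = 2) (hb : orderOf b = 2) (hne : a ≠ b) (hab : a * b = b * a)
    (hk : Odd (orderOf k)) (hka : k * a = a * k) (hkb : k * b = b * k) : k = 1 := by
  obtain ⟨F, iF, fF, h8, -, ⟨e⟩⟩ := hL
  refine e.injective ((GW.eq_one_of_commute_four_psl (Nat.odd_iff.2 (by omega))
    (a := e a) (b := e b) (k := e k) (by rw [MulEquiv.orderOf_eq, ha])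
    (by rw [MulEquiv.orderOf_eq, hb]) (e.injective.ne hne) (by rw [← map_mul, ← map_mul, hab])
    (by rw [MulEquiv.orderOf_eq]; exact hk) (by rw [← map_mul, ← map_mul, hka])
    (by rw [← map_mul, ← map_mul, hkb])).trans (map_one e).symm)

/-- An odd subgroup centralizing a four-group of the component and normalized by the centralizer in
the component of one of its involutions is trivial. -/
theorem eq_bot_of_four (hX : TwoType X) (hL : IsPSLOdd L) (hc : orderOf c = 2) (hcL : c ∉ L)
    [(zpowers c).Normal] (hC : centralizer (L : Set X) = zpowers c) {a b : X} (haL : a ∈ L)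
    (hbL : b ∈ L) (ha : orderOf a = 2) (hb : orderOf b = 2) (hne : a ≠ b) (hab : Commute a b)
    {Y : Subgroup X} (hY : Odd (Nat.card Y)) (hYab : ∀ y ∈ Y, Commute y a ∧ Commute y b)
    (hnorm : ∀ t ∈ L, Commute a t → ∀ y ∈ Y, t * y * t⁻¹ ∈ Y) : Y = ⊥ := by
  have hYL : ∀ y ∈ Y, y ∈ L → y = 1 := fun y hy hyL => congrArg Subtype.val
    (eq_one_of_commute_four hL (a := ⟨a, haL⟩) (b := ⟨b, hbL⟩) (k := ⟨y, hyL⟩)
      (by rwa [Subgroup.orderOf_mk]) (by rwa [Subgroup.orderOf_mk])
      (fun e => hne (congrArg Subtype.val e)) (Subtype.ext hab.eq)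
      (by rw [Subgroup.orderOf_mk]; exact hY.of_dvd_nat (Y.orderOf_dvd_natCard hy))
      (Subtype.ext (hYab y hy).1.eq) (Subtype.ext (hYab y hy).2.eq))
  by_contra hbot
  obtain ⟨p, hp, hpY⟩ := Nat.exists_prime_and_dvd (n := Nat.card Y) fun h =>
    hbot (eq_bot_of_card_eq _ h)
  haveI := Fact.mk hp
  obtain ⟨y, hy⟩ := exists_prime_orderOf_dvd_card' (G := Y) p hpY
  rw [← orderOf_coe] at hy
  have hp2 : p ≠ 2 := by
    rintro rfl
    exact hY.not_two_dvd_nat hpY
  -- the centralizer of `a` in `L` commutes with `y`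
  have hcomm : ∀ t ∈ L, Commute a t → Commute (y : X) t := fun t ht hat => by
    have h1 : t * y * t⁻¹ * (y : X)⁻¹ = 1 := hYL _ (mul_mem (hnorm t ht hat _ y.2) (inv_mem y.2))
      (by
        rw [show t * (y : X) * t⁻¹ * (y : X)⁻¹ = t * ((y : X) * t⁻¹ * (y : X)⁻¹) by group]
        exact mul_mem ht ((inferInstance : L.Normal).conj_mem _ (inv_mem ht) y))
    calc (y : X) * t = 1 * ((y : X) * t) := (one_mul _).symm
      _ = t * y * t⁻¹ * (y : X)⁻¹ * ((y : X) * t) := by rw [h1]
      _ = t * y := by group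
  obtain ⟨F, iF, fF, hLn, ⟨m⟩⟩ := exists_model hX hL hc hcL hC
  set π := QuotientGroup.mk' (zpowers c)
  haveI := hLn
  have hcc := Small.mul_self_of_orderOf_two hc
  have hπa : orderOf (π a) = 2 := by
    refine Small.orderOf_eq_two_iff_sq.2 ⟨fun h => ?_, ?_⟩
    · exact Small.ne_one_of_orderOf_two ha
        (disjoint_zpowers hcc hcL ((QuotientGroup.eq_one_iff a).1 h) haL)
    · rw [← map_mul, Small.mul_self_of_orderOf_two ha, map_one]
  have hmem := GW.OS.Model.mem_of_commute_torus m (e := π y) hπa hp hp2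
    ⟨1, by rw [pow_one, ← map_pow, ← hy, pow_orderOf_eq_one, map_one]⟩
    (((hYab y y.2).1.symm).map π) fun t ht hat _ _ => by
      obtain ⟨l, hl, rfl⟩ := ht
      refine (hcomm l hl ?_).map π
      have h1 : a * l * a⁻¹ * l⁻¹ = 1 := by
        refine disjoint_zpowers hcc hcL ((QuotientGroup.eq_one_iff _).1 ?_) ?_
        · show π (a * l * a⁻¹ * l⁻¹) = 1
          rw [map_mul, map_mul, map_mul, map_inv, map_inv, hat.eq]
          group
        · exact mul_mem (mul_mem (mul_mem haL hl) (inv_mem haL)) (inv_mem hl)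
      calc a * l = a * l * a⁻¹ * l⁻¹ * (l * a) := by group
        _ = l * a := by rw [h1, one_mul]
  obtain ⟨l, hl, hly⟩ := hmem
  obtain ⟨i, hi⟩ := QuotientGroup.eq.1 hly
  have hyl : (y : X) = l * c ^ i := by
    rw [show c ^ i = l⁻¹ * (y : X) from hi, mul_inv_cancel_left]
  have hy2 : (y : X) ^ 2 ∈ L := by
    have hcen : Commute l (c ^ i) := (mem_centralizer_iff.1
      (hC.ge (zpow_mem (mem_zpowers c) i)) l hl)
    rw [hyl, hcen.mul_pow, show (c ^ i) ^ 2 = 1 by
      rw [← zpow_natCast, ← zpow_mul, mul_comm, zpow_mul, zpow_natCast, pow_two, hcc, one_zpow],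
      mul_one]
    exact pow_mem hl 2
  have hyL : (y : X) ∈ L := by
    obtain ⟨j, hj⟩ := hp.odd_of_ne_two hp2
    have h := pow_orderOf_eq_one (y : X)
    rw [hy, hj, pow_succ, pow_mul] at h
    rw [eq_inv_of_mul_eq_one_right h]
    exact inv_mem (pow_mem hy2 j)
  rw [hYL _ y.2 hyL, orderOf_one] at hy
  exact hp.ne_one hy.symm

end CfsgLib.Walter
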