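import Cfsg.Agent.Walter.Rotation
import Cfsg.Agent.Walter.Known
import Cfsg.Agent.Linear.Perfect

/-!
# Walter, rank three: the structure of an involution centralizer

With nonsolvable centralizers, `C(z)/O(C(z))` has a normal subgroup `L ≅ PSL₂(q)` not containing the
image of `z`, centralized only by that image, and `L ⊔ ⟨z̄⟩` has odd index.  The perfect residual
`residual z` of `C(z)` maps onto `L` and meets a Sylow 2-subgroup `S ∋ z` in the line of `z`.
-/

set_option autoImplicit false
set_option linter.style.haveILetI false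
set_option linter.unusedSectionVars false

open Subgroup

namespace CfsgLib.Walter

universe u

variable {G : Type u} [Group G]

theorem mem_centralizer_self (z : G) : z ∈ centralizer ({z} : Set G) :=
  mem_centralizer_singleton_iff.2 rfl

/-- The image of `z` in `C(z)/O(C(z))`. -/
noncomputable def zbar (z : G) :
    centralizer ({z} : Set G) ⧸ Cfsg.oddCore (centralizer ({z} : Set G)) :=
  QuotientGroup.mk ⟨z, mem_centralizer_self z⟩

/-- The component of `C(z)/O(C(z))`. -/
structure Top (z : G)
    (L : Subgroup (centralizer ({z} : Set G) ⧸ Cfsg.oddCore (centralizer ({z} : Set G)))) : Prop where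
  normal : L.Normal
  psl : IsPSLOdd L
  zbar_notMem : zbar z ∉ L
  centralizer_eq : centralizer (L : Set _) = zpowers (zbar z)
  odd_index : Odd (L ⊔ zpowers (zbar z)).index

/-- The perfect residual of `C(z)`. -/
noncomputable def residual (z : G) : Subgroup G :=
  (⨅ n, derivedSeries (centralizer ({z} : Set G)) n).map (centralizer ({z} : Set G)).subtype

theorem residual_le (z : G) : residual z ≤ centralizer ({z} : Set G) := map_subtype_le _

theorem centralizer_le_normalizer_residual (z : G) :
    centralizer ({z} : Set G) ≤ normalizer (residual z : Set G) := by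
  haveI : ∀ n, (derivedSeries (centralizer ({z} : Set G)) n).Normal := derivedSeries_normal _
  haveI : (⨅ n, derivedSeries (centralizer ({z} : Set G)) n).Normal := normal_iInf_normal this
  have h := le_normalizer_map (H := ⨅ n, derivedSeries (centralizer ({z} : Set G)) n)
    (centralizer ({z} : Set G)).subtype
  rwa [normalizer_eq_top, ← MonoidHom.range_eq_map, range_subtype] at h

section Finite

variable [Finite G]

theorem exists_iInf_derivedSeries (X : Type*) [Group X] [Finite X] :
    ∃ n, ⨅ i, derivedSeries X i = derivedSeries X n ∧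
      ⁅derivedSeries X n, derivedSeries X n⁆ = derivedSeries X n := by
  obtain ⟨n, hn⟩ := exists_perfect_normal X
  refine ⟨n, le_antisymm (iInf_le _ _) (le_iInf fun i => ?_), hn⟩
  have hstab : ∀ k, derivedSeries X (n + k) = derivedSeries X n := by
    intro k
    induction k with
    | zero => rfl
    | succ k ih => rw [← add_assoc, derivedSeries_succ, ih, hn]
  rw [← hstab i]
  exact derivedSeries_antitone _ (Nat.le_add_left i n)

theorem residual_perfect (z : G) : ⁅residual z, residual z⁆ = residual z := by
  obtain ⟨n, e, hn⟩ := exists_iInf_derivedSeries (centralizer ({z} : Set G))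
  rw [residual, e, ← map_commutator, hn]

end Finite

/-- Every perfect subgroup of `C(z)` lies in the residual. -/
theorem le_residual {z : G} {P : Subgroup G} (hP : P ≤ centralizer ({z} : Set G))
    (h : ⁅P, P⁆ = P) : P ≤ residual z := by
  have hperf : ⁅P.subgroupOf (centralizer ({z} : Set G)), P.subgroupOf (centralizer ({z} : Set G))⁆ =
      P.subgroupOf (centralizer ({z} : Set G)) := by
    apply map_injective (centralizer ({z} : Set G)).subtype_injective
    rw [map_commutator, map_subgroupOf_eq_of_le hP, h]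
  have hall : ∀ n, P.subgroupOf (centralizer ({z} : Set G)) ≤
      derivedSeries (centralizer ({z} : Set G)) n := by
    intro n
    induction n with
    | zero => exact le_top
    | succ n ih =>
      rw [derivedSeries_succ, ← hperf]
      exact commutator_mono ih ih
  rw [residual, ← map_subgroupOf_eq_of_le hP]
  exact map_mono (le_iInf hall)

theorem split_iff [Finite G] {z : G} :
    Split z ↔ residual z ≤ centralizer (GW.core z : Set G) :=
  ⟨fun h => h _ (residual_le z) (residual_perfect z), fun h _ hP hperf =>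
    (le_residual hP hperf).trans h⟩

theorem map_conj_centralizer_singleton (g z : G) :
    (centralizer ({z} : Set G)).map (MulAut.conj g).toMonoidHom =
      centralizer ({g * z * g⁻¹} : Set G) := by
  ext x
  rw [mem_map_equiv, mem_centralizer_singleton_iff, mem_centralizer_singleton_iff, MulAut.conj_symm_apply]
  constructor <;> intro h
  · calc x * (g * z * g⁻¹) = g * (g⁻¹ * x * g * z) * g⁻¹ := by group
      _ = g * (z * (g⁻¹ * x * g)) * g⁻¹ := by rw [h]
      _ = _ := by group
  · calc g⁻¹ * x * g * z = g⁻¹ * (x * (g * z * g⁻¹)) * g := by group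
      _ = g⁻¹ * (g * z * g⁻¹ * x) * g := by rw [h]
      _ = _ := by group

theorem residual_conj [Finite G] (g z : G) :
    (residual z).map (MulAut.conj g).toMonoidHom = residual (g * z * g⁻¹) := by
  have key : ∀ g z : G, (residual z).map (MulAut.conj g).toMonoidHom ≤ residual (g * z * g⁻¹) :=
    fun g z => le_residual (map_conj_centralizer_singleton g z ▸ map_mono (residual_le z))
      (by rw [← map_commutator, residual_perfect])
  refine le_antisymm (key g z) fun x hx => ?_
  have h := key g⁻¹ (g * z * g⁻¹) ⟨x, hx, rfl⟩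
  rw [show g⁻¹ * (g * z * g⁻¹) * g⁻¹⁻¹ = z by group] at h
  exact ⟨_, h, by simp [mul_assoc]⟩

theorem core_conj [Finite G] (g z : G) :
    (GW.core z).map (MulAut.conj g).toMonoidHom = GW.core (g * z * g⁻¹) := by
  have key : ∀ g z : G, (GW.core z).map (MulAut.conj g).toMonoidHom ≤ GW.core (g * z * g⁻¹) := by
    intro g z
    set N := (GW.core z).map (MulAut.conj g).toMonoidHom
    have hC := map_conj_centralizer_singleton g z
    have hle : N ≤ centralizer ({g * z * g⁻¹} : Set G) := hC ▸ map_mono (GW.core_le z)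
    have hn : centralizer ({g * z * g⁻¹} : Set G) ≤ normalizer (N : Set G) := by
      rw [← hC]
      exact (map_mono (GW.centralizer_le_normalizer_core z)).trans (le_normalizer_map _)
    haveI := (normal_subgroupOf_iff_le_normalizer hle).2 hn
    have hodd : ¬ 2 ∣ Nat.card (N.subgroupOf (centralizer ({g * z * g⁻¹} : Set G))) := by
      rw [Nat.card_congr (subgroupOfEquivOfLe hle).toEquiv,
        card_map_of_injective (MulAut.conj g).injective]
      exact (GW.odd_core z).not_two_dvd_nat
    rw [GW.core, ← map_subgroupOf_eq_of_le hle]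
    exact map_mono (CfsgLib.PLocal.le_pPrimeCore (CfsgLib.PLocal.not_dvd_iff_coprime.2 hodd))
  refine le_antisymm (key g z) fun x hx => ?_
  have h := key g⁻¹ (g * z * g⁻¹) ⟨x, hx, rfl⟩
  rw [show g⁻¹ * (g * z * g⁻¹) * g⁻¹⁻¹ = z by group] at h
  exact ⟨_, h, by simp [mul_assoc]⟩

theorem split_conj [Finite G] {g z : G} (h : Split z) : Split (g * z * g⁻¹) := by
  rw [split_iff] at h ⊢
  rw [← residual_conj, ← core_conj]
  rintro _ ⟨r, hr, rfl⟩
  refine mem_centralizer_iff.2 ?_
  rintro _ ⟨k, hk, rfl⟩
  rw [← map_mul, ← map_mul, mem_centralizer_iff.1 (h hr) k hk]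

theorem IsPSLOdd.isSimpleGroup {L : Type*} [Group L] (h : IsPSLOdd L) : IsSimpleGroup L := by
  obtain ⟨F, iF, fF, -, h5, ⟨e⟩⟩ := h
  haveI := Linear.isSimpleGroup_PSL_of (F := F) 2 le_rfl (fun _ => by omega)
  haveI := e.toEquiv.nontrivial
  exact IsSimpleGroup.isSimpleGroup_of_surjective e.symm.toMonoidHom e.symm.surjective

theorem IsPSLOdd.four_dvd {L : Type*} [Group L] (h : IsPSLOdd L) : 4 ∣ Nat.card L := by
  obtain ⟨F, iF, fF, h8, -, ⟨e⟩⟩ := h
  have h2 := Linear.card_PSL_two_odd (F := F) (Nat.odd_iff.2 (by omega))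
  rw [Nat.card_congr e.toEquiv]
  have : 8 ∣ Fintype.card F ^ 2 - 1 := by
    obtain ⟨c, hc⟩ : ∃ c, Fintype.card F = 2 * c + 1 := ⟨Fintype.card F / 2, by omega⟩
    obtain ⟨d, hd⟩ := Nat.two_dvd_mul_add_one c
    exact ⟨d, Nat.sub_eq_of_eq_add (by rw [hc]; linear_combination 4 * hd)⟩
  have : 8 ∣ 2 * Nat.card (Matrix.ProjectiveSpecialLinearGroup (Fin 2) F) := by
    rw [h2]; exact this.mul_left _
  omega

theorem IsPSLOdd.not_isMulCommutative {L : Type*} [Group L] [Finite L] (h : IsPSLOdd L) :
    ¬ IsMulCommutative L := by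
  intro hc
  haveI := h.isSimpleGroup
  have hp := Small.card_prime_of_simple_comm hc
  have h4 := h.four_dvd
  rcases (Nat.dvd_prime hp).1 h4 with h' | h'
  · omega
  · exact absurd (h' ▸ hp) (by norm_num)

theorem IsPSLOdd.center_eq_bot {L : Type*} [Group L] [Finite L] (h : IsPSLOdd L) :
    Subgroup.center L = ⊥ := by
  haveI := h.isSimpleGroup
  rcases IsSimpleGroup.eq_bot_or_eq_top_of_normal _ (inferInstance : (Subgroup.center L).Normal) with
    h' | h'
  · exact h'
  · exact absurd ⟨⟨fun p q => (Subgroup.mem_center_iff.1 (h' ▸ mem_top p) q).symm⟩⟩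
      h.not_isMulCommutative

namespace Minimal

variable [Finite G] (hG : Minimal G)
include hG

theorem orderOf_zbar {z : G} (hz : orderOf z = 2) : orderOf (zbar z) = 2 := by
  refine Small.orderOf_eq_two_iff_sq.2 ⟨fun h => ?_, ?_⟩
  · rw [zbar, QuotientGroup.eq_one_iff] at h
    have := (Inv54.odd_card_oddCore (G := centralizer ({z} : Set G))).of_dvd_nat
      ((Cfsg.oddCore (centralizer ({z} : Set G))).orderOf_dvd_natCard h)
    rw [← orderOf_coe, Subgroup.coe_mk, hz] at this
    exact absurd this (by decide)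
  · rw [zbar, ← QuotientGroup.mk_mul, ← QuotientGroup.mk_one]
    exact congrArg _ (Subtype.ext (Small.mul_self_of_orderOf_two hz))

theorem zbar_central (z : G)
    (x : centralizer ({z} : Set G) ⧸ Cfsg.oddCore (centralizer ({z} : Set G))) :
    x * zbar z = zbar z * x := by
  obtain ⟨c, rfl⟩ := QuotientGroup.mk_surjective x
  rw [zbar, ← QuotientGroup.mk_mul, ← QuotientGroup.mk_mul]
  exact congrArg _ (Subtype.ext (mem_centralizer_singleton_iff.1 c.2))

variable (hnsol : ∀ a : G, orderOf a = 2 → ¬ Group.IsSolvable (centralizer ({a} : Set G)))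
include hnsol

/-- The structure of the centralizer of an involution. -/
theorem centralizer_top {z : G} (hz : orderOf z = 2) : ∃ L, Top z L := by
  set C := centralizer ({z} : Set G)
  have hz2 := hG.orderOf_zbar hz
  rcases hG.known C (hG.centralizer_ne_top hz) with h | ⟨L, hLn, hpsl, hC2, hidx⟩ |
      ⟨L, -, -, hC1, -⟩
  · haveI : Group.IsSolvable (C ⧸ Cfsg.oddCore C) := h
    haveI : Group.IsSolvable (Cfsg.oddCore C) := Cfsg.Agent.S0205.result Inv54.odd_card_oddCore
    exact absurd (Group.isSolvable_of_ker_le_range (Cfsg.oddCore C).subtype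
      (QuotientGroup.mk' (Cfsg.oddCore C)) (by simp)) (hnsol z hz)
  · have hzC : zbar z ∈ centralizer (L : Set (C ⧸ Cfsg.oddCore C)) :=
      mem_centralizer_iff.2 fun y _ => hG.zbar_central z y
    have hnot : zbar z ∉ L := fun hzL => by
      have : (⟨zbar z, hzL⟩ : L) ∈ Subgroup.center L :=
        Subgroup.mem_center_iff.2 fun y => Subtype.ext (hG.zbar_central z y)
      rw [hpsl.center_eq_bot, mem_bot] at this
      exact Small.ne_one_of_orderOf_two hz2 (congrArg Subtype.val this)
    have heq : centralizer (L : Set (C ⧸ Cfsg.oddCore C)) = zpowers (zbar z) :=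
      (eq_of_le_of_card_ge (zpowers_le.2 hzC) (by rw [Nat.card_zpowers, hz2]; exact hC2)).symm
    exact ⟨L, hLn, hpsl, hnot, heq, heq ▸ hidx⟩
  · exfalso
    have hzC : zbar z ∈ centralizer (L : Set (C ⧸ Cfsg.oddCore C)) :=
      mem_centralizer_iff.2 fun y _ => hG.zbar_central z y
    rw [hC1, mem_bot] at hzC
    exact Small.ne_one_of_orderOf_two hz2 hzC

omit hnsol in
/-- Perfect subgroups of `C(z)` map into the component. -/
theorem isSolvable_quotient_top {z : G}
    {L : Subgroup (centralizer ({z} : Set G) ⧸ Cfsg.oddCore (centralizer ({z} : Set G)))}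
    [L.Normal] (hT : Top z L) :
    Group.IsSolvable ((centralizer ({z} : Set G) ⧸ Cfsg.oddCore (centralizer ({z} : Set G))) ⧸ L) := by
  let Q := centralizer ({z} : Set G) ⧸ Cfsg.oddCore (centralizer ({z} : Set G))
  haveI hZn : (zpowers (zbar z)).Normal := hT.centralizer_eq ▸ inferInstance
  set M : Subgroup Q := L ⊔ zpowers (zbar z) with hM
  let f : Q ⧸ L →* Q ⧸ M := QuotientGroup.map L M (MonoidHom.id Q) le_sup_left
  haveI : Group.IsSolvable (Q ⧸ M) :=
    Cfsg.Agent.S0205.result (by rw [← index_eq_card]; exact hT.odd_index)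
  haveI : Group.IsSolvable (zpowers (zbar z)) := Group.isSolvable_of_comm fun a b => mul_comm' a b
  refine Group.isSolvable_of_ker_le_range
    ((QuotientGroup.mk' L).comp (zpowers (zbar z)).subtype) f fun x hx => ?_
  obtain ⟨q, rfl⟩ := QuotientGroup.mk_surjective x
  have hq : q ∈ M := (QuotientGroup.eq_one_iff q).1 hx
  rw [hM, ← SetLike.mem_coe, normal_mul] at hq
  obtain ⟨l, hl, w, hw, rfl⟩ := hq
  refine ⟨⟨w, hw⟩, ?_⟩
  show QuotientGroup.mk' L w = QuotientGroup.mk' L (l * w)
  rw [map_mul, show QuotientGroup.mk' L l = 1 from (QuotientGroup.eq_one_iff l).2 hl, one_mul]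

variable {S : Sylow 2 G}

omit hnsol in
/-- An element of `S` lies over the component iff it is on the line. -/
theorem mk_mem_top_iff {z n : G} (h : Rot S z n)
    {L : Subgroup (centralizer ({z} : Set G) ⧸ Cfsg.oddCore (centralizer ({z} : Set G)))}
    (hT : Top z L) {s : centralizer ({z} : Set G)} (hs : (s : G) ∈ (S : Subgroup G)) :
    (QuotientGroup.mk s : centralizer ({z} : Set G) ⧸ _) ∈ L ↔ OnLine S n s := by
  let Q := (centralizer ({z} : Set G)) ⧸ Cfsg.oddCore (centralizer ({z} : Set G))
  haveI := hT.normal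
  have hSC := hG.sylow_le_centralizer_singleton S h.mem
  have hnC : n ∈ (centralizer ({z} : Set G)) := mem_centralizer_singleton_iff.2 h.comm.eq
  haveI hZn : (zpowers (zbar z)).Normal := hT.centralizer_eq ▸ inferInstance
  -- modulo `L`, elements of `S` are central
  let π : Q →* Q ⧸ L := QuotientGroup.mk' L
  have hcen : ∀ t : (centralizer ({z} : Set G)), (t : G) ∈ (S : Subgroup G) → ∀ g : Q,
      π g * π (QuotientGroup.mk t) = π (QuotientGroup.mk t) * π g := by
    intro t ht g
    set tq : Q := QuotientGroup.mk t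
    have htm : tq ∈ L ⊔ zpowers (zbar z) := by
      have hp : tq ^ (L ⊔ zpowers (zbar z)).index ∈ L ⊔ zpowers (zbar z) := pow_index_mem _ tq
      have h2 : tq * tq = 1 := by
        rw [← QuotientGroup.mk_mul, ← QuotientGroup.mk_one]
        exact congrArg _ (Subtype.ext (hG.sq S _ ht))
      obtain ⟨k, hk⟩ := hT.odd_index
      rwa [hk, pow_succ, pow_mul, pow_two, h2, one_pow, one_mul] at hp
    rw [← SetLike.mem_coe, normal_mul] at htm
    obtain ⟨l, hl, w, hw, hlw⟩ := htm
    rw [← hlw]
    show π g * π (l * w) = π (l * w) * π g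
    rw [map_mul π l w, show π l = 1 from (QuotientGroup.eq_one_iff l).2 hl, one_mul, ← map_mul,
      ← map_mul]
    obtain ⟨i, rfl⟩ := hw
    exact congrArg _ (Commute.zpow_right (show Commute g (zbar z) from hG.zbar_central z g) i).eq
  have hline : ∀ x : (centralizer ({z} : Set G)), OnLine S n x → (QuotientGroup.mk x : Q) ∈ L := by
    intro x hx
    obtain ⟨r, hr, he⟩ := hx
    let nC : (centralizer ({z} : Set G)) := ⟨n, hnC⟩
    let rC : (centralizer ({z} : Set G)) := ⟨r, hSC hr⟩
    have hxe : x = nC * rC * nC⁻¹ * rC := Subtype.ext he.symm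
    refine (QuotientGroup.eq_one_iff _).1 (show π (QuotientGroup.mk x) = 1 from ?_)
    rw [hxe]
    simp only [QuotientGroup.mk_mul, QuotientGroup.mk_inv, map_mul, map_inv]
    rw [hcen rC hr, mul_inv_cancel_right, ← map_mul, ← QuotientGroup.mk_mul,
      show rC * rC = 1 from Subtype.ext (hG.sq S r hr)]
    simp
  refine ⟨fun hsL => ?_, hline s⟩
  obtain ⟨y, hy, e | e⟩ := hG.exists_onLine_mul h hs
  · exact e ▸ hy
  · exfalso
    have hyC : y ∈ (centralizer ({z} : Set G)) := hSC (hG.onLine_mem h hy)
    have hyL := hline ⟨y, hyC⟩ hy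
    refine hT.zbar_notMem ((mul_mem_cancel_right hyL).1 ?_)
    rw [zbar, ← QuotientGroup.mk_mul]
    convert hsL using 2
    exact Subtype.ext e.symm

/-- The residual maps onto the component. -/
theorem residual_map {z : G} (hz : orderOf z = 2)
    {L : Subgroup (centralizer ({z} : Set G) ⧸ Cfsg.oddCore (centralizer ({z} : Set G)))}
    (hT : Top z L) :
    ((residual z).subgroupOf (centralizer ({z} : Set G))).map (QuotientGroup.mk' _) = L := by
  haveI := hT.normal
  obtain ⟨n, hne, hn⟩ := exists_iInf_derivedSeries (centralizer ({z} : Set G))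
  have hR : (residual z).subgroupOf (centralizer ({z} : Set G)) = derivedSeries (centralizer ({z} : Set G)) n := by
    rw [residual, hne]
    exact comap_map_eq_self_of_injective (centralizer ({z} : Set G)).subtype_injective _
  rw [hR]
  set I := (derivedSeries (centralizer ({z} : Set G)) n).map (QuotientGroup.mk' (Cfsg.oddCore (centralizer ({z} : Set G))))
  haveI := derivedSeries_normal (centralizer ({z} : Set G)) n
  haveI hIn : I.Normal := Normal.map inferInstance _ (QuotientGroup.mk'_surjective _)
  have hIL : I ≤ L := by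
    obtain ⟨m, hm⟩ := (Group.isSolvable_def (G := ((centralizer ({z} : Set G)) ⧸ Cfsg.oddCore (centralizer ({z} : Set G))) ⧸ L)).1
      (hG.isSolvable_quotient_top hT)
    have hstab : ∀ k, derivedSeries (centralizer ({z} : Set G)) (n + k) = derivedSeries (centralizer ({z} : Set G)) n := by
      intro k
      induction k with
      | zero => rfl
      | succ k ih => rw [← add_assoc, derivedSeries_succ, ih, hn]
    intro x hx
    obtain ⟨c, hc, rfl⟩ := hx
    rw [← QuotientGroup.eq_one_iff, ← mem_bot, ← hm]
    refine derivedSeries_antitone _ (Nat.le_add_left m n) ?_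
    exact map_derivedSeries_le_derivedSeries ((QuotientGroup.mk' L).comp (QuotientGroup.mk' _))
      (n + m) ⟨c, (hstab m).ge hc, rfl⟩
  haveI := hT.psl.isSimpleGroup
  rcases IsSimpleGroup.eq_bot_or_eq_top_of_normal _
    (inferInstance : (I.subgroupOf L).Normal) with h | h
  · exfalso
    refine hnsol z hz ?_
    have hle : derivedSeries (centralizer ({z} : Set G)) n ≤ Cfsg.oddCore (centralizer ({z} : Set G)) := by
      rw [← QuotientGroup.ker_mk' (Cfsg.oddCore (centralizer ({z} : Set G))), ← MonoidHom.comap_bot, ← map_le_iff_le_comap]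
      have := congrArg (map L.subtype) h
      rw [map_subgroupOf_eq_of_le hIL, Subgroup.map_bot] at this
      exact this.le
    haveI : Group.IsSolvable (Cfsg.oddCore (centralizer ({z} : Set G))) := Cfsg.Agent.S0205.result Inv54.odd_card_oddCore
    obtain ⟨m, hm⟩ := (Group.isSolvable_def (G := Cfsg.oddCore (centralizer ({z} : Set G)))).1 inferInstance
    refine (Group.isSolvable_def (G := (centralizer ({z} : Set G)))).2 ⟨n + m, eq_bot_iff.2 ?_⟩
    have key : ∀ k, derivedSeries (centralizer ({z} : Set G)) (n + k) ≤ (derivedSeries (Cfsg.oddCore (centralizer ({z} : Set G))) k).map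
        (Cfsg.oddCore (centralizer ({z} : Set G))).subtype := by
      intro k
      induction k with
      | zero => rw [derivedSeries_zero, ← MonoidHom.range_eq_map, range_subtype]; exact hle
      | succ k ih =>
        rw [← add_assoc, derivedSeries_succ, derivedSeries_succ, map_commutator]
        exact commutator_mono ih ih
    refine (key m).trans ?_
    rw [hm, Subgroup.map_bot]
  · exact le_antisymm hIL (subgroupOf_eq_top.1 h)

/-- The residual meets `S` in the line. -/
theorem mem_residual_iff {z n : G} (h : Rot S z n) {s : G} (hs : s ∈ (S : Subgroup G)) :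
    s ∈ residual z ↔ OnLine S n s := by
  set C := centralizer ({z} : Set G)
  have hz := hG.orderOf_sylow S h.mem h.ne
  obtain ⟨L, hT⟩ := hG.centralizer_top hnsol hz
  have hmap := hG.residual_map hnsol hz hT
  have hsC : s ∈ C := hG.sylow_le_centralizer_singleton S h.mem hs
  rw [← hG.mk_mem_top_iff h hT (s := ⟨s, hsC⟩) hs, ← hmap]
  refine ⟨fun hsr => ⟨⟨s, hsC⟩, hsr, rfl⟩, fun hm => ?_⟩
  haveI hRn : ((residual z).subgroupOf C).Normal :=
    (normal_subgroupOf_iff_le_normalizer (residual_le z)).2 (centralizer_le_normalizer_residual z)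
  obtain ⟨p, hp, he⟩ := hm
  set o : C := p⁻¹ * ⟨s, hsC⟩
  have ho : o ∈ Cfsg.oddCore C := QuotientGroup.eq.1 he
  set k := orderOf o
  obtain ⟨j, hj⟩ : Odd k := Inv54.odd_card_oddCore.of_dvd_nat
    ((Cfsg.oddCore C).orderOf_dvd_natCard ho)
  have hsP : (⟨s, hsC⟩ : C) ∈ (residual z).subgroupOf C := by
    rw [← QuotientGroup.eq_one_iff]
    set π := QuotientGroup.mk' ((residual z).subgroupOf C)
    have h1 : π ⟨s, hsC⟩ = π o := by
      rw [show (⟨s, hsC⟩ : C) = p * o from (mul_inv_cancel_left _ _).symm, map_mul,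
        show π p = 1 from (QuotientGroup.eq_one_iff p).2 hp, one_mul]
    have h2 : π o ^ k = 1 := by rw [← map_pow, pow_orderOf_eq_one, map_one]
    have h3 : π o * π o = 1 := by
      rw [← h1, ← map_mul, show (⟨s, hsC⟩ : C) * ⟨s, hsC⟩ = 1 from Subtype.ext (hG.sq S s hs),
        map_one]
    show π ⟨s, hsC⟩ = 1
    rw [h1]
    rwa [hj, pow_succ, pow_mul, pow_two, h3, one_pow, one_mul] at h2
  exact hsP

theorem centre_notMem_residual {z n : G} (h : Rot S z n) : z ∉ residual z := fun hz =>
  hG.centre_not_onLine h ((hG.mem_residual_iff hnsol h h.mem).1 hz)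

/-- The centralizer of an involution with trivial core: the residual is `PSL₂(q)`. -/
theorem exists_component {z : G} (hz : orderOf z = 2) (hO : GW.core z = ⊥) :
    ∃ L : Subgroup G, L ≤ centralizer ({z} : Set G) ∧
      centralizer ({z} : Set G) ≤ normalizer (L : Set G) ∧ IsPSLOdd L ∧ z ∉ L ∧
      centralizer (L : Set G) ⊓ centralizer ({z} : Set G) = zpowers z ∧
      Odd ((L ⊔ zpowers z).relIndex (centralizer ({z} : Set G))) := by
  obtain ⟨L, hT⟩ := hG.centralizer_top hnsol hz
  have hmap := hG.residual_map hnsol hz hT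
  set π := QuotientGroup.mk' (Cfsg.oddCore (centralizer ({z} : Set G))) with hπ
  have hO' : Cfsg.oddCore (centralizer ({z} : Set G)) = ⊥ :=
    (map_eq_bot_iff_of_injective _ (centralizer ({z} : Set G)).subtype_injective).1 hO
  have hinj : Function.Injective π := (MonoidHom.ker_eq_bot_iff π).1 (by
    rw [hπ, QuotientGroup.ker_mk', hO'])
  set zC : centralizer ({z} : Set G) := ⟨z, mem_centralizer_self z⟩
  set R := (residual z).subgroupOf (centralizer ({z} : Set G))
  obtain ⟨F, iF, fF, h8, h5, ⟨e⟩⟩ := hT.psl
  refine ⟨residual z, residual_le z, centralizer_le_normalizer_residual z, ⟨F, iF, fF, h8, h5,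
    ⟨(subgroupOfEquivOfLe (residual_le z)).symm.trans ((R.equivMapOfInjective π hinj).trans
      ((MulEquiv.subgroupCongr hmap).trans e))⟩⟩, ?_, ?_, ?_⟩
  · intro h
    refine hT.zbar_notMem ?_
    rw [← hmap]
    exact ⟨zC, h, rfl⟩
  · refine le_antisymm (fun x hx => ?_) (zpowers_le.2 ⟨mem_centralizer_iff.2 fun y hy =>
      mem_centralizer_singleton_iff.1 (residual_le z hy), mem_centralizer_self z⟩)
    have hxb : π ⟨x, hx.2⟩ ∈ zpowers (zbar z) := by
      rw [← hT.centralizer_eq, ← hmap]
      refine mem_centralizer_iff.2 fun w hw => ?_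
      obtain ⟨y, hy, rfl⟩ := hw
      rw [← map_mul, ← map_mul]
      exact congrArg π (Subtype.ext (mem_centralizer_iff.1 hx.1 _ hy))
    obtain ⟨i, hi⟩ := hxb
    refine ⟨i, ?_⟩
    have : π (zC ^ i) = π ⟨x, hx.2⟩ := (map_zpow π zC i).trans hi
    simpa [zC] using congrArg Subtype.val (hinj this)
  · have hz' : zpowers z ≤ centralizer ({z} : Set G) := zpowers_le.2 (mem_centralizer_self z)
    have hsub : (residual z ⊔ zpowers z).subgroupOf (centralizer ({z} : Set G)) =
        R ⊔ zpowers zC := by
      rw [subgroupOf_sup (residual_le z) hz']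
      congr 1
      have hzz : zpowers z = (zpowers zC).map (centralizer ({z} : Set G)).subtype :=
        (MonoidHom.map_zpowers (centralizer ({z} : Set G)).subtype zC).symm
      rw [hzz]
      exact comap_map_eq_self_of_injective (centralizer ({z} : Set G)).subtype_injective _
    have hm : (R ⊔ zpowers zC).map π = L ⊔ zpowers (zbar z) := by
      rw [Subgroup.map_sup, MonoidHom.map_zpowers, hmap]
      rfl
    show Odd ((residual z ⊔ zpowers z).subgroupOf (centralizer ({z} : Set G))).index
    rw [hsub, ← Subgroup.index_map_of_bijective (f := π)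
      ⟨hinj, QuotientGroup.mk'_surjective _⟩, hm]
    exact hT.odd_index

omit hnsol in
theorem split_of_split {z w : G} (hz : orderOf z = 2) (hw : orderOf w = 2) (h : Split z) :
    Split w := by
  obtain ⟨g, hg⟩ := isConj_iff.1 (hG.isConj hz hw)
  exact hg ▸ split_conj h

end Minimal

end CfsgLib.Walter
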